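import Cfsg.Agent.LargeExtra.W2.LFour.EnumMainChk2_mg_m3
import Cfsg.Agent.LargeExtra.W2.Iface
import Cfsg.Agent.WeakTI.Four2
import Mathlib.GroupTheory.FixedPointFree
import Cfsg.Agent.Lib.Hoist
import Cfsg.Agent.Lib.ListFast
import Cfsg.Agent.CoOneType.LThree
import Cfsg.Agent.LargeExtra.W2.ThreeA
import Cfsg.Agent.S0051
import Cfsg.Agent.HN.CloseTop
import Cfsg.Agent.LargeExtra.W2.LFour.EnumFinal
import Cfsg.Agent.FastGrp
import Cfsg.Agent.Prune
set_option linter.all false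

section
prune_inst 0x7ffcfefbadf8addfffff7e7fffffdffdf9fdffffffdffbfbffedfbffefdf6b63fbe5fb8fffec5aff9ef6e2beb0fa7b53fdffeeffef6bdc7ffffd5ff45ffbff9fffffbdad71debcbe1ffe6ffffbf97fce7f3fffffffffffffffffffffffffffffffffffffffff

-- part: LargeExtra/W2/LFour/CentD
section
prune_inst 0x1000000100000000000000000000400000000000000001000001020000c00000020000080004001000001000000020010000000210000000000800000400000000000000000000010000000003180c00000000000000000000000000000000000000000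
set_option linter.all false
open scoped Cfsg.Agent.FastGrp

-- part: LargeExtra/W2/LFour/TwoT
section
/-!
# S1759, `L₄(3)`: the centraliser of `⟨z, d⟩`, `d = i j k l` (helper156)

`W7` is a rewriting system for the Sylow 2-subgroup `⟨i, j, k, l, y, s⟩` (order `128`) of `C_G(z)` in the split case;
`phi h : DihedralGroup 4 × DihedralGroup 4 →* G` is injective with range `C_G({z, d})`.
-/

set_option autoImplicit false
set_option linter.unusedSimpArgs false

namespace Cfsg.Agent.LargeExtra.W2.LFour.TwoT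

open Cfsg.Agent.LargeExtra.W2

variable {G : Type*} [Group G] {Q : Subgroup G} {z i j k l x₁ x₂ y s : G}

private theorem ma {G : Type*} [Group G] (a b c : G) : a * b * c = a * (b * c) := mul_assoc a b c
private theorem om {G : Type*} [Group G] (a : G) : 1 * a = a := one_mul a
private theorem mo {G : Type*} [Group G] (a : G) : a * 1 = a := mul_one a

/-- rewriting rules for words in `i, j, k, l, z, y, s` (in this order) -/
structure W7 (z i j k l y s : G) : Prop where
  ii : i * i = z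
  zi : z * i = i * z
  jj : j * j = z
  zj : z * j = j * z
  kk : k * k = z
  zk : z * k = k * z
  ll : l * l = z
  zl : z * l = l * z
  zz : z * z = 1
  ji : j * i = i * (j * z)
  ki : k * i = i * k
  li : l * i = i * l
  kj : k * j = j * k
  lj : l * j = j * l
  lk : l * k = k * (l * z)
  yi : y * i = j * (z * y)
  yj : y * j = i * (z * y)
  yk : y * k = l * (z * y)
  yl : y * l = k * (z * y)
  yz : y * z = z * y
  yy : y * y = 1
  si : s * i = k * s
  sj : s * j = l * s
  sk : s * k = i * s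
  sl : s * l = j * s
  sz : s * z = z * s
  sy : s * y = y * s
  ss : s * s = 1

namespace W7

theorem ii_ (h : W7 z i j k l y s) (g : G) : i * (i * g) = z * g := by
  rw [← mul_assoc, h.ii]

theorem zi_ (h : W7 z i j k l y s) (g : G) : z * (i * g) = i * (z * g) := by
  rw [← mul_assoc, h.zi]; simp only [mul_assoc]

theorem jj_ (h : W7 z i j k l y s) (g : G) : j * (j * g) = z * g := by
  rw [← mul_assoc, h.jj]

theorem zj_ (h : W7 z i j k l y s) (g : G) : z * (j * g) = j * (z * g) := by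
  rw [← mul_assoc, h.zj]; simp only [mul_assoc]

theorem kk_ (h : W7 z i j k l y s) (g : G) : k * (k * g) = z * g := by
  rw [← mul_assoc, h.kk]

theorem zk_ (h : W7 z i j k l y s) (g : G) : z * (k * g) = k * (z * g) := by
  rw [← mul_assoc, h.zk]; simp only [mul_assoc]

theorem ll_ (h : W7 z i j k l y s) (g : G) : l * (l * g) = z * g := by
  rw [← mul_assoc, h.ll]

theorem zl_ (h : W7 z i j k l y s) (g : G) : z * (l * g) = l * (z * g) := by
  rw [← mul_assoc, h.zl]; simp only [mul_assoc]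

theorem zz_ (h : W7 z i j k l y s) (g : G) : z * (z * g) = g := by
  rw [← mul_assoc, h.zz]; exact one_mul g

theorem ji_ (h : W7 z i j k l y s) (g : G) : j * (i * g) = i * (j * (z * g)) := by
  rw [← mul_assoc, h.ji]; simp only [mul_assoc]

theorem ki_ (h : W7 z i j k l y s) (g : G) : k * (i * g) = i * (k * g) := by
  rw [← mul_assoc, h.ki]; simp only [mul_assoc]

theorem li_ (h : W7 z i j k l y s) (g : G) : l * (i * g) = i * (l * g) := by
  rw [← mul_assoc, h.li]; simp only [mul_assoc]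

theorem kj_ (h : W7 z i j k l y s) (g : G) : k * (j * g) = j * (k * g) := by
  rw [← mul_assoc, h.kj]; simp only [mul_assoc]

theorem lj_ (h : W7 z i j k l y s) (g : G) : l * (j * g) = j * (l * g) := by
  rw [← mul_assoc, h.lj]; simp only [mul_assoc]

theorem lk_ (h : W7 z i j k l y s) (g : G) : l * (k * g) = k * (l * (z * g)) := by
  rw [← mul_assoc, h.lk]; simp only [mul_assoc]

theorem yi_ (h : W7 z i j k l y s) (g : G) : y * (i * g) = j * (z * (y * g)) := by
  rw [← mul_assoc, h.yi]; simp only [mul_assoc]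

theorem yj_ (h : W7 z i j k l y s) (g : G) : y * (j * g) = i * (z * (y * g)) := by
  rw [← mul_assoc, h.yj]; simp only [mul_assoc]

theorem yk_ (h : W7 z i j k l y s) (g : G) : y * (k * g) = l * (z * (y * g)) := by
  rw [← mul_assoc, h.yk]; simp only [mul_assoc]

theorem yl_ (h : W7 z i j k l y s) (g : G) : y * (l * g) = k * (z * (y * g)) := by
  rw [← mul_assoc, h.yl]; simp only [mul_assoc]

theorem yz_ (h : W7 z i j k l y s) (g : G) : y * (z * g) = z * (y * g) := by
  rw [← mul_assoc, h.yz]; simp only [mul_assoc]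

theorem yy_ (h : W7 z i j k l y s) (g : G) : y * (y * g) = g := by
  rw [← mul_assoc, h.yy]; exact one_mul g

theorem si_ (h : W7 z i j k l y s) (g : G) : s * (i * g) = k * (s * g) := by
  rw [← mul_assoc, h.si]; simp only [mul_assoc]

theorem sj_ (h : W7 z i j k l y s) (g : G) : s * (j * g) = l * (s * g) := by
  rw [← mul_assoc, h.sj]; simp only [mul_assoc]

theorem sk_ (h : W7 z i j k l y s) (g : G) : s * (k * g) = i * (s * g) := by
  rw [← mul_assoc, h.sk]; simp only [mul_assoc]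

theorem sl_ (h : W7 z i j k l y s) (g : G) : s * (l * g) = j * (s * g) := by
  rw [← mul_assoc, h.sl]; simp only [mul_assoc]

theorem sz_ (h : W7 z i j k l y s) (g : G) : s * (z * g) = z * (s * g) := by
  rw [← mul_assoc, h.sz]; simp only [mul_assoc]

theorem sy_ (h : W7 z i j k l y s) (g : G) : s * (y * g) = y * (s * g) := by
  rw [← mul_assoc, h.sy]; simp only [mul_assoc]

theorem inv_i (h : W7 z i j k l y s) : i⁻¹ = i * z := by
  apply inv_eq_of_mul_eq_one_right
  rw [← mul_assoc, h.ii, h.zz]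

theorem inv_j (h : W7 z i j k l y s) : j⁻¹ = j * z := by
  apply inv_eq_of_mul_eq_one_right
  rw [← mul_assoc, h.jj, h.zz]

theorem inv_k (h : W7 z i j k l y s) : k⁻¹ = k * z := by
  apply inv_eq_of_mul_eq_one_right
  rw [← mul_assoc, h.kk, h.zz]

theorem inv_l (h : W7 z i j k l y s) : l⁻¹ = l * z := by
  apply inv_eq_of_mul_eq_one_right
  rw [← mul_assoc, h.ll, h.zz]

theorem inv_z (h : W7 z i j k l y s) : z⁻¹ = z := inv_eq_of_mul_eq_one_right h.zz
theorem inv_y (h : W7 z i j k l y s) : y⁻¹ = y := inv_eq_of_mul_eq_one_right h.yy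
theorem inv_s (h : W7 z i j k l y s) : s⁻¹ = s := inv_eq_of_mul_eq_one_right h.ss

end W7

/-- the rules hold in the case `9aa` with trivial twists -/
theorem w7 (h : Case9aa Q z i j k l x₁ x₂ y s) (hy : y * y = 1) (hs : s * s = 1)
    (hsy : s * y = y * s) : W7 z i j k l y s := by
  have hQ : ∀ g ∈ ({i, j, k, l} : Set G), g * z = z * g := fun g hg =>
    h.large.comm_z _ (h.gen ▸ Subgroup.subset_closure hg)
  have hi := hQ i (by simp)
  have hj := hQ j (by simp)
  have hk := hQ k (by simp)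
  have hl := hQ l (by simp)
  have c : ∀ {a b c : G}, a * b * a⁻¹ = c → a * b = c * a := fun h => by rw [← h]; group
  refine ⟨h.ii, hi.symm, h.jj, hj.symm, h.kk, hk.symm, h.ll, hl.symm, h.large.z_sq, ?_, h.ki, h.li,
    h.kj, h.lj, ?_, ?_, ?_, ?_, ?_, ?_, hy, ?_, ?_, ?_, ?_, ?_, hsy, hs⟩
  · rw [h.ji, mul_assoc]
  · rw [h.lk, mul_assoc]
  · rw [c h.y_act.i, mul_assoc]
  · rw [c h.y_act.j, mul_assoc]
  · rw [c h.y_act.k, mul_assoc]
  · rw [c h.y_act.l, mul_assoc]
  · exact c h.y_act.z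
  · exact c h.s_act.i
  · exact c h.s_act.j
  · exact c h.s_act.k
  · exact c h.s_act.l
  · exact c h.s_act.z

/-! ### Homomorphisms from the dihedral group of order 8 -/

/-- powers of `a`, `a ^ 4 = 1`, indexed by `ZMod 4` -/
def pw (a : G) (n : ZMod 4) : G := a ^ n.val

theorem pw_add {a : G} (ha : a ^ 4 = 1) (m n : ZMod 4) : pw a (m + n) = pw a m * pw a n := by
  unfold pw
  rw [ZMod.val_add, ← pow_add, ← pow_eq_pow_mod _ ha]

theorem pw_zero (a : G) : pw a 0 = 1 := by
  unfold pw; rw [ZMod.val_zero, pow_zero]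

theorem pw_neg {a : G} (ha : a ^ 4 = 1) (m : ZMod 4) : pw a (-m) = (pw a m)⁻¹ := by
  apply eq_inv_of_mul_eq_one_left
  rw [← pw_add ha, neg_add_cancel, pw_zero]

/-- the homomorphism `r 1 ↦ a`, `sr 0 ↦ b` -/
def d4 (a b : G) (ha : a ^ 4 = 1) (hb : b * b = 1) (hab : b * a = a⁻¹ * b) :
    DihedralGroup 4 →* G where
  toFun x := match x with
    | .r n => pw a n
    | .sr n => b * pw a n
  map_one' := pw_zero a
  map_mul' := by
    have hc : ∀ n : ZMod 4, pw a n * b = b * (pw a n)⁻¹ := by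
      have h1 : ∀ n : ℕ, a ^ n * b = b * (a ^ n)⁻¹ := by
        intro n
        induction n with
        | zero => simp
        | succ n ih =>
          have h2 : a * b = b * a⁻¹ := by
            have h3 : b * (a * b) = a⁻¹ := by rw [← mul_assoc, hab, mul_assoc, hb, mul_one]
            calc a * b = b * (b * (a * b)) := by rw [← mul_assoc, hb, one_mul]
              _ = b * a⁻¹ := by rw [h3]
          rw [pow_succ, mul_assoc, h2, ← mul_assoc, ih, mul_inv_rev, mul_assoc]
          congr 1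
          rw [← mul_inv_rev, ← mul_inv_rev, ← pow_succ, ← pow_succ']
      intro n
      exact h1 _
    rintro (m | m) (n | n)
    · rw [DihedralGroup.r_mul_r]; exact pw_add ha m n
    · rw [DihedralGroup.r_mul_sr]
      show b * pw a (n - m) = pw a m * (b * pw a n)
      rw [← mul_assoc, hc, mul_assoc, sub_eq_add_neg, add_comm, pw_add ha, pw_neg ha]
    · rw [DihedralGroup.sr_mul_r]
      show b * pw a (m + n) = b * pw a m * pw a n
      rw [pw_add ha, mul_assoc]
    · rw [DihedralGroup.sr_mul_sr]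
      show pw a (n - m) = b * pw a m * (b * pw a n)
      have h1 : b * pw a m * b = (pw a m)⁻¹ := by rw [mul_assoc, hc, ← mul_assoc, hb, one_mul]
      rw [← mul_assoc, h1, sub_eq_add_neg, add_comm, pw_add ha, pw_neg ha]

abbrev D4 := DihedralGroup 4
abbrev M := D4 × D4

open DihedralGroup

section

variable (h : W7 z i j k l y s)
include h

theorem rel_a : (y * (i * k)) ^ 4 = 1 := by
  rw [show (4 : ℕ) = 1 + 1 + 1 + 1 from rfl, pow_succ, pow_succ, pow_succ, pow_one]
  simp only [ma, mo, h.ii_, h.jj_, h.kk, h.zk_, h.ll_, h.zl_, h.zz, h.zz_, h.ji_, h.ki_, h.li_, h.kj_, h.lj_, h.lk, h.yi_, h.yj_, h.yk, h.yl_, h.yy, mo]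

theorem rel_a2 : (y * (i * l)) ^ 4 = 1 := by
  rw [show (4 : ℕ) = 1 + 1 + 1 + 1 from rfl, pow_succ, pow_succ, pow_succ, pow_one]
  simp only [ma, mo, h.ii_, h.jj_, h.zj_, h.kk_, h.zk_, h.ll, h.zl, h.zl_, h.zz, h.zz_, h.ji_, h.ki_, h.li_, h.kj_, h.lj_, h.lk_, h.yi_, h.yj_, h.yk_, h.yl, h.yy, mo]

theorem rel_b : (s * y) * (s * y) = 1 := by
  simp only [ma, mo, h.yy, h.sy, h.sy_, h.ss, mo]

theorem rel_ab : (s * y) * (y * (i * k)) = (y * (i * k))⁻¹ * (s * y) := by
  simp only [ma, h.zk_, h.zl_, h.zz_, h.ki_, h.lj_, h.yi_, h.yj_, h.yk, h.yl_, h.yz, h.yy_, h.sj_, h.sl_, h.sy, mul_inv_rev, h.inv_j, h.inv_l, h.inv_y]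

theorem rel_ab2 : s * (y * (i * l)) = (y * (i * l))⁻¹ * s := by
  simp only [ma, h.zk_, h.zz_, h.li_, h.yi_, h.yj_, h.yk_, h.yl, h.yz, h.sj_, h.sk_, h.sy, mul_inv_rev, h.inv_j, h.inv_k, h.inv_y]

/-- `D₁ = ⟨d, s y, s i k⟩` -/
def phi1 : D4 →* G := d4 (y * (i * k)) (s * y) (rel_a h) (rel_b h) (rel_ab h)

/-- `D_L = ⟨d z, s, s y i l⟩` -/
def phi2 : D4 →* G := d4 (y * (i * l)) s (rel_a2 h) h.ss (rel_ab2 h)

theorem comm12 (a b : D4) : Commute (phi1 h a) (phi2 h b) := by
  have c1 : Commute (y * (i * k)) (y * (i * l)) := by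
    show y * (i * k) * (y * (i * l)) = y * (i * l) * (y * (i * k))
    simp only [ma, mo, h.kk, h.zk_, h.ll, h.zl_, h.zz, h.zz_, h.ji_, h.ki_, h.li_, h.yi_, h.yj_, h.yk, h.yk_, h.yl, h.yl_, h.yy, mo]
  have c2 : Commute (y * (i * k)) s := by
    show y * (i * k) * s = s * (y * (i * k))
    simp only [ma, h.zl_, h.zz_, h.lj_, h.yi_, h.yk, h.sj_, h.sl_, h.sy]
  have c3 : Commute (s * y) (y * (i * l)) := by
    show s * y * (y * (i * l)) = y * (i * l) * (s * y)
    simp only [ma, h.zk_, h.zz_, h.li_, h.yi_, h.yl, h.yl_, h.yy_, h.sj_, h.sk_, h.sy]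
  have c4 : Commute (s * y) s := by
    show s * y * s = s * (s * y)
    simp only [ma, mo, h.sy, h.sy_, h.ss, mo]
  rcases a with m | m <;> rcases b with n | n
  · exact c1.pow_pow _ _
  · exact (c2.pow_left _).mul_right (c1.pow_pow _ _)
  · exact (c3.pow_right _).mul_left (c1.pow_pow _ _)
  · exact (c4.mul_right (c3.pow_right _)).mul_left ((c2.pow_left _).mul_right (c1.pow_pow _ _))

/-- the parametrisation of `C_G({z, d})` -/
def phi : M →* G where
  toFun x := phi1 h x.1 * phi2 h x.2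
  map_one' := by simp
  map_mul' x w := by
    show phi1 h (x.1 * w.1) * phi2 h (x.2 * w.2) = phi1 h x.1 * phi2 h x.2 * (phi1 h w.1 * phi2 h w.2)
    rw [map_mul, map_mul, mul_assoc, mul_assoc, ← mul_assoc (phi1 h w.1), (comm12 h w.1 x.2).eq,
      mul_assoc]

theorem phi_apply (a b : D4) : phi h (a, b) = phi1 h a * phi2 h b := rfl

/-! values -/

theorem v_a (n : ZMod 4) : phi1 h (r n) = (y * (i * k)) ^ n.val := rfl
theorem v_b (n : ZMod 4) : phi1 h (sr n) = s * y * (y * (i * k)) ^ n.val := rfl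
theorem v_c (n : ZMod 4) : phi2 h (r n) = (y * (i * l)) ^ n.val := rfl
theorem v_d (n : ZMod 4) : phi2 h (sr n) = s * (y * (i * l)) ^ n.val := rfl

theorem phi_d : phi h (r 2, 1) = i * j * k * l := by
  rw [phi_apply, map_one, v_a, show (2 : ZMod 4).val = 2 from rfl, pow_two]
  simp only [ma, mo, h.zk_, h.zl_, h.zz, h.zz_, h.ji_, h.li_, h.lk, h.yi_, h.yj_, h.yk, h.yl_, h.yy, mo]

theorem phi_dz : phi h (1, r 2) = i * j * k * l * z := by
  rw [phi_apply, map_one, v_c, show (2 : ZMod 4).val = 2 from rfl, pow_two]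
  simp only [ma, mo, om, h.zk_, h.zl, h.zl_, h.zz, h.zz_, h.ji_, h.ki_, h.yi_, h.yj_, h.yk_, h.yl, h.yy, mo, om]

theorem phi_z : phi h (r 2, r 2) = z := by
  have h1 : phi h (r 2, r 2) = phi h (r 2, 1) * phi h (1, r 2) := by rw [← map_mul]; rfl
  rw [h1, phi_d, phi_dz]
  simp only [ma, mo, h.ii, h.jj_, h.zj, h.kk_, h.ll, h.zl_, h.zz, h.ji_, h.ki_, h.li_, h.kj_, h.lj_, h.lk_, mo]

theorem phi_sy : phi h (sr 0, 1) = s * y := by
  rw [phi_apply, map_one, v_b, show (0 : ZMod 4).val = 0 from rfl, pow_zero, mul_one, mul_one]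

theorem phi_s : phi h (1, sr 0) = s := by
  rw [phi_apply, map_one, v_d, show (0 : ZMod 4).val = 0 from rfl, pow_zero, mul_one, one_mul]

theorem phi_y : phi h (sr 0, sr 0) = y := by
  have h1 : phi h (sr 0, sr 0) = phi h (sr 0, 1) * phi h (1, sr 0) := by rw [← map_mul]; rfl
  rw [h1, phi_sy, phi_s]
  simp only [ma, mo, h.sy, h.ss, mo]

theorem phi_yik : phi h (r 1, 1) = y * (i * k) := by
  rw [phi_apply, map_one, v_a, show (1 : ZMod 4).val = 1 from rfl, pow_one, mul_one]

theorem phi_yil : phi h (1, r 1) = y * (i * l) := by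
  rw [phi_apply, map_one, v_c, show (1 : ZMod 4).val = 1 from rfl, pow_one, one_mul]

theorem phi_sik : phi h (sr 1, 1) = s * (i * k) := by
  have h1 : phi h (sr 1, 1) = phi h (sr 0, 1) * phi h (r 1, 1) := by rw [← map_mul]; rfl
  rw [h1, phi_sy, phi_yik]
  simp only [ma, h.zk_, h.zl_, h.zz_, h.ki_, h.lj_, h.yi_, h.yj_, h.yk, h.yl_, h.yy_, h.si_, h.sj_, h.sk, h.sl_, h.sy]

theorem phi_syil : phi h (1, sr 1) = s * y * (i * l) := by
  have h1 : phi h (1, sr 1) = phi h (1, sr 0) * phi h (1, r 1) := by rw [← map_mul]; rfl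
  rw [h1, phi_s, phi_yil]
  simp only [ma, h.zk_, h.zl_, h.zz_, h.li_, h.kj_, h.yi_, h.yj_, h.yk_, h.yl, h.si_, h.sj_, h.sk_, h.sl, h.sy]

theorem phi_ik : phi h (sr 1, sr 0) = i * k := by
  have h1 : phi h (sr 1, sr 0) = phi h (1, sr 0) * phi h (sr 1, 1) := by rw [← map_mul]; rfl
  rw [h1, phi_s, phi_sik]
  simp only [mul_one, h.ki, h.ki_, h.si_, h.sk, h.sk_, h.ss, mul_one]

theorem phi_il : phi h (sr 0, sr 1) = i * l := by
  have h1 : phi h (sr 0, sr 1) = phi h (sr 0, 1) * phi h (1, sr 1) := by rw [← map_mul]; rfl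
  rw [h1, phi_sy, phi_syil]
  simp only [ma, mo, h.zl_, h.zz, h.zz_, h.kj_, h.yj_, h.yk_, h.yy, h.si_, h.sl, h.sl_, h.sy, h.sy_, h.ss, mo]

end

/-! ### Injectivity -/

theorem cen : ∀ x : M, x ≠ 1 → (x = (r 2, 1) ∨ x = (1, r 2) ∨ x = (r 2, r 2)) ∨
    ∃ c : M, x * c * x⁻¹ * c⁻¹ = (r 2, 1) ∨ x * c * x⁻¹ * c⁻¹ = (1, r 2) ∨
      x * c * x⁻¹ * c⁻¹ = (r 2, r 2) := by decide +kernel

theorem i_d (h : W7 z i j k l y s) : i * (i * j * k * l) * i⁻¹ = i * j * k * l * z := by
  simp only [ma, mo, h.ii_, h.zi_, h.zj_, h.zk_, h.zl, h.zz, h.ji_, h.ki_, h.li, h.inv_i, mo]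

theorem phi_injective (h : W7 z i j k l y s) (hz : z ≠ 1) : Function.Injective (phi h) := by
  have hd : i * j * k * l ≠ 1 := by
    intro h1
    have h2 := i_d h
    rw [h1, mul_one, mul_inv_cancel, one_mul] at h2
    exact hz h2.symm
  have hdz : i * j * k * l * z ≠ 1 := by
    intro h1
    have h2 := i_d h
    rw [h1, eq_inv_of_mul_eq_one_left h1] at h2
    apply hz
    have h3 : z⁻¹ = i⁻¹ * (i * z⁻¹ * i⁻¹) * i := by group
    rw [h2] at h3
    rw [← inv_inv z, h3]
    simp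
  rw [injective_iff_map_eq_one]
  intro x hx
  by_contra hne
  have h3 : ∀ x : M, phi h x = 1 → (x = (r 2, 1) ∨ x = (1, r 2) ∨ x = (r 2, r 2)) → False := by
    rintro x hx (rfl | rfl | rfl)
    · rw [phi_d] at hx; exact hd hx
    · rw [phi_dz] at hx; exact hdz hx
    · rw [phi_z] at hx; exact hz hx
  rcases cen x hne with h1 | ⟨c, h1⟩
  · exact h3 x hx h1
  · apply h3 _ _ h1
    rw [map_mul, map_mul, map_mul, hx, map_inv, map_inv, hx]
    simp

end Cfsg.Agent.LargeExtra.W2.LFour.TwoT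
end

-- part: LargeExtra/W2/LFour/ElemN
section
/-!
# S1759, `L₄(3)`: the elements `w, w'` (helper156)

`E = ⟨z, y, d, s⟩ = U₁ × U₂`; `N_G(E)` is generated modulo `E` by `θ` and the conjugates of `θ` under `i k`, `i l`.
-/

set_option autoImplicit false
set_option linter.unusedSimpArgs false

namespace Cfsg.Agent.LargeExtra.W2.LFour.ElemN

open Cfsg.Agent.LargeExtra.W2 Cfsg.Agent.LargeExtra.W2.LFour.TwoT DihedralGroup

variable {G : Type*} [Group G] {Q : Subgroup G} {z i j k l x₁ x₂ y s θ : G}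

/-- the four-group `⟨r 2, sr 0⟩` of `D₄` -/
abbrev K (a : D4) : Prop := a = 1 ∨ a = r 2 ∨ a = sr 0 ∨ a = sr 2

/-- `E` in `D₄ × D₄` -/
abbrev KK (x : M) : Prop := K x.1 ∧ K x.2

/-- the three-cycle `r 2 → sr 2 → sr 0 → r 2` -/
def cyc (a : D4) : D4 :=
  if a = sr 0 then r 2 else if a = r 2 then sr 2 else if a = sr 2 then sr 0 else a

/-- `g` acts on `E` as `f` -/
def Acts (h : W7 z i j k l y s) (g : G) (f : M → M) : Prop :=
  ∀ x, KK x → g * phi h x * g⁻¹ = phi h (f x)

/-- `C_G(E) = E` -/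
def CE (h : W7 z i j k l y s) : Prop :=
  ∀ c, (∀ x, KK x → c * phi h x = phi h x * c) → ∃ x, KK x ∧ c = phi h x

section

variable (h : W7 z i j k l y s)

theorem Acts.congr {g : G} {f f' : M → M} (hg : Acts h g f) (hf : ∀ x, KK x → f x = f' x) :
    Acts h g f' := fun x hx => by rw [hg x hx, hf x hx]

theorem Acts.mul {g g' : G} {f f' : M → M} (hg : Acts h g f) (hg' : Acts h g' f')
    (hK : ∀ x, KK x → KK (f' x)) : Acts h (g * g') (fun x => f (f' x)) := by
  intro x hx
  rw [← hg _ (hK x hx), ← hg' x hx]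
  group

theorem Acts.phi (m : M) : Acts h (TwoT.phi h m) (fun x => m * x * m⁻¹) := by
  intro x _
  rw [map_mul, map_mul, map_inv]

theorem Acts.one : Acts h (1 : G) (fun x => x) := by
  intro x _
  simp

/-- the action is determined by the images of the generators -/
theorem Acts.of_gen {g : G} {f : M → M} {a b c e : G}
    (h1 : g * (i * j * k * l) * g⁻¹ = a) (h2 : g * (i * j * k * l * z) * g⁻¹ = b)
    (h3 : g * (s * y) * g⁻¹ = c) (h4 : g * s * g⁻¹ = e)
    (f1 : TwoT.phi h (f (r 2, 1)) = a) (f2 : TwoT.phi h (f (1, r 2)) = b)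
    (f3 : TwoT.phi h (f (sr 0, 1)) = c) (f4 : TwoT.phi h (f (1, sr 0)) = e)
    (hf : ∀ x x' : M, KK x → KK x' → f (x * x') = f x * f x') : Acts h g f := by
  have hmul : ∀ x x' : M, KK x → KK x' → g * TwoT.phi h x * g⁻¹ = TwoT.phi h (f x) →
      g * TwoT.phi h x' * g⁻¹ = TwoT.phi h (f x') →
      g * TwoT.phi h (x * x') * g⁻¹ = TwoT.phi h (f (x * x')) := by
    intro x x' k1 k2 e1 e2
    rw [hf x x' k1 k2, map_mul, map_mul, ← e1, ← e2]
    group
  have e1 : g * TwoT.phi h (r 2, 1) * g⁻¹ = TwoT.phi h (f (r 2, 1)) := by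
    rw [phi_d, f1, h1]
  have e2 : g * TwoT.phi h (1, r 2) * g⁻¹ = TwoT.phi h (f (1, r 2)) := by
    rw [phi_dz, f2, h2]
  have e3 : g * TwoT.phi h (sr 0, 1) * g⁻¹ = TwoT.phi h (f (sr 0, 1)) := by
    rw [phi_sy, f3, h3]
  have e4 : g * TwoT.phi h (1, sr 0) * g⁻¹ = TwoT.phi h (f (1, sr 0)) := by
    rw [phi_s, f4, h4]
  have k0 : KK ((1, 1) : M) := by decide
  have e0 : g * TwoT.phi h (1, 1) * g⁻¹ = TwoT.phi h (f (1, 1)) := by
    have h5 : f (1, 1) = 1 := by
      have h6 := hf (1, 1) (1, 1) k0 k0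
      have h7 : f (1, 1) * 1 = f (1, 1) * f (1, 1) := by rw [mul_one]; exact h6
      exact (mul_left_cancel h7).symm
    rw [h5]
    show g * TwoT.phi h 1 * g⁻¹ = _
    rw [map_one]
    simp
  have e13 := hmul (sr 0, 1) (r 2, 1) (by decide) (by decide) e3 e1
  have e24 := hmul (1, sr 0) (1, r 2) (by decide) (by decide) e4 e2
  have l1 : ∀ a, K a → g * TwoT.phi h (a, 1) * g⁻¹ = TwoT.phi h (f (a, 1)) := by
    rintro a (rfl | rfl | rfl | rfl)
    · exact e0
    · exact e1
    · exact e3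
    · exact e13
  have l2 : ∀ a, K a → g * TwoT.phi h (1, a) * g⁻¹ = TwoT.phi h (f (1, a)) := by
    rintro a (rfl | rfl | rfl | rfl)
    · exact e0
    · exact e2
    · exact e4
    · exact e24
  rintro ⟨a, b⟩ ⟨ka, kb⟩
  have h5 := hmul (a, 1) (1, b) ⟨ka, Or.inl rfl⟩ ⟨Or.inl rfl, kb⟩ (l1 a ka) (l2 b kb)
  rwa [show ((a, 1) * (1, b) : M) = (a, b) by simp] at h5

end

theorem K_mul_comm : ∀ x x' : M, KK x → KK x' → x * x' = x' * x := by (set_option synthInstance.maxSize 2000 in open scoped Cfsg.Agent.Lib.Hoist in decide +kernel)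
theorem K_mul' : ∀ a b : D4, K a → K b → K (a * b) := by decide +kernel
theorem K_mul (x x' : M) (hx : KK x) (hx' : KK x') : KK (x * x') :=
  ⟨K_mul' _ _ hx.1 hx'.1, K_mul' _ _ hx.2 hx'.2⟩
theorem K_sq : ∀ x : M, KK x → x * x = 1 := by decide +kernel

/-- an element acting with order three on `E` has a power of order three -/
theorem pow_four {h : W7 z i j k l y s} (hE : CE h) {g : G} {f : M → M} (hg : Acts h g f)
    (hK : ∀ x, KK x → KK (f x)) (h3 : ∀ x, KK x → f (f (f x)) = x) :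
    (g ^ 4) ^ 3 = 1 ∧ Acts h (g ^ 4) f := by
  have h1 : Acts h (g * (g * g)) (fun x => x) :=
    (Acts.mul h hg (Acts.mul h hg hg hK) (fun x hx => hK _ (hK _ hx))).congr h h3
  obtain ⟨x, hx, hx'⟩ := hE (g * (g * g)) (fun x hx => by
    have := h1 x hx
    rw [mul_inv_eq_iff_eq_mul] at this
    exact this)
  have h6 : (g * (g * g)) * (g * (g * g)) = 1 := by
    rw [hx', ← map_mul, K_sq x hx, map_one]
  refine ⟨?_, ?_⟩
  · have : (g ^ 4) ^ 3 = ((g * (g * g)) * (g * (g * g))) ^ 2 := by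
      simp only [pow_succ, pow_zero, one_mul, mul_assoc]
    rw [this, h6, one_pow]
  · have h4 : g ^ 4 = g * (g * (g * g)) := by
      simp only [pow_succ, pow_zero, one_mul, mul_assoc]
    rw [h4]
    exact (Acts.mul h hg h1 (fun x hx => hx))

/-- if `t` commutes with `w` modulo `C_G(E)` then `w t w⁻¹ = ε t` with `ε` of norm one -/
theorem norm {h : W7 z i j k l y s} (hE : CE h) (hi : Function.Injective (phi h)) {w t : G}
    {f : M → M} (hw : Acts h w f) (hK : ∀ x, KK x → KK (f x)) (h3 : w ^ 3 = 1)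
    (ht : Acts h (w * t * w⁻¹ * t⁻¹) (fun x => x)) :
    ∃ ε, KK ε ∧ w * t * w⁻¹ = phi h ε * t ∧ f (f ε) * f ε * ε = 1 := by
  obtain ⟨ε, hε, he⟩ := hE (w * t * w⁻¹ * t⁻¹) (fun x hx => by
    have := ht x hx
    rw [mul_inv_eq_iff_eq_mul] at this
    exact this)
  have h1 : w * t * w⁻¹ = phi h ε * t := by rw [← he]; group
  refine ⟨ε, hε, h1, hi ?_⟩
  rw [map_one, map_mul, map_mul, ← hw _ (hK _ hε), ← hw _ hε]
  have h4 : w * (w * phi h ε * w⁻¹) * w⁻¹ * (w * phi h ε * w⁻¹) * phi h ε * t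
      = w ^ 3 * t * (w ^ 3)⁻¹ := by
    have h5 : phi h ε * t = w * t * w⁻¹ := h1.symm
    calc w * (w * phi h ε * w⁻¹) * w⁻¹ * (w * phi h ε * w⁻¹) * phi h ε * t
        = w * (w * phi h ε * w⁻¹) * w⁻¹ * (w * phi h ε * w⁻¹) * (phi h ε * t) := by group
      _ = w * (w * phi h ε * w⁻¹) * w⁻¹ * (w * phi h ε * w⁻¹) * (w * t * w⁻¹) := by rw [h5]
      _ = w * w * phi h ε * w⁻¹ * (phi h ε * t) * w⁻¹ := by group
      _ = w * w * phi h ε * w⁻¹ * (w * t * w⁻¹) * w⁻¹ := by rw [h5]
      _ = w * w * (phi h ε * t) * w⁻¹ * w⁻¹ := by group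
      _ = w * w * (w * t * w⁻¹) * w⁻¹ * w⁻¹ := by rw [h5]
      _ = w ^ 3 * t * (w ^ 3)⁻¹ := by
        simp only [pow_succ, pow_zero, one_mul, mul_assoc, mul_inv_rev]
  rw [h3] at h4
  simpa only [_root_.conj_mul, _root_.one_mul, _root_.inv_one, _root_.mul_one, _root_.mul_eq_right] using h4

/-- if the involution `m` inverts `w` modulo `C_G(E)`, then it inverts a conjugate of `w` under `E` -/
theorem invert {h : W7 z i j k l y s} (hE : CE h) (hi : Function.Injective (phi h)) {w : G}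
    {F : M → M} (hw : Acts h w F) (hK : ∀ x, KK x → KK (F x)) (hF : ∀ x, KK x → F (F (F x)) = x)
    (h3 : w ^ 3 = 1) (hw' : Acts h w⁻¹ (fun x => F (F x))) (m : M) (hm2 : m * m = 1)
    (hmK : ∀ x, KK x → KK (m * x * m⁻¹))
    (hinv : ∀ x, KK x → m * F (m⁻¹ * F x * m⁻¹⁻¹) * m⁻¹ = x) (P : M → Prop)
    (hsel : ∀ ε, KK ε → ε * F (F ε) * F ε = 1 → m * ε * m⁻¹ = F ε →
      ∃ f, KK f ∧ P f ∧ (m * f * m⁻¹) * ε * F (F (m * f * m⁻¹)) = f * F (F f)) :
    ∃ f, KK f ∧ P f ∧ phi h m * (phi h f * w * (phi h f)⁻¹) * (phi h m)⁻¹ =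
      (phi h f * w * (phi h f)⁻¹)⁻¹ := by
  have hm1 : m⁻¹ = m := inv_eq_of_mul_eq_one_left hm2
  have am := Acts.phi h m
  have am' : Acts h (phi h m)⁻¹ (fun x => m⁻¹ * x * m⁻¹⁻¹) := by
    have := Acts.phi h m⁻¹
    rwa [map_inv] at this
  have hmK' : ∀ x, KK x → KK (m⁻¹ * x * m⁻¹⁻¹) := by
    intro x hx
    rw [hm1]
    exact hmK x hx
  have hc : Acts h (phi h m * (w * ((phi h m)⁻¹ * w))) (fun x => x) :=
    (Acts.mul h am (Acts.mul h hw (Acts.mul h am' hw hK) (fun x hx => hmK' _ (hK _ hx)))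
      (fun x hx => hK _ (hmK' _ (hK _ hx)))).congr h hinv
  obtain ⟨ε, hε, he⟩ := hE _ (fun x hx => by
    have := hc x hx
    rw [mul_inv_eq_iff_eq_mul] at this
    exact this)
  have hv : phi h m * w * (phi h m)⁻¹ = phi h ε * w⁻¹ := by
    rw [← he]; group
  have w3' : w⁻¹ * w⁻¹ * w⁻¹ = 1 := by
    have : w⁻¹ * w⁻¹ * w⁻¹ = (w ^ 3)⁻¹ := by
      simp only [pow_succ, pow_zero, one_mul, mul_assoc, mul_inv_rev]
    rw [this, h3, inv_one]
  have pinv : ∀ x, KK x → (phi h x)⁻¹ = phi h x := by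
    intro x hx
    apply inv_eq_of_mul_eq_one_left
    rw [← map_mul, K_sq x hx, map_one]
  -- the norm
  have n1 : ε * F (F ε) * F ε = 1 := by
    apply hi
    have e1 : (phi h m * w * (phi h m)⁻¹) ^ 3 = 1 := by
      have : (phi h m * w * (phi h m)⁻¹) ^ 3 = phi h m * w ^ 3 * (phi h m)⁻¹ := by
        simp only [pow_succ, pow_zero, one_mul, mul_assoc, inv_mul_cancel_left]
      rw [this, h3]; simp
    rw [hv] at e1
    have e2 : w⁻¹ * phi h ε * w⁻¹⁻¹ = phi h (F (F ε)) := hw' ε hε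
    have e3 : w⁻¹ * phi h (F (F ε)) * w⁻¹⁻¹ = phi h (F (F (F (F ε)))) :=
      hw' (F (F ε)) (hK _ (hK _ hε))
    rw [hF _ (hK _ hε)] at e3
    rw [map_one, map_mul, map_mul, ← e1]
    symm
    calc (phi h ε * w⁻¹) ^ 3
        = phi h ε * (w⁻¹ * phi h ε * w⁻¹⁻¹) * (w⁻¹ * (w⁻¹ * phi h ε * w⁻¹⁻¹) * w⁻¹⁻¹) *
          (w⁻¹ * w⁻¹ * w⁻¹) := by
          simp only [pow_succ, pow_zero, one_mul, mul_assoc, inv_mul_cancel_left]
      _ = phi h ε * phi h (F (F ε)) * phi h (F ε) := by rw [e2, e3, w3', mul_one]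
  -- the involution
  have n2 : m * ε * m⁻¹ = F ε := by
    apply hi
    have e1 : phi h m * phi h m = 1 := by rw [← map_mul, hm2, map_one]
    have e2 : phi h m * (phi h m * w * (phi h m)⁻¹) * (phi h m)⁻¹ = w := by
      have : phi h m * (phi h m * w * (phi h m)⁻¹) * (phi h m)⁻¹ =
          (phi h m * phi h m) * w * (phi h m * phi h m)⁻¹ := by
        simp only [mul_assoc, mul_inv_rev]
      rw [this, e1]; simp
    rw [hv] at e2
    have e3 : phi h m * (phi h ε * w⁻¹) * (phi h m)⁻¹ =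
        (phi h m * phi h ε * (phi h m)⁻¹) * (phi h m * w * (phi h m)⁻¹)⁻¹ := by group
    rw [e3, hv, mul_inv_rev, inv_inv, ← mul_assoc, mul_inv_eq_iff_eq_mul] at e2
    rw [← hw ε hε, map_mul, map_mul, map_inv, ← e2]
    group
  obtain ⟨f, hf, hP, hsel⟩ := hsel ε hε n1 n2
  refine ⟨f, hf, hP, ?_⟩
  have fm : phi h m * phi h f * (phi h m)⁻¹ = phi h (m * f * m⁻¹) := by
    rw [map_mul, map_mul, map_inv]
  have fmi : phi h m * (phi h f)⁻¹ * (phi h m)⁻¹ = phi h (m * f * m⁻¹) := by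
    rw [pinv f hf, fm]
  have e4 : w⁻¹ * phi h (m * f * m⁻¹) * w⁻¹⁻¹ = phi h (F (F (m * f * m⁻¹))) :=
    hw' (m * f * m⁻¹) (hmK _ hf)
  have e5 : w⁻¹ * phi h f * w⁻¹⁻¹ = phi h (F (F f)) := hw' f hf
  calc phi h m * (phi h f * w * (phi h f)⁻¹) * (phi h m)⁻¹
      = (phi h m * phi h f * (phi h m)⁻¹) * (phi h m * w * (phi h m)⁻¹) *
        (phi h m * (phi h f)⁻¹ * (phi h m)⁻¹) := by group
    _ = phi h (m * f * m⁻¹) * (phi h ε * w⁻¹) * phi h (m * f * m⁻¹) := by rw [fm, hv, fmi]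
    _ = phi h (m * f * m⁻¹) * phi h ε * (w⁻¹ * phi h (m * f * m⁻¹) * w⁻¹⁻¹) * w⁻¹ := by group
    _ = phi h (m * f * m⁻¹ * ε * F (F (m * f * m⁻¹))) * w⁻¹ := by
        rw [e4]; simp only [map_mul]
    _ = phi h f * phi h (F (F f)) * w⁻¹ := by rw [hsel, map_mul]
    _ = phi h f * (w⁻¹ * phi h f * w⁻¹⁻¹) * w⁻¹ := by rw [e5]
    _ = (phi h f * w * (phi h f)⁻¹)⁻¹ := by
        rw [mul_inv_rev, mul_inv_rev, pinv f hf, pinv f hf]; group

/-! ### The maps -/

/-- the action of `w` -/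
def fw (x : M) : M := (x.1, cyc x.2)

/-- the action of `w'` -/
def fw' (x : M) : M := (cyc x.1, x.2)

/-- the action of `θ` -/
def fθ (x : M) : M := (cyc (cyc x.1), cyc (cyc x.2))

/-- the action of `θ⁻¹` -/
def fθ' (x : M) : M := (cyc x.1, cyc x.2)

theorem fθ_mul : ∀ x x' : M, KK x → KK x' → fθ (x * x') = fθ x * fθ x' := by (set_option synthInstance.maxSize 2000 in open scoped Cfsg.Agent.Lib.Hoist in decide +kernel)
theorem fθ'_K : ∀ x, KK x → KK (fθ' x) := by decide +kernel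
theorem fw_K : ∀ x, KK x → KK (fw x) := by decide +kernel
theorem fw'_K : ∀ x, KK x → KK (fw' x) := by decide +kernel
theorem fw_three : ∀ x, KK x → fw (fw (fw x)) = x := by decide +kernel
theorem fw'_three : ∀ x, KK x → fw' (fw' (fw' x)) = x := by decide +kernel
theorem fθθ' : ∀ x, KK x → fθ (fθ' x) = x := by decide +kernel
theorem fil_K : ∀ x, KK x → KK ((sr 0, sr 1) * x * (sr 0, sr 1)⁻¹ : M) := by decide +kernel
theorem fik_K : ∀ x, KK x → KK ((sr 1, sr 0) * x * (sr 1, sr 0)⁻¹ : M) := by decide +kernel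

theorem fw_eq : ∀ x, KK x →
    fθ ((sr 0, sr 1) * fθ' ((sr 0, sr 1) * x * (sr 0, sr 1)⁻¹) * (sr 0, sr 1)⁻¹ : M) = fw x := by
  decide +kernel

theorem fw'_eq : ∀ x, KK x →
    fθ ((sr 1, sr 0) * fθ' ((sr 1, sr 0) * x * (sr 1, sr 0)⁻¹) * (sr 1, sr 0)⁻¹ : M) = fw' x := by
  decide +kernel

theorem norm_fw : ∀ x, KK x → fw (fw x) * fw x * x = 1 → x.1 = 1 := by decide +kernel
theorem norm_fw' : ∀ x, KK x → fw' (fw' x) * fw' x * x = 1 → x.2 = 1 := by decide +kernel

theorem acts_inv {h : W7 z i j k l y s} {g : G} {f f' : M → M} (hg : Acts h g f)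
    (hK : ∀ x, KK x → KK (f' x)) (hf : ∀ x, KK x → f (f' x) = x) : Acts h g⁻¹ f' := by
  intro x hx
  have h1 := hg (f' x) (hK x hx)
  rw [hf x hx] at h1
  rw [← h1]
  group

/-! ### The action of `θ`, and conjugacy in `C` -/

theorem w7' (h : Fus Q z i j k l x₁ x₂ y s θ) : W7 z i j k l y s :=
  w7 h.toCase9aa h.y_sq h.s_sq h.s_y

theorem phi_inj (h : Fus Q z i j k l x₁ x₂ y s θ) : Function.Injective (phi (w7' h)) :=
  phi_injective (w7' h) h.large.z_ne

theorem acts_θ (h : Fus Q z i j k l x₁ x₂ y s θ) : Acts (w7' h) θ fθ := by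
  have w := w7' h
  have hd : θ * (i * j * k * l * z) * θ⁻¹ = s := by
    have : θ * (i * j * k * l * z) * θ⁻¹ = θ * (i * j * k * l) * θ⁻¹ * (θ * z * θ⁻¹) := by group
    rw [this, h.θd, h.θz, mul_assoc, h.y_sq, mul_one]
  have hsy : θ * (s * y) * θ⁻¹ = i * j * k * l * s * y := by
    have : θ * (s * y) * θ⁻¹ = θ * s * θ⁻¹ * (θ * y * θ⁻¹) := by group
    rw [this, h.θs, h.θy]
    simp only [ma, w.zz_, w.sz, w.sz_, w.sy]
  refine Acts.of_gen (w7' h) h.θd hd hsy h.θs ?_ ?_ ?_ ?_ fθ_mul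
  · exact phi_sy (w7' h)
  · exact phi_s (w7' h)
  · show phi (w7' h) (sr 2, 1) = _
    have h1 : phi (w7' h) (sr 2, 1) = phi (w7' h) (r 2, 1) * phi (w7' h) (sr 0, 1) * phi (w7' h) 1 := by
      rw [← map_mul, ← map_mul]; rfl
    rw [h1, phi_d, phi_sy, map_one, mul_one]
    simp only [mul_assoc]
  · show phi (w7' h) (1, sr 2) = _
    have h1 : phi (w7' h) (1, sr 2) = phi (w7' h) (1, r 2) * phi (w7' h) (1, sr 0) := by
      rw [← map_mul]; rfl
    rw [h1, phi_dz, phi_s]
    simp only [ma, w.sz]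

/-! ### Conjugacy facts -/

theorem conj_iff {a b : G} (c : G) (h : c * a * c⁻¹ = b) : IsConj a b := isConj_iff.2 ⟨c, h⟩

theorem conj_mul {c a b a' b' : G} (ha : c * a * c⁻¹ = a') (hb : c * b * c⁻¹ = b') :
    c * (a * b) * c⁻¹ = a' * b' := by
  rw [← ha, ← hb]; group

theorem phi_dsz (h : W7 z i j k l y s) : phi h (1, sr 2) = i * j * k * l * s * z := by
  have h1 : phi h (1, sr 2) = phi h (1, r 2) * phi h (1, sr 0) := by rw [← map_mul]; rfl
  rw [h1, phi_dz, phi_s]
  simp only [ma, h.sz]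

theorem phi_dsy (h : W7 z i j k l y s) : phi h (sr 2, 1) = i * j * k * l * s * y := by
  have h1 : phi h (sr 2, 1) = phi h (r 2, 1) * phi h (sr 0, 1) * phi h 1 := by
    rw [← map_mul, ← map_mul]; rfl
  rw [h1, phi_d, phi_sy, map_one, mul_one]
  simp only [mul_assoc]

theorem phi_t2 (h : W7 z i j k l y s) : phi h (r 2, sr 1) = i * l * (i * j * k * l) * s * y := by
  have h1 : phi h (r 2, sr 1) = phi h (sr 0, sr 1) * phi h (r 2, 1) * phi h (1, sr 0) *
      phi h (sr 0, sr 0) := by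
    rw [← map_mul, ← map_mul, ← map_mul]; rfl
  rw [h1, phi_il, phi_d, phi_s, phi_y]

section

variable (h : Fus Q z i j k l x₁ x₂ y s θ)
include h

/-- `d ~ d z` -/
theorem d_dz : IsConj (i * j * k * l) (i * j * k * l * z) := conj_iff i (i_d (w7' h))

theorem θ_dz : θ * (i * j * k * l * z) * θ⁻¹ = s := by
  have h2 := acts_θ h (1, r 2) (by decide)
  have h3 : fθ (1, r 2) = (1, sr 0) := by decide
  rwa [h3, phi_dz, phi_s] at h2

theorem d_s : IsConj (i * j * k * l) s := (d_dz h).trans (conj_iff θ (θ_dz h))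

theorem d_sy : IsConj (i * j * k * l) (s * y) := conj_iff θ h.θd

/-- `x₁ x₂` maps `d` to `i k` -/
theorem d_ik : IsConj (i * j * k * l) (i * k) := by
  have w := w7' h
  refine conj_iff (x₁ * x₂) ?_
  have e1 : (x₁ * x₂) * (i * j * k * l) * (x₁ * x₂)⁻¹ =
      x₁ * (x₂ * i * x₂⁻¹ * (x₂ * j * x₂⁻¹) * (x₂ * k * x₂⁻¹) * (x₂ * l * x₂⁻¹)) * x₁⁻¹ := by
    group
  rw [e1, h.x₂_act.i, h.x₂_act.j, h.x₂_act.k, h.x₂_act.l,
    conj_mul (conj_mul (conj_mul h.x₁_act.i h.x₁_act.j) h.x₁_act.l)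
      (conj_mul h.x₁_act.k h.x₁_act.l)]
  simp only [ma, mo, w.jj_, w.zj, w.ll_, w.zl, w.zz, w.ji_, w.lk_, mo]

/-- `x₁ x₂` maps `i k` to `j l` -/
theorem d_jl : IsConj (i * j * k * l) (j * l) := by
  refine (d_ik h).trans (conj_iff (x₁ * x₂) ?_)
  have e1 : (x₁ * x₂) * (i * k) * (x₁ * x₂)⁻¹ = x₁ * (x₂ * i * x₂⁻¹ * (x₂ * k * x₂⁻¹)) * x₁⁻¹ := by
    group
  rw [e1, h.x₂_act.i, h.x₂_act.k, conj_mul h.x₁_act.i h.x₁_act.l]

/-- `x₂` maps `i k` to `i l` -/
theorem d_il : IsConj (i * j * k * l) (i * l) := by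
  refine (d_ik h).trans (conj_iff x₂ ?_)
  exact conj_mul h.x₂_act.i h.x₂_act.k

/-- `x₁` maps `i k` to `j k` -/
theorem d_jk : IsConj (i * j * k * l) (j * k) := by
  refine (d_ik h).trans (conj_iff x₁ ?_)
  exact conj_mul h.x₁_act.i h.x₁_act.k

/-- all elements `a` of `Q - ⟨z⟩` of order two satisfy `a ~ a z` -/
theorem mul_z {a : G} (c : G) (hc : c * a * c⁻¹ = a * z) (ha : IsConj (i * j * k * l) a) :
    IsConj (i * j * k * l) (a * z) := ha.trans (conj_iff c hc)

theorem d_jlz : IsConj (i * j * k * l) (j * l * z) := by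
  have w := w7' h
  refine mul_z h i ?_ (d_jl h)
  simp only [ma, mo, w.ii_, w.zj_, w.zl, w.zl_, w.zz, w.ji_, w.li_, w.inv_i, mo]

theorem d_jkz : IsConj (i * j * k * l) (j * k * z) := by
  have w := w7' h
  refine mul_z h i ?_ (d_jk h)
  simp only [ma, mo, w.ii_, w.zj_, w.zk, w.zk_, w.zz, w.ji_, w.ki_, w.inv_i, mo]

/-- `i l d ~ j k ~ d` -/
theorem d_ild : IsConj (i * j * k * l) (i * l * (i * j * k * l)) := by
  have w := w7' h
  have e : i * l * (i * j * k * l) = j * k * z := by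
    simp only [ma, mo, w.ii_, w.zj_, w.zk, w.ll_, w.zl, w.zz, w.li_, w.lj_, w.lk_, mo]
  rw [e]
  exact d_jkz h

/-- `s y i l = i (s y) i⁻¹` -/
theorem d_syil : IsConj (i * j * k * l) (s * y * (i * l)) := by
  have w := w7' h
  refine (d_sy h).trans (conj_iff i ?_)
  simp only [ma, w.zl_, w.zz_, w.kj_, w.yj_, w.yk_, w.yz_, w.si_, w.sl, w.sz, w.sy, w.inv_i]

/-- `s j l z = j s j⁻¹` -/
theorem d_sjl : IsConj (i * j * k * l) (s * (i * k) * (i * j * k * l * z)) := by
  have w := w7' h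
  refine (d_s h).trans (conj_iff j ?_)
  simp only [ma, w.ii_, w.zj_, w.kk_, w.zl_, w.zz_, w.ki_, w.li_, w.kj_, w.lj_, w.si_, w.sj_, w.sk, w.sk_, w.sl_, w.sz, w.inv_j]

end

/-! ### The construction -/

theorem fw_fix : ∀ ε, KK ε → fw (fw ε) * fw ε * ε = 1 → fw (fw ε) * ε = fw ε := by decide +kernel

theorem comm_t1 : ∀ x, KK x →
    fw ((sr 1, 1) * (fw (fw ((sr 1, 1)⁻¹ * x * (sr 1, 1)⁻¹⁻¹))) * (sr 1, 1)⁻¹ : M) = x := by
  decide +kernel

theorem comm_t2 : ∀ x, KK x →
    fw' ((r 2, sr 1) * (fw' (fw' ((r 2, sr 1)⁻¹ * x * (r 2, sr 1)⁻¹⁻¹))) * (r 2, sr 1)⁻¹ : M) = x := by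
  decide +kernel

theorem comm_ww : ∀ x, KK x → fw (fw' (fw (fw (fw' (fw' x))))) = x := by decide +kernel

theorem conj_K : ∀ m x : M, KK m → KK x → m * x * m⁻¹ = x := by
  intro m x hm hx
  rw [K_mul_comm m x hm hx, mul_inv_cancel_right]

theorem K_t1 : ∀ x, KK x → KK ((sr 1, 1) * x * (sr 1, 1)⁻¹ : M) := by decide +kernel
theorem K_t1' : ∀ x, KK x → KK ((sr 1, 1)⁻¹ * x * (sr 1, 1)⁻¹⁻¹ : M) := by decide +kernel
theorem K_t2 : ∀ x, KK x → KK ((r 2, sr 1) * x * (r 2, sr 1)⁻¹ : M) := by decide +kernel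
theorem K_t2' : ∀ x, KK x → KK ((r 2, sr 1)⁻¹ * x * (r 2, sr 1)⁻¹⁻¹ : M) := by decide +kernel

theorem exists_w (h : Fus Q z i j k l x₁ x₂ y s θ) (hE : CE (w7' h)) :
    ∃ w, w ^ 3 = 1 ∧ Acts (w7' h) w fw ∧ w * phi (w7' h) (sr 1, 1) * w⁻¹ = phi (w7' h) (sr 1, 1) := by
  have hi := phi_inj h
  have aθ := acts_θ h
  have aθ' := acts_inv aθ fθ'_K fθθ'
  have a1 := Acts.phi (w7' h) (sr 0, sr 1)
  have a0 : Acts (w7' h) (θ * (phi (w7' h) (sr 0, sr 1) * (θ⁻¹ * phi (w7' h) (sr 0, sr 1)))) fw :=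
    (Acts.mul _ aθ (Acts.mul _ a1 (Acts.mul _ aθ' a1 fil_K) (fun x hx => fθ'_K _ (fil_K _ hx)))
      (fun x hx => fil_K _ (fθ'_K _ (fil_K _ hx)))).congr _ fw_eq
  obtain ⟨w3, aw⟩ := pow_four hE a0 fw_K fw_three
  generalize (θ * (phi (w7' h) (sr 0, sr 1) * (θ⁻¹ * phi (w7' h) (sr 0, sr 1)))) ^ 4 = w at w3 aw
  refine ⟨w, w3, aw, ?_⟩
  have aw' : Acts (w7' h) w⁻¹ (fun x => fw (fw x)) :=
    acts_inv aw (fun x hx => fw_K _ (fw_K _ hx)) fw_three
  have at1 := Acts.phi (w7' h) (sr 1, 1)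
  have at1' : Acts (w7' h) (phi (w7' h) (sr 1, 1))⁻¹ (fun x => (sr 1, 1)⁻¹ * x * (sr 1, 1)⁻¹⁻¹) := by
    have := Acts.phi (w7' h) (sr 1, 1)⁻¹
    rwa [map_inv] at this
  have hc : Acts (w7' h) (w * phi (w7' h) (sr 1, 1) * w⁻¹ * (phi (w7' h) (sr 1, 1))⁻¹)
      (fun x => x) := by
    have := (Acts.mul _ (Acts.mul _ (Acts.mul _ aw at1 K_t1) aw'
      (fun x hx => fw_K _ (fw_K _ hx))) at1' K_t1').congr _ comm_t1
    exact this
  obtain ⟨ε, hε, h1, h2⟩ := norm hE hi aw fw_K w3 hc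
  have h3 := norm_fw ε hε h2
  have z1 : IsConj z (phi (w7' h) (sr 1, 1)) := by
    have h4 := aw (r 2, r 2) (by decide)
    have h5 : fw (r 2, r 2) = (r 2, sr 2) := by decide
    rw [h5, phi_z] at h4
    refine (conj_iff w h4).trans (conj_iff i ?_)
    have h6 : phi (w7' h) (r 2, sr 2) = phi (w7' h) (r 2, 1) * phi (w7' h) (1, sr 2) := by
      rw [← map_mul]; rfl
    rw [h6, phi_d, phi_dsz, phi_sik]
    have W := w7' h
    simp only [ma, W.ii_, W.jj_, W.zj_, W.kk_, W.zk_, W.ll_, W.zl_, W.zz_, W.ji_, W.ki_, W.li_, W.kj_, W.lj_, W.lk_, W.si_, W.sk, W.sz, W.inv_i]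
  have z2 : IsConj z (phi (w7' h) ε * phi (w7' h) (sr 1, 1)) := z1.trans (conj_iff w h1)
  have no : ∀ a : G, IsConj (i * j * k * l) a → phi (w7' h) ε * phi (w7' h) (sr 1, 1) = a → False := by
    intro a ha he
    rw [he] at z2
    exact h.nc (z2.trans ha.symm)
  rw [h1]
  obtain ⟨a, b⟩ := ε
  have h3' : a = 1 := h3
  subst h3'
  rcases hε.2 with hb | hb | hb | hb
  · have hb' : b = 1 := hb
    subst hb'
    show phi (w7' h) 1 * _ = _
    rw [map_one, one_mul]
  · exfalso
    have hb' : b = r 2 := hb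
    subst hb'
    refine no _ (d_sjl h) ?_
    rw [← phi_sik (w7' h), ← phi_dz (w7' h), ← map_mul, ← map_mul]
    rfl
  · exfalso
    have hb' : b = sr 0 := hb
    subst hb'
    refine no _ (d_ik h) ?_
    rw [← phi_ik (w7' h), ← map_mul]
    rfl
  · exfalso
    have hb' : b = sr 2 := hb
    subst hb'
    refine no _ (d_jlz h) ?_
    have h6 : phi (w7' h) (1, sr 2) * phi (w7' h) (sr 1, 1) =
        phi (w7' h) (sr 1, sr 0) * phi (w7' h) (1, r 2) := by
      rw [← map_mul, ← map_mul]; rfl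
    rw [h6, phi_ik, phi_dz]
    have W := w7' h
    simp only [ma, mo, W.ii_, W.zj_, W.kk_, W.zl, W.zl_, W.zz, W.ki_, W.kj_, mo]

theorem exists_w' (h : Fus Q z i j k l x₁ x₂ y s θ) (hE : CE (w7' h)) {w : G} (w3 : w ^ 3 = 1)
    (aw : Acts (w7' h) w fw) :
    ∃ w', w' ^ 3 = 1 ∧ Acts (w7' h) w' fw' ∧
      w' * phi (w7' h) (r 2, sr 1) * w'⁻¹ = phi (w7' h) (r 2, sr 1) ∧ w * w' = w' * w := by
  have hi := phi_inj h
  have aθ := acts_θ h
  have aθ' := acts_inv aθ fθ'_K fθθ'
  have a1 := Acts.phi (w7' h) (sr 1, sr 0)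
  have a0 : Acts (w7' h) (θ * (phi (w7' h) (sr 1, sr 0) * (θ⁻¹ * phi (w7' h) (sr 1, sr 0)))) fw' :=
    (Acts.mul _ aθ (Acts.mul _ a1 (Acts.mul _ aθ' a1 fik_K) (fun x hx => fθ'_K _ (fik_K _ hx)))
      (fun x hx => fik_K _ (fθ'_K _ (fik_K _ hx)))).congr _ fw'_eq
  generalize (θ * (phi (w7' h) (sr 1, sr 0) * (θ⁻¹ * phi (w7' h) (sr 1, sr 0)))) = v at a0
  have aw' : Acts (w7' h) w⁻¹ (fun x => fw (fw x)) :=
    acts_inv aw (fun x hx => fw_K _ (fw_K _ hx)) fw_three
  have av' : Acts (w7' h) v⁻¹ (fun x => fw' (fw' x)) :=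
    acts_inv a0 (fun x hx => fw'_K _ (fw'_K _ hx)) fw'_three
  have hc : Acts (w7' h) (w * v * w⁻¹ * v⁻¹) (fun x => x) :=
    (Acts.mul _ (Acts.mul _ (Acts.mul _ aw a0 fw'_K) aw'
      (fun x hx => fw_K _ (fw_K _ hx))) av' (fun x hx => fw'_K _ (fw'_K _ hx))).congr _ comm_ww
  obtain ⟨ε, hε, h1, h2⟩ := norm hE hi aw fw_K w3 hc
  have hf := fw_fix ε hε h2
  have a2 : Acts (w7' h) (phi (w7' h) (fw ε) * v) fw' :=
    (Acts.mul _ (Acts.phi (w7' h) (fw ε)) a0 fw'_K).congr _
      (fun x hx => conj_K _ _ (fw_K _ hε) (fw'_K _ hx))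
  have hcom : w * (phi (w7' h) (fw ε) * v) * w⁻¹ = phi (w7' h) (fw ε) * v := by
    rw [conj_mul (aw _ (fw_K _ hε)) h1, ← mul_assoc, ← map_mul, hf]
  generalize phi (w7' h) (fw ε) * v = v' at a2 hcom
  obtain ⟨v3, aw2⟩ := pow_four hE a2 fw'_K fw'_three
  have hcom' : w * v' ^ 4 = v' ^ 4 * w := by
    have h4 : Commute w v' := by
      show w * v' = v' * w
      rw [mul_inv_eq_iff_eq_mul] at hcom
      exact hcom
    exact h4.pow_right 4
  generalize v' ^ 4 = w' at v3 aw2 hcom'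
  refine ⟨w', v3, aw2, ?_, hcom'⟩
  have aw2' : Acts (w7' h) w'⁻¹ (fun x => fw' (fw' x)) :=
    acts_inv aw2 (fun x hx => fw'_K _ (fw'_K _ hx)) fw'_three
  have at1 := Acts.phi (w7' h) (r 2, sr 1)
  have at1' : Acts (w7' h) (phi (w7' h) (r 2, sr 1))⁻¹
      (fun x => (r 2, sr 1)⁻¹ * x * (r 2, sr 1)⁻¹⁻¹) := by
    have := Acts.phi (w7' h) (r 2, sr 1)⁻¹
    rwa [map_inv] at this
  have hc2 : Acts (w7' h) (w' * phi (w7' h) (r 2, sr 1) * w'⁻¹ * (phi (w7' h) (r 2, sr 1))⁻¹)
      (fun x => x) :=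
    (Acts.mul _ (Acts.mul _ (Acts.mul _ aw2 at1 K_t2) aw2'
      (fun x hx => fw'_K _ (fw'_K _ hx))) at1' K_t2').congr _ comm_t2
  obtain ⟨ε, hε, h1, h2⟩ := norm hE hi aw2 fw'_K v3 hc2
  have h3 := norm_fw' ε hε h2
  have z1 : IsConj z (phi (w7' h) (r 2, sr 1)) := by
    have h4 := aw2 (fw' (r 2, r 2)) (by decide)
    have h4' := aw2 (r 2, r 2) (by decide)
    have h5 : fw' (fw' (r 2, r 2)) = (sr 0, r 2) := by decide
    rw [h5] at h4
    rw [phi_z] at h4'
    refine ((conj_iff w' h4').trans (conj_iff w' h4)).trans (conj_iff i ?_)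
    have h6 : phi (w7' h) (sr 0, r 2) = phi (w7' h) (sr 0, 1) * phi (w7' h) (1, r 2) := by
      rw [← map_mul]; rfl
    rw [h6, phi_sy, phi_dz, phi_t2]
    have W := w7' h
    simp only [ma, mo, W.ii_, W.zi_, W.zj_, W.zk, W.zk_, W.ll_, W.zl, W.zl_, W.zz, W.zz_, W.ji_, W.ki_, W.li_, W.kj_, W.lj_, W.lk_, W.yi_, W.yj_, W.yk_, W.yl_, W.yz_, W.si_, W.sj_, W.sk_, W.sl_, W.sz, W.sy, W.inv_i, mo]
  have z2 : IsConj z (phi (w7' h) ε * phi (w7' h) (r 2, sr 1)) := z1.trans (conj_iff w' h1)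
  have no : ∀ a : G, IsConj (i * j * k * l) a → phi (w7' h) ε * phi (w7' h) (r 2, sr 1) = a → False := by
    intro a ha he
    rw [he] at z2
    exact h.nc (z2.trans ha.symm)
  rw [h1]
  obtain ⟨a, b⟩ := ε
  have h3' : b = 1 := h3
  subst h3'
  rcases hε.1 with hb | hb | hb | hb
  · have hb' : a = 1 := hb
    subst hb'
    show phi (w7' h) 1 * _ = _
    rw [map_one, one_mul]
  · exfalso
    have hb' : a = r 2 := hb
    subst hb'
    refine no _ (d_syil h) ?_
    rw [← phi_syil (w7' h), ← map_mul]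
    rfl
  · exfalso
    have hb' : a = sr 0 := hb
    subst hb'
    refine no _ (d_ild h) ?_
    rw [← phi_il (w7' h), ← phi_d (w7' h), ← map_mul, ← map_mul]
    rfl
  · exfalso
    have hb' : a = sr 2 := hb
    subst hb'
    refine no _ (d_il h) ?_
    rw [← phi_il (w7' h), ← map_mul]
    rfl

theorem inv_fw : ∀ x, KK x →
    ((1, sr 1) * fw ((1, sr 1)⁻¹ * fw x * (1, sr 1)⁻¹⁻¹) * (1, sr 1)⁻¹ : M) = x := by decide +kernel

theorem inv_fw' : ∀ x, KK x →
    ((sr 3, r 2) * fw' ((sr 3, r 2)⁻¹ * fw' x * (sr 3, r 2)⁻¹⁻¹) * (sr 3, r 2)⁻¹ : M) = x := by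
  decide +kernel

theorem K_m : ∀ x, KK x → KK ((1, sr 1) * x * (1, sr 1)⁻¹ : M) := by decide +kernel
theorem K_m' : ∀ x, KK x → KK ((sr 3, r 2) * x * (sr 3, r 2)⁻¹ : M) := by decide +kernel

theorem sel_fw : ∀ ε, KK ε → ε * fw (fw ε) * fw ε = 1 → (1, sr 1) * ε * (1, sr 1)⁻¹ = fw ε →
    ∃ f, KK f ∧ f.1 = 1 ∧ ((1, sr 1) * f * (1, sr 1)⁻¹) * ε * fw (fw ((1, sr 1) * f * (1, sr 1)⁻¹))
      = f * fw (fw f) := by decide +kernel

theorem sel_fw' : ∀ ε, KK ε → ε * fw' (fw' ε) * fw' ε = 1 →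
    (sr 3, r 2) * ε * (sr 3, r 2)⁻¹ = fw' ε →
    ∃ f, KK f ∧ f.2 = 1 ∧ ((sr 3, r 2) * f * (sr 3, r 2)⁻¹) * ε *
      fw' (fw' ((sr 3, r 2) * f * (sr 3, r 2)⁻¹)) = f * fw' (fw' f) := by decide +kernel

theorem comm_f1 : ∀ f x : M, KK f → f.1 = 1 → x.2 = 1 → f * x = x * f := by (set_option synthInstance.maxSize 2000 in open scoped Cfsg.Agent.Lib.Hoist in decide +kernel)
theorem comm_f2 : ∀ f, KK f → f.2 = 1 → f * (r 2, sr 1) = (r 2, sr 1) * f := by decide +kernel
theorem fix_f2 : ∀ f, KK f → f.2 = 1 → fw f = f := by decide +kernel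

/-- conjugation by an element of `E` -/
theorem conj_facts {h : W7 z i j k l y s} {w : G} {F : M → M} (hw : Acts h w F)
    (hK : ∀ x, KK x → KK (F x)) (h3 : w ^ 3 = 1) {f : M} (hf : KK f) :
    (phi h f * w * (phi h f)⁻¹) ^ 3 = 1 ∧ Acts h (phi h f * w * (phi h f)⁻¹) F := by
  refine ⟨?_, ?_⟩
  · have : (phi h f * w * (phi h f)⁻¹) ^ 3 = phi h f * w ^ 3 * (phi h f)⁻¹ := by
      simp only [pow_succ, pow_zero, one_mul, mul_assoc, inv_mul_cancel_left]
    rw [this, h3]; simp
  · have af' : Acts h (phi h f)⁻¹ (fun x => f⁻¹ * x * f⁻¹⁻¹) := by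
      have := Acts.phi h f⁻¹
      rwa [map_inv] at this
    have hfi : f⁻¹ = f := inv_eq_of_mul_eq_one_left (K_sq f hf)
    have h1 : ∀ x, KK x → f⁻¹ * x * f⁻¹⁻¹ = x := by
      intro x hx
      rw [hfi]
      exact conj_K f x hf hx
    have af2 : Acts h (phi h f)⁻¹ (fun x => x) := af'.congr h h1
    have af : Acts h (phi h f) (fun x => x) := (Acts.phi h f).congr h (fun x hx => conj_K f x hf hx)
    have a1 : Acts h (phi h f * w) F := Acts.mul h (f := fun x => x) (f' := F) af hw hK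
    exact Acts.mul h (f := F) (f' := fun x => x) a1 af2 (fun x hx => hx)

/-- **[N]** -/
theorem exists_elem_of (h : Fus Q z i j k l x₁ x₂ y s θ) (hE : CE (w7' h)) :
    ∃ w w', Elem Q z i j k l x₁ x₂ y s θ w w' ∧
      (i * (s * y) * i⁻¹) * w * (i * (s * y) * i⁻¹)⁻¹ = w⁻¹ ∧
      (i⁻¹ * s * i) * w' * (i⁻¹ * s * i)⁻¹ = w'⁻¹ := by
  have W := w7' h
  have hi := phi_inj h
  obtain ⟨w, w3, aw, wt⟩ := exists_w h hE
  -- make `w` inverted by `p = i (s y) i⁻¹`
  obtain ⟨f, hf, hf1, hfi⟩ := invert hE hi aw fw_K fw_three w3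
    (acts_inv aw (fun x hx => fw_K _ (fw_K _ hx)) fw_three) (1, sr 1) (by decide) K_m inv_fw
    (fun f => f.1 = 1) sel_fw
  obtain ⟨w3, aw⟩ := conj_facts aw fw_K w3 hf
  have wt2 : (phi (w7' h) f * w * (phi (w7' h) f)⁻¹) * phi (w7' h) (sr 1, 1) *
      (phi (w7' h) f * w * (phi (w7' h) f)⁻¹)⁻¹ = phi (w7' h) (sr 1, 1) := by
    have c1 : phi (w7' h) f * phi (w7' h) (sr 1, 1) = phi (w7' h) (sr 1, 1) * phi (w7' h) f := by
      rw [← map_mul, ← map_mul, comm_f1 f (sr 1, 1) hf hf1 rfl]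
    rw [mul_inv_eq_iff_eq_mul] at wt
    have c1' : Commute (phi (w7' h) f) (phi (w7' h) (sr 1, 1)) := c1
    have c2' : Commute w (phi (w7' h) (sr 1, 1)) := wt
    have c3 := (c1'.mul_left c2').mul_left c1'.inv_left
    rw [c3.eq, mul_inv_cancel_right]
  clear wt
  generalize phi (w7' h) f * w * (phi (w7' h) f)⁻¹ = w at hfi w3 aw wt2
  obtain ⟨w', w'3, aw', w't, ww'⟩ := exists_w' h hE w3 aw
  obtain ⟨f', hf', hf'1, hfi'⟩ := invert hE hi aw' fw'_K fw'_three w'3
    (acts_inv aw' (fun x hx => fw'_K _ (fw'_K _ hx)) fw'_three) (sr 3, r 2) (by decide) K_m' inv_fw'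
    (fun f => f.2 = 1) sel_fw'
  obtain ⟨w'3, aw'⟩ := conj_facts aw' fw'_K w'3 hf'
  have w't2 : (phi (w7' h) f' * w' * (phi (w7' h) f')⁻¹) * phi (w7' h) (r 2, sr 1) *
      (phi (w7' h) f' * w' * (phi (w7' h) f')⁻¹)⁻¹ = phi (w7' h) (r 2, sr 1) := by
    have c1 : phi (w7' h) f' * phi (w7' h) (r 2, sr 1) = phi (w7' h) (r 2, sr 1) * phi (w7' h) f' := by
      rw [← map_mul, ← map_mul, comm_f2 f' hf' hf'1]
    rw [mul_inv_eq_iff_eq_mul] at w't
    have c1' : Commute (phi (w7' h) f') (phi (w7' h) (r 2, sr 1)) := c1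
    have c2' : Commute w' (phi (w7' h) (r 2, sr 1)) := w't
    have c3 := (c1'.mul_left c2').mul_left c1'.inv_left
    rw [c3.eq, mul_inv_cancel_right]
  have ww'2 : w * (phi (w7' h) f' * w' * (phi (w7' h) f')⁻¹) =
      (phi (w7' h) f' * w' * (phi (w7' h) f')⁻¹) * w := by
    have c1 : Commute w (phi (w7' h) f') := by
      have := aw f' hf'
      rw [fix_f2 f' hf' hf'1, mul_inv_eq_iff_eq_mul] at this
      exact this
    have c2 : Commute w w' := ww'
    exact ((c1.mul_right c2).mul_right c1.inv_right).eq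
  clear w't ww'
  generalize phi (w7' h) f' * w' * (phi (w7' h) f')⁻¹ = w' at hfi' w'3 aw' w't2 ww'2
  have w't := w't2
  have ww' := ww'2
  have wt := wt2
  have ep : phi (w7' h) (1, sr 1) = i * (s * y) * i⁻¹ := by
    rw [phi_syil]
    simp only [ma, W.zl_, W.zz_, W.kj_, W.yj_, W.yk_, W.yz_, W.si_, W.sl, W.sz, W.sy, W.inv_i]
  have ep' : phi (w7' h) (sr 3, r 2) = i⁻¹ * s * i := by
    have h1 : phi (w7' h) (sr 3, r 2) = phi (w7' h) (sr 1, 1) * phi (w7' h) (r 2, r 2) := by
      rw [← map_mul]; rfl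
    rw [h1, phi_sik, phi_z]
    simp only [ma, W.zk_, W.ki_, W.si, W.si_, W.sk, W.sz, W.inv_i]
  rw [ep] at hfi
  rw [ep'] at hfi'
  refine ⟨w, w', ?_, hfi, hfi'⟩
  refine { h with
    w3 := w3, w_d := ?_, w_sy := ?_, w_s := ?_, w_dz := ?_, w_z1 := ?_, w'3 := w'3, w'_s := ?_,
    w'_dz := ?_, w'_d := ?_, w'_sy := ?_, w'_z2 := ?_, ww' := ww' }
  · have h1 := aw (r 2, 1) (by decide)
    have h2 : fw (r 2, 1) = (r 2, 1) := by decide
    rwa [h2, mul_inv_eq_iff_eq_mul, phi_d] at h1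
  · have h1 := aw (sr 0, 1) (by decide)
    have h2 : fw (sr 0, 1) = (sr 0, 1) := by decide
    rwa [h2, mul_inv_eq_iff_eq_mul, phi_sy] at h1
  · have h1 := aw (1, sr 0) (by decide)
    have h2 : fw (1, sr 0) = (1, r 2) := by decide
    rwa [h2, phi_s, phi_dz] at h1
  · have h1 := aw (1, r 2) (by decide)
    have h2 : fw (1, r 2) = (1, sr 2) := by decide
    rwa [h2, phi_dz, phi_dsz] at h1
  · rwa [mul_inv_eq_iff_eq_mul, phi_sik] at wt
  · have h1 := aw' (1, sr 0) (by decide)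
    have h2 : fw' (1, sr 0) = (1, sr 0) := by decide
    rwa [h2, mul_inv_eq_iff_eq_mul, phi_s] at h1
  · have h1 := aw' (1, r 2) (by decide)
    have h2 : fw' (1, r 2) = (1, r 2) := by decide
    rwa [h2, mul_inv_eq_iff_eq_mul, phi_dz] at h1
  · have h1 := aw' (r 2, 1) (by decide)
    have h2 : fw' (r 2, 1) = (sr 2, 1) := by decide
    rwa [h2, phi_d, phi_dsy] at h1
  · have h1 := aw' (sr 0, 1) (by decide)
    have h2 : fw' (sr 0, 1) = (r 2, 1) := by decide
    rwa [h2, phi_sy, phi_d] at h1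
  · rwa [mul_inv_eq_iff_eq_mul, phi_t2] at w't

end Cfsg.Agent.LargeExtra.W2.LFour.ElemN
end

-- part: LargeExtra/W2/LFourFus
section
/-!
# S1759, `Case9aa`, case I (`L₄(3)`): the fusion data (interface; helper465, helper221)
-/

set_option autoImplicit false

namespace Cfsg.Agent.LargeExtra.W2

/-- `Case9aa`, `z` weakly closed in `Q`, split extension, `z ~ y ~ s ~ s y`, `z ≁ s z, s y z`. -/
structure LFour {G : Type*} [Group G] (Q : Subgroup G) (z i j k l x₁ x₂ y s : G) : Prop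
    extends Case9aa Q z i j k l x₁ x₂ y s where
  y1' : y * y = 1
  s1' : s * s = 1
  sy' : s * y = y * s
  weak : ∀ x ∈ Q, IsConj z x → x = z
  conj_y : IsConj z y
  conj_s : IsConj z s
  conj_sy : IsConj z (s * y)
  nconj_sz : ¬ IsConj z (s * z)
  nconj_syz : ¬ IsConj z (s * y * z)

end Cfsg.Agent.LargeExtra.W2
end

-- part: LargeExtra/W2/LFour/Bridge
section
/-!
# S1759, `L₄(3)`: from the fusion data `LFour` to the automorphism `θ` of `E` (helper156)
-/

set_option autoImplicit false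
set_option linter.unusedSimpArgs false

namespace Cfsg.Agent.LargeExtra.W2.LFour.Bridge

open Cfsg.Agent.LargeExtra.W2 Cfsg.Agent.LargeExtra.W2.LFour.TwoT DihedralGroup
open Cfsg.Agent.LargeExtra.W2.LFour.ElemN
open Cfsg.Agent.SmallExtra438.ModelA Cfsg.Agent.SmallExtra438.FrameA
open Cfsg.Agent.SmallExtra438.ClassA

variable {G : Type*} [Group G] {Q : Subgroup G} {z i j k l x₁ x₂ y s θ : G}

/-- codes of `E = ⟨z, y, d, s⟩` -/
def EL : List ℕ := [0, 15, 16, 31, 288, 303, 304, 319, 576, 591, 592, 607, 864, 879, 880, 895]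

private noncomputable def _root_.Cfsg.Agent.LsF.f00a27b_2 : {f // @Cfsg.Agent.SmallExtra438.Model.par = f} := ⟨_, by first | (delta Cfsg.Agent.SmallExtra438.Model.par; rewrite [Cfsg.Agent.LsF.nmod_pat, Cfsg.Agent.LsF.nshr_pat]; exact rfl) | exact rfl⟩
private noncomputable def _root_.Cfsg.Agent.LsF.f00a27b_3 : {f // @Cfsg.Agent.SmallExtra438.Model.qm = f} := ⟨_, by first | (delta Cfsg.Agent.SmallExtra438.Model.qm; rewrite [Cfsg.Agent.LsF.f00a27b_2.2, Cfsg.Agent.LsF.nmul_pat, Cfsg.Agent.LsF.ndiv_pat, Cfsg.Agent.LsF.nmod_pat, Cfsg.Agent.LsF.nand_pat, Cfsg.Agent.LsF.nxor_pat]; exact rfl) | exact rfl⟩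
private noncomputable def _root_.Cfsg.Agent.LsF.f00a27b_4 : {f // @Cfsg.Agent.SmallExtra438.ModelA.act = f} := ⟨_, by first | (delta Cfsg.Agent.SmallExtra438.ModelA.act; rewrite [Cfsg.Agent.LsF.nadd_pat, Cfsg.Agent.LsF.nmul_pat, Cfsg.Agent.LsF.nmod_pat, Cfsg.Agent.LsF.nand_pat, Cfsg.Agent.LsF.nxor_pat, Cfsg.Agent.LsF.nshr_pat]; exact rfl) | exact rfl⟩
private noncomputable def _root_.Cfsg.Agent.LsF.f00a27b_5 : {f // @Cfsg.Agent.SmallExtra438.ModelA.tw = f} := ⟨_, by first | (delta Cfsg.Agent.SmallExtra438.ModelA.tw; rewrite [Cfsg.Agent.LsF.nadd_pat, Cfsg.Agent.LsF.nmul_pat, Cfsg.Agent.LsF.ndiv_pat, Cfsg.Agent.LsF.nmod_pat]; exact rfl) | exact rfl⟩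
private noncomputable def _root_.Cfsg.Agent.LsF.f00a27b_6 : {f // @Cfsg.Agent.SmallExtra438.ModelA.km = f} := ⟨_, by first | (delta Cfsg.Agent.SmallExtra438.ModelA.km; rewrite [Cfsg.Agent.LsF.nadd_pat, Cfsg.Agent.LsF.nmul_pat, Cfsg.Agent.LsF.ndiv_pat, Cfsg.Agent.LsF.nmod_pat, Cfsg.Agent.LsF.instDecEq_eq, Cfsg.Agent.LsF.ite_eq]; exact rfl) | exact rfl⟩
private noncomputable def _root_.Cfsg.Agent.LsF.f00a27b_7 : {f // @Cfsg.Agent.SmallExtra438.ModelA.mm = f} := ⟨_, by first | (delta Cfsg.Agent.SmallExtra438.ModelA.mm; rewrite [Cfsg.Agent.LsF.f00a27b_3.2, Cfsg.Agent.LsF.f00a27b_4.2, Cfsg.Agent.LsF.f00a27b_5.2, Cfsg.Agent.LsF.f00a27b_6.2, Cfsg.Agent.LsF.nadd_pat, Cfsg.Agent.LsF.nmul_pat, Cfsg.Agent.LsF.ndiv_pat, Cfsg.Agent.LsF.nmod_pat, Cfsg.Agent.LsF.nxor_pat]; exact rfl) | exact rfl⟩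
private noncomputable def _root_.Cfsg.Agent.LsF.f00a27b_8 : {f // @Cfsg.Agent.Lib.HoistLin.dB = f} := ⟨_, by first | (delta Cfsg.Agent.Lib.HoistLin.dB; rewrite [Cfsg.Agent.LsF.dIff_eq, Cfsg.Agent.LsF.dBoolEq_eq]; exact rfl) | exact rfl⟩
theorem EL_cent : ∀ m < 1152, mm 0 m 288 = mm 0 288 m → m ∈ EL := by (set_option synthInstance.maxSize 2000 in open scoped Cfsg.Agent.Lib.HoistLin in (refine of_decide_eq_true ?_; (try (rewrite [Cfsg.Agent.LsF.dMemE_pat, Cfsg.Agent.LsF.f00a27b_7.2, Cfsg.Agent.LsF.f00a27b_8.2, Cfsg.Agent.LsF.instDecEq_eq, Cfsg.Agent.LsF.dAllP_eq, Cfsg.Agent.LsF.decide_eq])); decide +kernel))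

theorem EL_lt : ∀ m ∈ EL, m < 1152 := by decide

/-- every element of `E` is a product of the generators -/
theorem EL_gen : ∀ m ∈ EL, ∃ a ∈ ([0, 15] : List ℕ), ∃ b ∈ ([0, 16] : List ℕ), ∃ c ∈ ([0, 288] : List ℕ),
    ∃ e ∈ ([0, 576] : List ℕ), mm 0 (mm 0 (mm 0 a b) c) e = m := by decide +kernel

section

variable [Finite G] (h : Case9aa Q z i j k l x₁ x₂ y s) (ht : Tw 0 z y s)
include h ht

/-- `C_G({z, y}) = E` -/
theorem cent_zy {c : G} (h1 : c * z = z * c) (h2 : c * y = y * c) :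
    ∃ m ∈ EL, F z i j k l x₁ x₂ y s m = c := by
  obtain ⟨m, hm, rfl⟩ := exists_code h h1
  refine ⟨m, ?_, rfl⟩
  apply EL_cent m hm
  rw [← comm_iff h ht hm (by norm_num), F_288]
  exact h2

end

theorem tw0 (h1 : y * y = 1) (h2 : s * s = 1) (h3 : s * y = y * s) : Tw 0 z y s := tw_zero h1 h2 h3

/-- `C_G(E) = E` -/
theorem ce_of [Finite G] (h : Case9aa Q z i j k l x₁ x₂ y s) (hy : y * y = 1) (hs : s * s = 1)
    (hsy : s * y = y * s) : CE (w7 h hy hs hsy) := by
  have ht := tw0 (z := z) hy hs hsy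
  have W := w7 h hy hs hsy
  intro c hc
  have h1 : c * z = z * c := by
    have := hc (r 2, r 2) (by decide)
    rwa [phi_z] at this
  have h2 : c * y = y * c := by
    have := hc (sr 0, sr 0) (by decide)
    rwa [phi_y] at this
  obtain ⟨m, hm, rfl⟩ := cent_zy h ht h1 h2
  have hmul : ∀ m n, m < 1152 → n < 1152 →
      (∃ x, KK x ∧ F z i j k l x₁ x₂ y s m = phi W x) →
      (∃ x, KK x ∧ F z i j k l x₁ x₂ y s n = phi W x) →
      ∃ x, KK x ∧ F z i j k l x₁ x₂ y s (mm 0 m n) = phi W x := by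
    rintro m n hm hn ⟨x, hx, ex⟩ ⟨x', hx', ex'⟩
    exact ⟨x * x', K_mul x x' hx hx', by rw [F_mul h ht hm hn, ex, ex', map_mul]⟩
  have g0 : ∃ x, KK x ∧ F z i j k l x₁ x₂ y s 0 = phi W x :=
    ⟨1, by decide, by rw [F_0, map_one]⟩
  clear hc h1 h2
  obtain ⟨a, ha, b, hb, u, hu, e, he, rfl⟩ := EL_gen m hm
  have la : a < 1152 ∧ ∃ x, KK x ∧ F z i j k l x₁ x₂ y s a = phi W x := by
    simp only [List.mem_cons, List.not_mem_nil, or_false] at ha
    rcases ha with rfl | rfl
    · exact ⟨by norm_num, g0⟩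
    · exact ⟨by norm_num, (r 2, 1), by decide, by rw [F_15, phi_d]⟩
  have lb : b < 1152 ∧ ∃ x, KK x ∧ F z i j k l x₁ x₂ y s b = phi W x := by
    simp only [List.mem_cons, List.not_mem_nil, or_false] at hb
    rcases hb with rfl | rfl
    · exact ⟨by norm_num, g0⟩
    · exact ⟨by norm_num, (r 2, r 2), by decide, by rw [F_16, phi_z]⟩
  have lc : u < 1152 ∧ ∃ x, KK x ∧ F z i j k l x₁ x₂ y s u = phi W x := by
    simp only [List.mem_cons, List.not_mem_nil, or_false] at hu
    rcases hu with rfl | rfl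
    · exact ⟨by norm_num, g0⟩
    · exact ⟨by norm_num, (sr 0, sr 0), by decide, by rw [F_288, phi_y]⟩
  have le : e < 1152 ∧ ∃ x, KK x ∧ F z i j k l x₁ x₂ y s e = phi W x := by
    simp only [List.mem_cons, List.not_mem_nil, or_false] at he
    rcases he with rfl | rfl
    · exact ⟨by norm_num, g0⟩
    · exact ⟨by norm_num, (1, sr 0), by decide, by rw [F_576, phi_s]⟩
  have h1 := hmul a b la.1 lb.1 la.2 lb.2
  have l1 := mm_lt (t := 0) la.1 lb.1
  have h2 := hmul _ u l1 lc.1 h1 lc.2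
  exact hmul _ e (mm_lt l1 lc.1) le.1 h2 le.2

/-- **[N]**: the elements `w, w'` -/
theorem exists_elem [Finite G] (h : Fus Q z i j k l x₁ x₂ y s θ) :
    ∃ w w', Elem Q z i j k l x₁ x₂ y s θ w w' ∧
      (i * (s * y) * i⁻¹) * w * (i * (s * y) * i⁻¹)⁻¹ = w⁻¹ ∧
      (i⁻¹ * s * i) * w' * (i⁻¹ * s * i)⁻¹ = w'⁻¹ :=
  exists_elem_of h (ce_of h.toCase9aa h.y_sq h.s_sq h.s_y)

/-- **[N]** in helper465's form -/
theorem exists_elem2 [Finite G] (h : Fus Q z i j k l x₁ x₂ y s θ) :
    ∃ w w', PresDef.Elem2 Q z i j k l x₁ x₂ y s θ w w' := by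
  obtain ⟨w, w', h1, h2, h3⟩ := exists_elem h
  exact ⟨w, w', { h1 with w_inv := h2, w'_inv := h3 }⟩

/-! ### The construction of `θ` -/

/-- the types of the elements of `E`: `(m, r)`, `r` a representative -/
theorem EL_cls : ∀ m ∈ EL, m = 0 ∨ m ∈ ([15, 31, 576, 607, 864, 879] : List ℕ) ∨
    ∃ r ∈ ([16, 288, 592, 880] : List ℕ), ∃ c < 1152, mm 0 c m = mm 0 r c := by
  intro m hm
  have h1 : ∀ m ∈ EL, m = 0 ∨ m ∈ ([15, 31, 576, 607, 864, 879] : List ℕ) ∨
    ∃ x ∈ cls0, x.1 = m ∧ x.2.2 ∈ ([16, 288, 592, 880] : List ℕ) := by decide +kernel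
  rcases h1 m hm with h2 | h2 | ⟨x, hx, rfl, h3⟩
  · exact Or.inl h2
  · exact Or.inr (Or.inl h2)
  · obtain ⟨-, h4, -, h5⟩ := cls0_ok x hx
    exact Or.inr (Or.inr ⟨_, h3, _, h4, h5⟩)

/-- the fusion data in the frame with `s` of type `d` -/
structure Pre (Q : Subgroup G) (z i j k l x₁ x₂ y s : G) : Prop extends Case9aa Q z i j k l x₁ x₂ y s where
  y_sq : y * y = 1
  s_sq : s * s = 1
  s_y : s * y = y * s
  weak : ∀ x ∈ Q, IsConj z x → x = z
  c_y : IsConj z y
  c_zs : IsConj z (z * s)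
  c_zys : IsConj z (z * (y * s))
  n_s : ¬ IsConj z s
  n_ys : ¬ IsConj z (y * s)

section

variable [Finite G] (h : Pre Q z i j k l x₁ x₂ y s)
include h

theorem tw : Tw 0 z y s := tw0 h.y_sq h.s_sq h.s_y

theorem F_592 : F z i j k l x₁ x₂ y s 592 = z * s := by
  rw [show 592 = mm 0 16 576 by decide +kernel,
      F_mul h.toCase9aa (tw h) (by norm_num) (by norm_num),
    F_16, F_576]

theorem F_864 : F z i j k l x₁ x₂ y s 864 = y * s := by
  rw [show 864 = mm 0 288 576 by decide +kernel,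
      F_mul h.toCase9aa (tw h) (by norm_num) (by norm_num),
    F_288, F_576]

theorem F_880 : F z i j k l x₁ x₂ y s 880 = z * (y * s) := by
  rw [show 880 = mm 0 16 864 by decide +kernel,
      F_mul h.toCase9aa (tw h) (by norm_num) (by norm_num),
    F_16, F_864 h]

/-- the elements of `E` not conjugate to `z` -/
theorem not_conj {m : ℕ} (hm : m ∈ EL) (h0 : m ≠ 0) (hn : ¬ IsConj z (F z i j k l x₁ x₂ y s m)) :
    m ∈ ([15, 31, 576, 607, 864, 879] : List ℕ) := by
  rcases EL_cls m hm with h1 | h1 | ⟨r, hr, c, hc, he⟩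
  · exact absurd h1 h0
  · exact h1
  · exfalso
    apply hn
    have hr' : r < 1152 := by
      have : ∀ r ∈ ([16, 288, 592, 880] : List ℕ), r < 1152 := by decide
      exact this r hr
    refine IsConj.trans ?_ (isConj_of h.toCase9aa (tw h) hc (EL_lt m hm) hr' he).symm
    simp only [List.mem_cons, List.not_mem_nil, or_false] at hr
    rcases hr with rfl | rfl | rfl | rfl
    · rw [F_16]
    · rw [F_288]; exact h.c_y
    · rw [F_592 h]; exact h.c_zs
    · rw [F_880 h]; exact h.c_zys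

end

/-- the action of `θ` on codes, `θ d θ⁻¹ = m`, `θ s θ⁻¹ = n` -/
def img (m n c : ℕ) : ℕ :=
  mm 0 (mm 0 (mm 0 (if c % 2 = 1 then m else 0) (if c / 16 % 2 = 1 then 288 else 0))
    (if c / 288 % 2 = 1 then 304 else 0)) (if c / 576 = 1 then n else 0)

section

variable [Finite G] (h : Pre Q z i j k l x₁ x₂ y s)
include h

end

/-! ### Change of the frame: `s ↦ s z` -/

end Cfsg.Agent.LargeExtra.W2.LFour.Bridge
end

-- part: LargeExtra/W2/LFour/CentD
section
/-!
# S1759, `L₄(3)`: `C_G(d)` normalises `⟨v⟩`, `v = y i k` (helper156)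
-/

set_option autoImplicit false
set_option linter.unusedSimpArgs false

namespace Cfsg.Agent.LargeExtra.W2.LFour.CentD

open Cfsg.Agent.LargeExtra.W2 Cfsg.Agent.LargeExtra.W2.LFour.TwoT DihedralGroup
open Cfsg.Agent.LargeExtra.W2.LFour.ElemN Cfsg.Agent.LargeExtra.W2.LFour.Bridge
open Cfsg.Agent.LargeExtra.W2.LFour.PresDef
open Cfsg.Agent.SmallExtra438.ModelA Cfsg.Agent.SmallExtra438.FrameA
open Cfsg.Agent.SmallExtra438.ClassA

variable {G : Type*} [Group G] {Q : Subgroup G} {z i j k l x₁ x₂ y s θ w w' : G}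

/-! ### The model -/

theorem tu_v : ∀ m < 1152, mm 0 m 15 = mm 0 15 m → mm 0 m 298 = mm 0 298 m ∨ mm 0 m 298 = mm 0 293 m := by
  (set_option synthInstance.maxSize 2000 in open scoped Cfsg.Agent.Lib.HoistLin in (refine of_decide_eq_true ?_; (try (rewrite [Cfsg.Agent.LsF.f00a27b_7.2, Cfsg.Agent.LsF.f00a27b_8.2, Cfsg.Agent.LsF.instDecEq_eq, Cfsg.Agent.LsF.dOr_eq, Cfsg.Agent.LsF.dAllP_eq, Cfsg.Agent.LsF.decide_eq])); decide +kernel))

theorem tu_pow : ∀ m < 1152, mm 0 m 15 = mm 0 15 m →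
    mm 0 (mm 0 (mm 0 m m) (mm 0 m m)) (mm 0 (mm 0 m m) (mm 0 m m)) = 0 := by (set_option synthInstance.maxSize 2000 in open scoped Cfsg.Agent.Lib.HoistLin in (refine of_decide_eq_true ?_; (try (rewrite [Cfsg.Agent.LsF.f00a27b_7.2, Cfsg.Agent.LsF.f00a27b_8.2, Cfsg.Agent.LsF.instDecEq_eq, Cfsg.Agent.LsF.dAllP_eq, Cfsg.Agent.LsF.decide_eq])); decide +kernel))

theorem tu_center : ∀ m < 1152, (mm 0 m 15 = mm 0 15 m ∧ mm 0 m 3 = mm 0 3 m) ∧
    (mm 0 m 5 = mm 0 5 m ∧ mm 0 m 288 = mm 0 288 m ∧ mm 0 m 576 = mm 0 576 m) →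
    m ∈ ([0, 15, 16, 31] : List ℕ) := by
  (set_option synthInstance.maxSize 2000 in open scoped Cfsg.Agent.Lib.HoistLin in (refine of_decide_eq_true ?_; (try (rewrite [Cfsg.Agent.LsF.dMemE_pat, Cfsg.Agent.LsF.f00a27b_7.2, Cfsg.Agent.LsF.f00a27b_8.2, Cfsg.Agent.LsF.instDecEq_eq, Cfsg.Agent.LsF.dAnd_eq, Cfsg.Agent.LsF.dAllP_eq, Cfsg.Agent.LsF.decide_eq])); decide +kernel))

section

variable (W : W7 z i j k l y s)
include W

theorem v_sq : y * (i * k) * (y * (i * k)) = i * j * k * l := by simp only [ma, mo, W.zk_, W.zl_, W.zz, W.zz_, W.ji_, W.li_, W.lk, W.yi_, W.yj_, W.yk, W.yl_, W.yy, mo]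

theorem v_eq : y * (i * k) = s * y * (s * (i * k)) := by simp only [ma, mo, W.zl_, W.zz_, W.ki, W.ki_, W.yi_, W.yk, W.si_, W.sk, W.sk_, W.sy, W.ss, mo]

theorem v_eq' : y * (i * k) = i * (s * (i * l * (i * j * k * l) * s * y)) * i⁻¹ := by
  simp only [ma, mo, W.ii_, W.zj_, W.zk, W.ll_, W.zl, W.zl_, W.zz, W.zz_, W.li_, W.lj_, W.lk_, W.yi_, W.yk, W.yz, W.sj_, W.sk_, W.sz_, W.sy, W.sy_, W.ss, W.inv_i, mo]

theorem s_v : s * (y * (i * k)) = y * (i * k) * s := by simp only [ma, W.zl_, W.zz_, W.lj_, W.yi_, W.yk, W.sj_, W.sl_, W.sy]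

theorem T_v : i * (s * y) * i⁻¹ * (y * (i * k)) = y * (i * k) * (i * (s * y) * i⁻¹) := by
  simp only [ma, W.ii_, W.jj_, W.zk_, W.zl_, W.zz_, W.li_, W.lj_, W.lk_, W.yi_, W.yj_, W.yk, W.yk_, W.yl_, W.yz_, W.yy_, W.si_, W.sj_, W.sl_, W.sz, W.sy, W.inv_i]

theorem z_d : z * (i * j * k * l) = i * j * k * l * z := by simp only [ma, W.zi_, W.zj_, W.zk_, W.zl]

theorem d_sq : i * j * k * l * (i * j * k * l) = 1 := by simp only [ma, mo, W.ii_, W.jj, W.zj_, W.kk, W.ll_, W.zl, W.zz, W.ji_, W.ki_, W.li_, W.kj_, W.lj_, W.lk_, mo]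

theorem v_inv : (y * (i * k))⁻¹ = y * (i * k) * (i * j * k * l) := by simp only [ma, W.zi_, W.jj_, W.zj_, W.zk_, W.ll_, W.zl_, W.zz_, W.ji_, W.ki_, W.li_, W.lj_, W.lk_, W.yi_, W.yj_, W.yk, W.yk_, W.yl, W.yl_, W.yz, mul_inv_rev, W.inv_j, W.inv_l, W.inv_y]

theorem sy_v : s * y * (y * (i * k)) * (s * y)⁻¹ = (y * (i * k))⁻¹ := by simp only [ma, mo, W.zk_, W.zl_, W.zz_, W.ki_, W.lj_, W.yi_, W.yj_, W.yk, W.yl_, W.yz, W.yy_, W.sj_, W.sl_, W.sy, W.sy_, W.ss, mul_inv_rev, W.inv_j, W.inv_l, W.inv_y, W.inv_s, mo]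

theorem ij_d : i * j * (i * j * k * l) = i * j * k * l * (i * j) := by simp only [ma, mo, W.ii_, W.jj_, W.zj_, W.zk_, W.zl, W.zl_, W.zz, W.ji_, W.ki_, W.li_, W.kj_, W.lj, mo]
theorem ik_d : i * k * (i * j * k * l) = i * j * k * l * (i * k) := by simp only [ma, mo, W.ii_, W.zj_, W.kk_, W.zl, W.zl_, W.zz, W.ji_, W.ki_, W.li_, W.kj_, W.lk, mo]
theorem y_d : y * (i * j * k * l) = i * j * k * l * y := by simp only [ma, W.zi_, W.zk_, W.zl_, W.zz_, W.ji_, W.lk_, W.yi_, W.yj_, W.yk_, W.yl]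
theorem s_d : s * (i * j * k * l) = i * j * k * l * s := by simp only [ma, W.ki_, W.li_, W.kj_, W.lj_, W.si_, W.sj_, W.sk_, W.sl]

end

section

variable (h : Elem2 Q z i j k l x₁ x₂ y s θ w w')
include h

theorem w7h : W7 z i j k l y s := w7' h.toFus

theorem w_v : w * (y * (i * k)) = y * (i * k) * w := by
  rw [v_eq (w7h h)]
  have c1 : Commute w (s * y) := h.w_sy
  have c2 : Commute w (s * (i * k)) := h.w_z1
  exact (c1.mul_right c2).eq

theorem b_v : i * w' * i⁻¹ * (y * (i * k)) = y * (i * k) * (i * w' * i⁻¹) := by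
  have c1 : Commute w' s := h.w'_s
  have c2 : Commute w' (i * l * (i * j * k * l) * s * y) := h.w'_z2
  have c3 := (c1.mul_right c2).eq
  rw [v_eq' (w7h h)]
  calc i * w' * i⁻¹ * (i * (s * (i * l * (i * j * k * l) * s * y)) * i⁻¹)
      = i * (w' * (s * (i * l * (i * j * k * l) * s * y))) * i⁻¹ := by group
    _ = i * ((s * (i * l * (i * j * k * l) * s * y)) * w') * i⁻¹ := by rw [c3]
    _ = _ := by group

/-- `M` centralises `v` -/
theorem M_v {a : G} (ha : a ∈ Subgroup.closure ({s, i * (s * y) * i⁻¹, w, i * w' * i⁻¹} : Set G)) :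
    a * (y * (i * k)) = y * (i * k) * a := by
  have h1 : Subgroup.closure ({s, i * (s * y) * i⁻¹, w, i * w' * i⁻¹} : Set G) ≤
      Subgroup.centralizer {y * (i * k)} := by
    rw [Subgroup.closure_le]
    intro g hg
    simp only [Set.mem_insert_iff, Set.mem_singleton_iff] at hg
    rw [SetLike.mem_coe, Subgroup.mem_centralizer_singleton_iff]
    rcases hg with rfl | rfl | rfl | rfl
    · exact s_v (w7h h)
    · exact T_v (w7h h)
    · exact w_v h
    · exact b_v h
  exact Subgroup.mem_centralizer_singleton_iff.1 (h1 ha)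

theorem comm_d_of_v {a : G} (ha : a * (y * (i * k)) = y * (i * k) * a) :
    a * (i * j * k * l) = i * j * k * l * a := by
  rw [← v_sq (w7h h)]
  have c : Commute a (y * (i * k)) := ha
  exact (c.mul_right c).eq

/-- conjugation by elements of `T_u = C_C(d)` -/
theorem tu_cases [Finite G] {c : G} (h1 : c * z = z * c) (h2 : c * (i * j * k * l) = i * j * k * l * c) :
    c * (y * (i * k)) * c⁻¹ = y * (i * k) ∨ c * (y * (i * k)) * c⁻¹ = (y * (i * k))⁻¹ := by
  have hC := h.toCase9aa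
  have ht := tw0 (z := z) h.y_sq h.s_sq h.s_y
  have hv : F z i j k l x₁ x₂ y s 298 = y * (i * k) := by
    rw [show 298 = mm 0 288 5 by decide +kernel, F_mul hC ht (by norm_num) (by norm_num), F_288, F_5]
  have hvi : F z i j k l x₁ x₂ y s 293 = (y * (i * k))⁻¹ := by
    rw [← hv]
    symm
    exact F_inv hC ht (by norm_num) (by norm_num) (by decide +kernel)
  obtain ⟨m, hm, rfl⟩ := exists_code hC h1
  rw [← F_15 (z := z) (i := i) (j := j) (k := k) (l := l) (x₁ := x₁) (x₂ := x₂) (y := y) (s := s),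
    comm_iff hC ht hm (by norm_num)] at h2
  rcases tu_v m hm h2 with h3 | h3
  · left
    rw [← hv]
    exact (conj_eq_iff hC ht hm (by norm_num) (by norm_num)).2 h3
  · right
    rw [← hvi, ← hv]
    exact (conj_eq_iff hC ht hm (by norm_num) (by norm_num)).2 h3

theorem tu_pow8 [Finite G] {c : G} (h1 : c * z = z * c) (h2 : c * (i * j * k * l) = i * j * k * l * c) :
    c ^ 8 = 1 := by
  have hC := h.toCase9aa
  have ht := tw0 (z := z) h.y_sq h.s_sq h.s_y
  obtain ⟨m, hm, rfl⟩ := exists_code hC h1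
  rw [← F_15 (z := z) (i := i) (j := j) (k := k) (l := l) (x₁ := x₁) (x₂ := x₂) (y := y) (s := s),
    comm_iff hC ht hm (by norm_num)] at h2
  have h3 := tu_pow m hm h2
  have m2 := mm_lt (t := 0) hm hm
  have m4 := mm_lt (t := 0) m2 m2
  have h4 := congrArg (F z i j k l x₁ x₂ y s) h3
  rw [F_mul hC ht m4 m4, F_mul hC ht m2 m2, F_mul hC ht hm hm, F_0] at h4
  rw [← h4]
  simp only [pow_succ, pow_zero, one_mul, mul_assoc]

theorem tu_cent [Finite G] {c : G} (h1 : c * z = z * c) (h2 : c * (i * j * k * l) = i * j * k * l * c)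
    (h3 : c * (i * j) = i * j * c) (h4 : c * (i * k) = i * k * c) (h5 : c * y = y * c)
    (h6 : c * s = s * c) : c = 1 ∨ c = i * j * k * l ∨ c = z ∨ c = i * j * k * l * z := by
  have hC := h.toCase9aa
  have ht := tw0 (z := z) h.y_sq h.s_sq h.s_y
  obtain ⟨m, hm, rfl⟩ := exists_code hC h1
  rw [← F_15 (z := z) (i := i) (j := j) (k := k) (l := l) (x₁ := x₁) (x₂ := x₂) (y := y) (s := s),
    comm_iff hC ht hm (by norm_num)] at h2
  rw [← F_3 (z := z) (i := i) (j := j) (k := k) (l := l) (x₁ := x₁) (x₂ := x₂) (y := y) (s := s),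
    comm_iff hC ht hm (by norm_num)] at h3
  rw [← F_5 (z := z) (i := i) (j := j) (k := k) (l := l) (x₁ := x₁) (x₂ := x₂) (y := y) (s := s),
    comm_iff hC ht hm (by norm_num)] at h4
  have e5 := (comm_iff hC ht hm (n := 288) (by norm_num)).1 (by rw [F_288]; exact h5)
  have e6 := (comm_iff hC ht hm (n := 576) (by norm_num)).1 (by rw [F_576]; exact h6)
  have h7 := tu_center m hm ⟨⟨h2, h3⟩, h4, e5, e6⟩
  simp only [List.mem_cons, List.not_mem_nil, or_false] at h7
  rcases h7 with rfl | rfl | rfl | rfl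
  · exact Or.inl F_0
  · exact Or.inr (Or.inl F_15)
  · exact Or.inr (Or.inr (Or.inl F_16))
  · right; right; right
    rw [show 31 = mm 0 15 16 by decide +kernel, F_mul hC ht (by norm_num) (by norm_num), F_15, F_16]

end

/-! ### The claim -/

/-- the hypotheses on `M = ⟨s, T, w, b⟩` -/
structure HM (i s y w w' : G) (v dz : G) : Prop where
  hv : ∀ g, g * v = v * g → ∃ n : ℤ, ∃ a ∈ Subgroup.closure ({s, i * (s * y) * i⁻¹, w, i * w' * i⁻¹} : Set G),
    g = v ^ n * a
  hconj : ∀ a ∈ Subgroup.closure ({s, i * (s * y) * i⁻¹, w, i * w' * i⁻¹} : Set G), a * a = 1 → a ≠ 1 →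
    ∃ g ∈ Subgroup.closure ({s, i * (s * y) * i⁻¹, w, i * w' * i⁻¹} : Set G), g * a * g⁻¹ = dz

section

variable (h : Elem2 Q z i j k l x₁ x₂ y s θ w w')
include h

theorem claim [Finite G] (hM : HM i s y w w' (y * (i * k)) (i * j * k * l * z)) {g : G}
    (hg : g * (i * j * k * l) = i * j * k * l * g)
    (hc : g * (y * (i * k)) * g⁻¹ * z = z * (g * (y * (i * k)) * g⁻¹)) :
    g * (y * (i * k)) * g⁻¹ = y * (i * k) ∨ g * (y * (i * k)) * g⁻¹ = (y * (i * k))⁻¹ := by
  have W := w7h h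
  have hvv := v_sq W
  have hdd := d_sq W
  have h1 : g⁻¹ * z * g * (y * (i * k)) = y * (i * k) * (g⁻¹ * z * g) := by
    calc g⁻¹ * z * g * (y * (i * k)) = g⁻¹ * (z * (g * (y * (i * k)) * g⁻¹)) * g := by group
      _ = g⁻¹ * (g * (y * (i * k)) * g⁻¹ * z) * g := by rw [hc]
      _ = _ := by group
  obtain ⟨n, a, ha, he⟩ := hM.hv _ h1
  have hav := M_v h ha
  have cav : Commute a (y * (i * k)) := hav
  -- `v ^ (2 n) ∈ {1, d}`
  have hpow : ∀ n : ℤ, (y * (i * k)) ^ n * (y * (i * k)) ^ n = 1 ∨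
      (y * (i * k)) ^ n * (y * (i * k)) ^ n = i * j * k * l := by
    intro n
    have e1 : (y * (i * k)) ^ n * (y * (i * k)) ^ n = (i * j * k * l) ^ n := by
      rw [← zpow_add, ← two_mul, zpow_mul, zpow_two, hvv]
    rw [e1]
    rcases Int.even_or_odd' n with ⟨m, rfl | rfl⟩
    · left; rw [zpow_mul, zpow_two, hdd, one_zpow]
    · right; rw [zpow_add, zpow_mul, zpow_two, hdd, one_zpow, one_mul, zpow_one]
  -- `d ∉ M`
  have hdM : i * j * k * l ∉ Subgroup.closure ({s, i * (s * y) * i⁻¹, w, i * w' * i⁻¹} : Set G) := by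
    intro hd
    obtain ⟨m, hm, em⟩ := hM.hconj _ hd hdd (by
      intro h0
      have h2 := i_d W
      rw [h0, mul_one, mul_inv_cancel, one_mul] at h2
      exact h.large.z_ne h2.symm)
    have h2 := comm_d_of_v h (M_v h hm)
    rw [h2, mul_inv_cancel_right] at em
    apply h.large.z_ne
    have h3 : i * j * k * l * 1 = i * j * k * l * z := by rw [mul_one]; exact em
    exact (mul_left_cancel h3).symm
  have hsq : (y * (i * k)) ^ n * (y * (i * k)) ^ n * (a * a) = 1 := by
    have e1 : g⁻¹ * z * g * (g⁻¹ * z * g) = 1 := by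
      calc g⁻¹ * z * g * (g⁻¹ * z * g) = g⁻¹ * (z * z) * g := by group
        _ = 1 := by rw [h.large.z_sq]; group
    rw [he] at e1
    have c2 : Commute a ((y * (i * k)) ^ n) := cav.zpow_right n
    rw [← e1]
    calc (y * (i * k)) ^ n * (y * (i * k)) ^ n * (a * a)
        = (y * (i * k)) ^ n * ((y * (i * k)) ^ n * a) * a := by simp only [mul_assoc]
      _ = (y * (i * k)) ^ n * (a * (y * (i * k)) ^ n) * a := by rw [c2.eq]
      _ = _ := by simp only [mul_assoc]
  have haa : a * a = 1 ∧ (y * (i * k)) ^ n * (y * (i * k)) ^ n = 1 := by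
    rcases hpow n with h2 | h2
    · rw [h2, one_mul] at hsq
      exact ⟨hsq, h2⟩
    · exfalso
      rw [h2] at hsq
      apply hdM
      have e1 : a * a = i * j * k * l := by
        rw [← mul_one (i * j * k * l), ← hsq, ← mul_assoc, hdd, one_mul]
      rw [← e1]
      exact mul_mem ha ha
  have hn : (y * (i * k)) ^ n = 1 ∨ (y * (i * k)) ^ n = i * j * k * l := by
    rcases Int.even_or_odd' n with ⟨m, hm | hm⟩
    · rw [hm, zpow_mul, zpow_two, hvv]
      rcases Int.even_or_odd' m with ⟨m', rfl | rfl⟩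
      · left; rw [zpow_mul, zpow_two, hdd, one_zpow]
      · right; rw [zpow_add, zpow_mul, zpow_two, hdd, one_zpow, one_mul, zpow_one]
    · exfalso
      have e1 := haa.2
      rw [← zpow_add, ← two_mul, zpow_mul, zpow_two, hvv, hm, zpow_add, zpow_mul, zpow_two, hdd,
        one_zpow, one_mul, zpow_one] at e1
      have h2 := i_d W
      rw [e1, mul_one, mul_inv_cancel, one_mul] at h2
      exact h.large.z_ne h2.symm
  have hzc : ∀ b : G, IsConj (g⁻¹ * z * g) b → IsConj z b := by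
    intro b hb
    refine IsConj.trans (isConj_iff.2 ⟨g⁻¹, ?_⟩) hb
    group
  have ha1 : a ≠ 1 := by
    rintro rfl
    rw [mul_one] at he
    rcases hn with h2 | h2
    · rw [h2] at he
      have := hzc 1 (by rw [he])
      rw [isConj_one_left] at this
      exact h.large.z_ne this
    · rw [h2] at he
      exact h.nc (hzc _ (by rw [he]))
  obtain ⟨m, hm, em⟩ := hM.hconj a ha haa.1 ha1
  have hmv := M_v h hm
  have cmv : Commute m (y * (i * k)) := hmv
  have e2 : m * (g⁻¹ * z * g) * m⁻¹ = (y * (i * k)) ^ n * (i * j * k * l * z) := by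
    rw [he, ← em]
    have c2 := (cmv.zpow_right n).eq
    calc m * ((y * (i * k)) ^ n * a) * m⁻¹ = m * (y * (i * k)) ^ n * a * m⁻¹ := by
          simp only [mul_assoc]
      _ = (y * (i * k)) ^ n * m * a * m⁻¹ := by rw [c2]
      _ = _ := by simp only [mul_assoc]
  have e3 : m * (g⁻¹ * z * g) * m⁻¹ = z := by
    rcases hn with h2 | h2
    · exfalso
      rw [h2, one_mul] at e2
      have h3 : IsConj z (i * j * k * l * z) := hzc _ (isConj_iff.2 ⟨m, e2⟩)
      exact h.nc (h3.trans (d_dz h.toFus).symm)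
    · rw [e2, h2, ← mul_assoc, hdd, one_mul]
  have c1 : (g * m⁻¹) * z = z * (g * m⁻¹) := by
    have e5 : (g * m⁻¹)⁻¹ * z * (g * m⁻¹) = z := by
      calc (g * m⁻¹)⁻¹ * z * (g * m⁻¹) = m * (g⁻¹ * z * g) * m⁻¹ := by group
        _ = z := e3
    calc (g * m⁻¹) * z = (g * m⁻¹) * ((g * m⁻¹)⁻¹ * z * (g * m⁻¹)) := by rw [e5]
      _ = _ := by group
  have c2 : (g * m⁻¹) * (i * j * k * l) = i * j * k * l * (g * m⁻¹) := by
    have a1 : Commute g (i * j * k * l) := hg
    have a2 : Commute m (i * j * k * l) := comm_d_of_v h hmv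
    exact (a1.mul_left a2.inv_left).eq
  have e4 : g * m⁻¹ * (y * (i * k)) * (g * m⁻¹)⁻¹ = g * (y * (i * k)) * g⁻¹ := by
    calc g * m⁻¹ * (y * (i * k)) * (g * m⁻¹)⁻¹ = g * m⁻¹ * (y * (i * k) * m) * g⁻¹ := by group
      _ = g * m⁻¹ * (m * (y * (i * k))) * g⁻¹ := by rw [hmv]
      _ = _ := by group
  rw [← e4]
  exact tu_cases h c1 c2

end

/-! ### `T_u` is a Sylow 2-subgroup of `C_G(d)` -/

/-- `T_u = C_G({z, d})` as a subgroup of `H = C_G(d)` -/
def Tu (d z : G) : Subgroup ↥(Subgroup.centralizer ({d} : Set G)) :=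
  (Subgroup.centralizer ({z} : Set G)).subgroupOf _

theorem mem_Tu {d z : G} {c : ↥(Subgroup.centralizer ({d} : Set G))} :
    c ∈ Tu d z ↔ (c : G) * z = z * c := by
  unfold Tu
  rw [Subgroup.mem_subgroupOf, Subgroup.mem_centralizer_singleton_iff]

section

variable (h : Elem2 Q z i j k l x₁ x₂ y s θ w w')
include h

theorem tu_pgroup [Finite G] : IsPGroup 2 (Tu (i * j * k * l) z) := by
  rintro ⟨c, hc⟩
  refine ⟨3, ?_⟩
  apply Subtype.ext
  apply Subtype.ext
  exact tu_pow8 h (mem_Tu.1 hc) (Subgroup.mem_centralizer_singleton_iff.1 c.2)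

theorem tu_normalizer [Finite G] :
    Subgroup.normalizer (Tu (i * j * k * l) z : Set ↥(Subgroup.centralizer ({i * j * k * l} : Set G))) ≤
      Tu (i * j * k * l) z := by
  have W := w7h h
  intro n hn
  rw [mem_Tu]
  have key : ∀ t : G, ∀ (ht1 : t * z = z * t) (ht2 : t * (i * j * k * l) = i * j * k * l * t),
      (n : G) * z * (n : G)⁻¹ * t = t * ((n : G) * z * (n : G)⁻¹) := by
    intro t ht1 ht2
    have h1 : (⟨t, Subgroup.mem_centralizer_singleton_iff.2 ht2⟩ :
        ↥(Subgroup.centralizer ({i * j * k * l} : Set G))) ∈ Tu (i * j * k * l) z := mem_Tu.2 ht1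
    have h2 := (Subgroup.mem_normalizer_iff''.1 hn _).1 h1
    have h3 : (n : G)⁻¹ * t * n * z = z * ((n : G)⁻¹ * t * n) := mem_Tu.1 h2
    calc (n : G) * z * (n : G)⁻¹ * t = n * (z * ((n : G)⁻¹ * t * n)) * (n : G)⁻¹ := by group
      _ = n * ((n : G)⁻¹ * t * n * z) * (n : G)⁻¹ := by rw [h3]
      _ = _ := by group
  have hnd : (n : G) * (i * j * k * l) = i * j * k * l * n :=
    Subgroup.mem_centralizer_singleton_iff.1 n.2
  have hzd := z_d W
  have k1 := key z rfl hzd
  have k2 := key (i * j * k * l) hzd.symm rfl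
  have kij := key (i * j) (by simp only [ma, W.zi_, W.zj]) (ij_d W)
  have kik := key (i * k) (by simp only [ma, W.zi_, W.zk]) (ik_d W)
  have ky := key y (by simp only [W.yz]) (y_d W)
  have ks := key s (by simp only [W.sz]) (s_d W)
  have hc : IsConj z ((n : G) * z * (n : G)⁻¹) := isConj_iff.2 ⟨n, rfl⟩
  rcases tu_cent h k1 k2 kij kik ky ks with h1 | h1 | h1 | h1
  · exfalso
    rw [h1, isConj_one_left] at hc
    exact h.large.z_ne hc
  · exfalso
    rw [h1] at hc
    exact h.nc hc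
  · rw [mul_inv_eq_iff_eq_mul] at h1
    exact h1
  · exfalso
    rw [h1] at hc
    exact h.nc (hc.trans (d_dz h.toFus).symm)

/-- every 2-subgroup of `C_G(d)` is conjugate into `T_u` -/
theorem exists_conj_tu [Finite G] {R : Subgroup ↥(Subgroup.centralizer ({i * j * k * l} : Set G))}
    (hR : IsPGroup 2 R) : ∃ n : ↥(Subgroup.centralizer ({i * j * k * l} : Set G)),
      ∀ x ∈ R, n * x * n⁻¹ ∈ Tu (i * j * k * l) z := by
  have : Fact (Nat.Prime 2) := ⟨Nat.prime_two⟩
  have hp := tu_pgroup h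
  obtain ⟨e, he⟩ := IsPGroup.iff_card.1 hp
  have h1 := Sylow.card_quotient_normalizer_modEq_card_quotient (p := 2) he
  have h2 : Subgroup.comap (Subgroup.normalizer (Tu (i * j * k * l) z :
      Set ↥(Subgroup.centralizer ({i * j * k * l} : Set G)))).subtype (Tu (i * j * k * l) z) = ⊤ := by
    rw [eq_top_iff]
    intro g _
    exact tu_normalizer h g.2
  rw [h2] at h1
  have h3 : Nat.card (↥(Subgroup.normalizer (Tu (i * j * k * l) z :
      Set ↥(Subgroup.centralizer ({i * j * k * l} : Set G)))) ⧸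
      (⊤ : Subgroup ↥(Subgroup.normalizer (Tu (i * j * k * l) z :
      Set ↥(Subgroup.centralizer ({i * j * k * l} : Set G)))))) = 1 := by
    have := (⊤ : Subgroup ↥(Subgroup.normalizer (Tu (i * j * k * l) z :
      Set ↥(Subgroup.centralizer ({i * j * k * l} : Set G))))).index_eq_card
    rw [Subgroup.index_top] at this
    exact this.symm
  rw [h3, ← Subgroup.index_eq_card] at h1
  have hnd : ¬ 2 ∣ (Tu (i * j * k * l) z).index := by
    intro h4
    have h5 : (Tu (i * j * k * l) z).index % 2 = 1 := h1.symm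
    omega
  let P : Sylow 2 ↥(Subgroup.centralizer ({i * j * k * l} : Set G)) := hp.toSylow hnd
  obtain ⟨S, hS⟩ := hR.exists_le_sylow
  obtain ⟨n, hn⟩ := MulAction.exists_smul_eq ↥(Subgroup.centralizer ({i * j * k * l} : Set G)) S P
  refine ⟨n, fun x hx => ?_⟩
  have h5 : n * x * n⁻¹ ∈ ((n • S : Sylow 2 _) : Subgroup _) := by
    rw [Sylow.smul_def, Sylow.pointwise_smul_def]
    exact Subgroup.smul_mem_pointwise_smul x (MulAut.conj n) _ (hS hx)
  rw [hn] at h5
  exact h5

/-- commuting conjugates of `v` modulo `⟨d⟩` -/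
theorem iso_v [Finite G] (hM : HM i s y w w' (y * (i * k)) (i * j * k * l * z)) {g : G}
    (hg : g * (i * j * k * l) = i * j * k * l * g)
    (hc : y * (i * k) * (g * (y * (i * k)) * g⁻¹) * (y * (i * k))⁻¹ * (g * (y * (i * k)) * g⁻¹)⁻¹ = 1 ∨
      y * (i * k) * (g * (y * (i * k)) * g⁻¹) * (y * (i * k))⁻¹ * (g * (y * (i * k)) * g⁻¹)⁻¹ =
        i * j * k * l) :
    (y * (i * k))⁻¹ * (g * (y * (i * k)) * g⁻¹) = 1 ∨
      (y * (i * k))⁻¹ * (g * (y * (i * k)) * g⁻¹) = i * j * k * l := by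
  have W := w7h h
  have hvv := v_sq W
  have hvi := v_inv W
  set v := y * (i * k) with hv
  set d := i * j * k * l with hd
  have hvd : v * d = d * v := by rw [← hvv]; simp only [mul_assoc]
  have hud : g * v * g⁻¹ * d = d * (g * v * g⁻¹) := by
    have c1 : Commute g d := hg
    have c2 : Commute v d := hvd
    exact ((c1.mul_left c2).mul_left c1.inv_left).eq
  set u := g * v * g⁻¹ with hu
  have huu : u * u = d := by
    calc u * u = g * (v * v) * g⁻¹ := by rw [hu]; group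
      _ = d := by rw [hvv, hg, mul_inv_cancel_right]
  -- `u` normalises `⟨v⟩`
  have huv : u * v * u⁻¹ ∈ Subgroup.zpowers v := by
    have hdv : d ∈ Subgroup.zpowers v := by
      rw [← hvv]; exact mul_mem (Subgroup.mem_zpowers v) (Subgroup.mem_zpowers v)
    have e1 : u * v * u⁻¹ = (v * u * v⁻¹ * u⁻¹)⁻¹ * v := by group
    rw [e1]
    apply mul_mem _ (Subgroup.mem_zpowers v)
    apply inv_mem
    rcases hc with h1 | h1
    · rw [h1]; exact one_mem _
    · rw [h1]; exact hdv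
  -- the 2-group `⟨u⟩⟨v⟩`
  let H := Subgroup.centralizer ({d} : Set G)
  let v' : H := ⟨v, Subgroup.mem_centralizer_singleton_iff.2 hvd⟩
  let u' : H := ⟨u, Subgroup.mem_centralizer_singleton_iff.2 hud⟩
  have hdd : d * d = 1 := d_sq W
  have pz : ∀ a : H, (a : G) * a = d → IsPGroup 2 (Subgroup.zpowers a) := by
    rintro a ha ⟨x, hx⟩
    obtain ⟨n, rfl⟩ := Subgroup.mem_zpowers_iff.1 hx
    refine ⟨2, Subtype.ext ?_⟩
    have ha4 : a ^ 4 = 1 := by
      apply Subtype.ext
      show (a : G) ^ 4 = 1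
      calc (a : G) ^ 4 = (a : G) * a * ((a : G) * a) := by
            simp only [pow_succ, pow_zero, one_mul, mul_assoc]
        _ = 1 := by rw [ha, hdd]
    show (a ^ n) ^ (2 ^ 2) = 1
    rw [← zpow_natCast, ← zpow_mul, mul_comm, zpow_mul, zpow_natCast]
    norm_num only []
    rw [ha4, one_zpow]
  have hle : Subgroup.zpowers u' ≤ Subgroup.normalizer (Subgroup.zpowers v' : Set H) := by
    rw [Subgroup.zpowers_le]
    apply Subgroup.mem_normalizer_fintype
    intro x hx
    obtain ⟨n, rfl⟩ := Subgroup.mem_zpowers_iff.1 (SetLike.mem_coe.1 hx)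
    obtain ⟨e, he⟩ := Subgroup.mem_zpowers_iff.1 huv
    have h1 : u' * v' * u'⁻¹ = v' ^ e := by
      apply Subtype.ext
      push_cast
      exact he.symm
    have h2 : u' * v' ^ n * u'⁻¹ = (v' ^ e) ^ n := by
      rw [← h1]
      exact (conj_zpow (a := u') (b := v') (i := n)).symm
    rw [h2]
    exact Subgroup.zpow_mem _ (Subgroup.zpow_mem _ (Subgroup.mem_zpowers v') e) n
  have hR : IsPGroup 2 (Subgroup.zpowers u' ⊔ Subgroup.zpowers v' : Subgroup H) :=
    IsPGroup.to_sup_of_normal_right' (pz u' huu) (pz v' hvv) hle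
  obtain ⟨n, hn⟩ := exists_conj_tu h hR
  have n1 := mem_Tu.1 (hn v' (Subgroup.mem_sup_right (Subgroup.mem_zpowers v')))
  have n2 := mem_Tu.1 (hn u' (Subgroup.mem_sup_left (Subgroup.mem_zpowers u')))
  have hnd : (n : G) * d = d * n := Subgroup.mem_centralizer_singleton_iff.1 n.2
  have c1 := claim h hM (g := n) hnd n1
  have c2 := claim h hM (g := n * g) (by
    have a1 : Commute (n : G) d := hnd
    have a2 : Commute g d := hg
    exact (a1.mul_left a2).eq) (by
    have e1 : (n : G) * g * v * ((n : G) * g)⁻¹ = n * u * (n : G)⁻¹ := by rw [hu]; group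
    rw [← hv, e1]; exact n2)
  have e1 : (n : G) * g * v * ((n : G) * g)⁻¹ = n * u * (n : G)⁻¹ := by rw [hu]; group
  rw [← hv, e1] at c2
  rw [← hv] at c1
  have hvid : v⁻¹ * v⁻¹ = d := by
    rw [← mul_inv_rev, hvv]
    exact inv_eq_of_mul_eq_one_left hdd
  have e2 : (n : G) * (v⁻¹ * u) * (n : G)⁻¹ = 1 ∨ (n : G) * (v⁻¹ * u) * (n : G)⁻¹ = d := by
    have e3 : (n : G) * (v⁻¹ * u) * (n : G)⁻¹ = (n * v * (n : G)⁻¹)⁻¹ * (n * u * (n : G)⁻¹) := by
      group
    rw [e3]
    rcases c1 with c1 | c1 <;> rcases c2 with c2 | c2 <;> rw [c1, c2]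
    · left; rw [inv_mul_cancel]
    · right; exact hvid
    · right; rw [inv_inv, hvv]
    · left; rw [inv_mul_cancel]
  have e4 : v⁻¹ * u = (n : G)⁻¹ * (n * (v⁻¹ * u) * (n : G)⁻¹) * n := by group
  rcases e2 with e2 | e2
  · left; rw [e4, e2]; group
  · right; rw [e4, e2, mul_assoc, ← hnd, ← mul_assoc, inv_mul_cancel, one_mul]

/-- `z` inverts every normal subgroup of odd order of `C_G(d)` -/
theorem z_inverts [Finite G] {O : Subgroup ↥(Subgroup.centralizer ({i * j * k * l} : Set G))}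
    [hO : O.Normal] (hodd : (Nat.card O).Coprime 2) {o : ↥(Subgroup.centralizer ({i * j * k * l} : Set G))}
    (ho : o ∈ O) : z * (o : G) * z⁻¹ = (o : G)⁻¹ := by
  have W := w7h h
  let z' : ↥(Subgroup.centralizer ({i * j * k * l} : Set G)) :=
    ⟨z, Subgroup.mem_centralizer_singleton_iff.2 (z_d W)⟩
  have hzz : z' * z' = 1 := Subtype.ext h.large.z_sq
  let φ : MulAut O := MulAut.conjNormal z'
  have hφ : ∀ x : O, ((φ x : O) : ↥(Subgroup.centralizer ({i * j * k * l} : Set G))) = z' * x * z'⁻¹ :=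
    fun x => MulAut.conjNormal_apply z' x
  have hfix : MonoidHom.FixedPointFree (φ : O → O) := by
    intro x hx
    have h1 : z' * (x : ↥(Subgroup.centralizer ({i * j * k * l} : Set G))) * z'⁻¹ = x := by
      rw [← hφ, hx]
    have h2 : ((x : ↥(Subgroup.centralizer ({i * j * k * l} : Set G))) : G) * z =
        z * ((x : ↥(Subgroup.centralizer ({i * j * k * l} : Set G))) : G) := by
      have h3 := congrArg Subtype.val h1
      change z * ((x : ↥(Subgroup.centralizer ({i * j * k * l} : Set G))) : G) * z⁻¹ =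
        ((x : ↥(Subgroup.centralizer ({i * j * k * l} : Set G))) : G) at h3
      rw [mul_inv_eq_iff_eq_mul] at h3
      exact h3.symm
    have h4 := tu_pow8 h h2 (Subgroup.mem_centralizer_singleton_iff.1
      (x : ↥(Subgroup.centralizer ({i * j * k * l} : Set G))).2)
    have h5 : x ^ 8 = 1 := Subtype.ext (Subtype.ext h4)
    have h6 : orderOf x ∣ 8 := orderOf_dvd_of_pow_eq_one h5
    have h7 : orderOf x ∣ Nat.card O := orderOf_dvd_natCard x
    have h8 : (Nat.card O).Coprime 8 := by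
      rw [show (8 : ℕ) = 2 ^ 3 by norm_num]
      exact Nat.Coprime.pow_right 3 hodd
    have h9 : orderOf x ∣ 1 := by
      have := Nat.dvd_gcd h7 h6
      rwa [h8] at this
    exact orderOf_eq_one_iff.1 (Nat.dvd_one.1 h9)
  have hinv : Function.Involutive (φ : O → O) := by
    intro x
    apply Subtype.ext
    rw [hφ, hφ]
    calc z' * (z' * (x : ↥(Subgroup.centralizer ({i * j * k * l} : Set G))) * z'⁻¹) * z'⁻¹
        = (z' * z') * x * (z' * z')⁻¹ := by group
      _ = x := by rw [hzz]; group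
  have h1 := congrFun (MonoidHom.FixedPointFree.coe_eq_inv_of_involutive hfix hinv) ⟨o, ho⟩
  have h2 := congrArg Subtype.val h1
  rw [hφ] at h2
  exact congrArg Subtype.val h2

/-- `C_G(d)` has no normal subgroup of odd order -/
theorem odd_trivial [Finite G] {O : Subgroup ↥(Subgroup.centralizer ({i * j * k * l} : Set G))}
    [hO : O.Normal] (hodd : (Nat.card O).Coprime 2) {o : ↥(Subgroup.centralizer ({i * j * k * l} : Set G))}
    (ho : o ∈ O) : o = 1 := by
  have W := w7h h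
  have hwd : w * (i * j * k * l) = i * j * k * l * w := h.w_d
  let w₀ : ↥(Subgroup.centralizer ({i * j * k * l} : Set G)) :=
    ⟨w, Subgroup.mem_centralizer_singleton_iff.2 hwd⟩
  -- `w z w⁻¹ = s z`
  have e1 : w * z * w⁻¹ = s * z := by
    have h1 : z = i * j * k * l * (i * j * k * l * z) := by
      rw [← mul_assoc, d_sq W, one_mul]
    have h2 : w * z * w⁻¹ = w * (i * j * k * l) * w⁻¹ * (w * (i * j * k * l * z) * w⁻¹) := by
      nth_rewrite 1 [h1]; group
    rw [h2, hwd, mul_inv_cancel_right, h.w_dz]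
    simp only [ma, W.ii_, W.jj_, W.zj_, W.kk_, W.ll_, W.zl_, W.zz_, W.ji_, W.ki_, W.li_, W.kj_, W.lj_, W.lk_, W.sz]
  have e2 : w * (s * z) * w⁻¹ = s * (i * j * k * l) := by
    have h2 : w * (s * z) * w⁻¹ = w * s * w⁻¹ * (w * z * w⁻¹) := by group
    rw [h2, e1, h.w_s]
    simp only [ma, W.zz_, W.ki_, W.li_, W.kj_, W.lj_, W.si_, W.sj_, W.sk_, W.sl, W.sz]
  have inv1 : ∀ x : ↥(Subgroup.centralizer ({i * j * k * l} : Set G)), x ∈ O →
      z * (x : G) * z⁻¹ = (x : G)⁻¹ := fun x hx => z_inverts h hodd hx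
  have conjw : ∀ (u : G), (∀ x : ↥(Subgroup.centralizer ({i * j * k * l} : Set G)), x ∈ O →
      u * (x : G) * u⁻¹ = (x : G)⁻¹) → ∀ x : ↥(Subgroup.centralizer ({i * j * k * l} : Set G)), x ∈ O →
      (w * u * w⁻¹) * (x : G) * (w * u * w⁻¹)⁻¹ = (x : G)⁻¹ := by
    intro u hu x hx
    have h1 : w₀⁻¹ * x * w₀⁻¹⁻¹ ∈ O := hO.conj_mem x hx w₀⁻¹
    have h2 := hu _ h1
    change u * (w⁻¹ * (x : G) * w⁻¹⁻¹) * u⁻¹ = (w⁻¹ * (x : G) * w⁻¹⁻¹)⁻¹ at h2
    calc (w * u * w⁻¹) * (x : G) * (w * u * w⁻¹)⁻¹ = w * (u * (w⁻¹ * (x : G) * w⁻¹⁻¹) * u⁻¹) * w⁻¹ := by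
          group
      _ = w * (w⁻¹ * (x : G) * w⁻¹⁻¹)⁻¹ * w⁻¹ := by rw [h2]
      _ = (x : G)⁻¹ := by group
  have inv2 := conjw z inv1
  rw [e1] at inv2
  have inv3 := conjw _ inv2
  rw [e2] at inv3
  have hoi : o⁻¹ ∈ O := inv_mem ho
  have h1 := inv1 o ho
  have h2 := inv2 o⁻¹ hoi
  have h3 := inv3 o ho
  change s * z * (o : G)⁻¹ * (s * z)⁻¹ = (o : G)⁻¹⁻¹ at h2
  -- `z (s z) (s d) = d`
  have hd : s * (i * j * k * l) * (s * z) * z = i * j * k * l := by simp only [ma, mo, W.zz, W.ki_, W.li_, W.kj_, W.lj_, W.si_, W.sj_, W.sk_, W.sl, W.sz, W.sz_, W.ss, mo]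
  have hod : (o : G) * (i * j * k * l) = i * j * k * l * o := Subgroup.mem_centralizer_singleton_iff.1 o.2
  have key : ∀ g d : G, s * d * (s * z) * z = d → g * d = d * g → z * g * z⁻¹ = g⁻¹ →
      s * z * g⁻¹ * (s * z)⁻¹ = g⁻¹⁻¹ → s * d * g * (s * d)⁻¹ = g⁻¹ → g = g⁻¹ := by
    intro g d hd hod h1 h2 h3
    calc g = d * g * d⁻¹ := by rw [← hod, mul_inv_cancel_right]
      _ = (s * d * (s * z) * z) * g * (s * d * (s * z) * z)⁻¹ := by rw [hd]
      _ = (s * d) * ((s * z) * (z * g * z⁻¹) * (s * z)⁻¹) * (s * d)⁻¹ := by group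
      _ = (s * d) * g * (s * d)⁻¹ := by rw [h1, h2, inv_inv]
      _ = g⁻¹ := h3
  have h4 : (o : G) = (o : G)⁻¹ := key _ _ hd hod h1 h2 h3
  have h5 : (⟨o, ho⟩ : O) ^ 2 = 1 := by
    apply Subtype.ext
    apply Subtype.ext
    show (o : G) ^ 2 = 1
    rw [pow_two]
    nth_rewrite 1 [h4]
    exact inv_mul_cancel _
  have h6 : orderOf (⟨o, ho⟩ : O) ∣ 2 := orderOf_dvd_of_pow_eq_one h5
  have h7 : orderOf (⟨o, ho⟩ : O) ∣ Nat.card O := orderOf_dvd_natCard _
  have h9 : orderOf (⟨o, ho⟩ : O) ∣ 1 := by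
    have := Nat.dvd_gcd h7 h6
    rwa [hodd] at this
  have h10 := orderOf_eq_one_iff.1 (Nat.dvd_one.1 h9)
  exact congrArg Subtype.val h10

theorem norm_v [Finite G] (hM : HM i s y w w' (y * (i * k)) (i * j * k * l * z)) {g : G}
    (hg : g * (i * j * k * l) = i * j * k * l * g) :
    g * (y * (i * k)) * g⁻¹ = y * (i * k) ∨ g * (y * (i * k)) * g⁻¹ = (y * (i * k))⁻¹ := by
  have W := w7h h
  have hvv := v_sq W
  have hdd := d_sq W
  have hvd : y * (i * k) * (i * j * k * l) = i * j * k * l * (y * (i * k)) :=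
    comm_d_of_v h rfl
  let d' : ↥(Subgroup.centralizer ({i * j * k * l} : Set G)) :=
    ⟨i * j * k * l, Subgroup.mem_centralizer_singleton_iff.2 rfl⟩
  let v' : ↥(Subgroup.centralizer ({i * j * k * l} : Set G)) :=
    ⟨y * (i * k), Subgroup.mem_centralizer_singleton_iff.2 hvd⟩
  have hd' : ∀ x : ↥(Subgroup.centralizer ({i * j * k * l} : Set G)), x * d' = d' * x := fun x =>
    Subtype.ext (Subgroup.mem_centralizer_singleton_iff.1 x.2)
  have hdd' : d' * d' = 1 := Subtype.ext hdd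
  let A : Subgroup ↥(Subgroup.centralizer ({i * j * k * l} : Set G)) := Subgroup.zpowers d'
  have hAmem : ∀ x, x ∈ A ↔ x = 1 ∨ x = d' := by
    intro x
    constructor
    · intro hx
      obtain ⟨n, rfl⟩ := Subgroup.mem_zpowers_iff.1 hx
      rcases Int.even_or_odd' n with ⟨m, rfl | rfl⟩
      · left; rw [zpow_mul, zpow_two, hdd', one_zpow]
      · right; rw [zpow_add, zpow_mul, zpow_two, hdd', one_zpow, one_mul, zpow_one]
    · rintro (rfl | rfl)
      · exact one_mem _
      · exact Subgroup.mem_zpowers _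
  have hA : A.Normal := by
    refine ⟨fun x hx g => ?_⟩
    rcases (hAmem x).1 hx with rfl | rfl
    · rw [mul_one, mul_inv_cancel]; exact one_mem _
    · rw [hd', mul_inv_cancel_right]; exact hx
  have hd1 : i * j * k * l ≠ 1 := by
    intro h1
    have h2 := i_d W
    rw [h1, mul_one, mul_inv_cancel, one_mul] at h2
    exact h.large.z_ne h2.symm
  obtain ⟨N, hN, hAN, hodd, hcomm⟩ := Cfsg.Agent.WeakTI.Four2.zstar_mod A v'
    ((hAmem _).2 (Or.inr (Subtype.ext hvv)))
    (by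
      intro hv
      rcases (hAmem _).1 hv with h1 | h1
      · have h2 : y * (i * k) = 1 := congrArg Subtype.val h1
        rw [h2, one_mul] at hvv
        exact hd1 hvv.symm
      · have h2 : y * (i * k) = i * j * k * l := congrArg Subtype.val h1
        rw [h2, hdd] at hvv
        exact hd1 hvv.symm)
    (by
      intro x hx
      have hxd : (x : G) * (i * j * k * l) = i * j * k * l * x :=
        Subgroup.mem_centralizer_singleton_iff.1 x.2
      have h1 := iso_v h hM hxd (by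
        rcases (hAmem _).1 hx with h1 | h1
        · left; exact congrArg Subtype.val h1
        · right; exact congrArg Subtype.val h1)
      apply (hAmem _).2
      rcases h1 with h1 | h1
      · left; exact Subtype.ext h1
      · right; exact Subtype.ext h1)
  have hrel : Odd (A.relIndex N) := by
    have h2 : Nat.card (N.map (QuotientGroup.mk' A)) = A.relIndex N := by
      rw [← Subgroup.relIndex_ker, QuotientGroup.ker_mk']
    rw [← h2]; exact hodd
  have hA2 : IsPGroup 2 A := by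
    rintro ⟨x, hx⟩
    refine ⟨1, Subtype.ext ?_⟩
    show x ^ (2 ^ 1) = 1
    rw [pow_one, pow_two]
    rcases (hAmem x).1 hx with rfl | rfl
    · exact one_mul 1
    · exact hdd'
  let O : Subgroup ↥(Subgroup.centralizer ({i * j * k * l} : Set G)) :=
    (Cfsg.pPrimeCore 2 N).map N.subtype
  have hOn : O.Normal := by
    have h1 := Cfsg.Agent.OddOrderLocal.NilParts.normalizer_le_of_characteristic (X := N) _
      (Cfsg.Agent.Lib.Cores.pPrimeCore_characteristic (G := N) 2)
    rw [Subgroup.normalizer_eq_top_iff.2 hN, top_le_iff, Subgroup.normalizer_eq_top_iff] at h1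
    exact h1
  have hOc : (Nat.card O).Coprime 2 := Cfsg.Agent.Lib.LocalCore.card_map_pPrimeCore_coprime 2 N
  have hg' : ∀ g' : ↥(Subgroup.centralizer ({i * j * k * l} : Set G)), v' * g' * v'⁻¹ * g'⁻¹ = 1 ∨
      v' * g' * v'⁻¹ * g'⁻¹ = d' := by
    intro g'
    obtain ⟨x, hx, o, ho, he⟩ := Cfsg.Agent.WeakTI.Four2.central_split hAN hA2
      (fun x hx y _ => by
        rcases (hAmem x).1 hx with rfl | rfl
        · rw [one_mul, mul_one]
        · exact (hd' y).symm) hrel _ (hcomm g')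
    have ho1 := odd_trivial h (O := O) hOc ho
    rw [he, ho1, mul_one]
    exact (hAmem x).1 hx
  have h3 := hg' ⟨g, Subgroup.mem_centralizer_singleton_iff.2 hg⟩
  have hvi := v_inv W
  rcases h3 with h3 | h3
  · left
    have h4 : y * (i * k) * g * (y * (i * k))⁻¹ * g⁻¹ = 1 := congrArg Subtype.val h3
    have h5 : g * (y * (i * k)) * g⁻¹ = (y * (i * k) * g * (y * (i * k))⁻¹ * g⁻¹)⁻¹ * (y * (i * k)) := by
      group
    rw [h5, h4, inv_one, one_mul]
  · right
    have h4 : y * (i * k) * g * (y * (i * k))⁻¹ * g⁻¹ = i * j * k * l := congrArg Subtype.val h3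
    have h5 : g * (y * (i * k)) * g⁻¹ = (y * (i * k) * g * (y * (i * k))⁻¹ * g⁻¹)⁻¹ * (y * (i * k)) := by
      group
    rw [h5, h4, hvi, inv_eq_of_mul_eq_one_left hdd, hvd]

theorem gen [Finite G] (hM : HM i s y w w' (y * (i * k)) (i * j * k * l * z)) :
    Subgroup.centralizer ({i * j * k * l} : Set G) ≤
      Subgroup.closure {i * j, k * l, i * k, y, s, w, i * w' * i⁻¹} := by
  have W := w7h h
  intro g hg
  rw [Subgroup.mem_centralizer_singleton_iff] at hg
  set K := Subgroup.closure ({i * j, k * l, i * k, y, s, w, i * w' * i⁻¹} : Set G) with hK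
  have mij : i * j ∈ K := Subgroup.subset_closure (by simp only [_root_.Set.mem_insert_iff, _root_.mul_right_inj, _root_.Set.mem_singleton_iff, _root_.true_or])
  have mkl : k * l ∈ K := Subgroup.subset_closure (by simp only [_root_.Set.mem_insert_iff, _root_.Set.mem_singleton_iff, _root_.true_or, _root_.or_true])
  have mik : i * k ∈ K := Subgroup.subset_closure (by simp only [_root_.Set.mem_insert_iff, _root_.mul_right_inj, _root_.Set.mem_singleton_iff, _root_.true_or, _root_.or_true])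
  have my : y ∈ K := Subgroup.subset_closure (by simp only [_root_.Set.mem_insert_iff, _root_.Set.mem_singleton_iff, _root_.true_or, _root_.or_true])
  have ms : s ∈ K := Subgroup.subset_closure (by simp only [_root_.Set.mem_insert_iff, _root_.Set.mem_singleton_iff, _root_.true_or, _root_.or_true])
  have mw : w ∈ K := Subgroup.subset_closure (by simp only [_root_.Set.mem_insert_iff, _root_.Set.mem_singleton_iff, _root_.true_or, _root_.or_true])
  have mb : i * w' * i⁻¹ ∈ K := Subgroup.subset_closure (by simp only [_root_.Set.mem_insert_iff, _root_.Set.mem_singleton_iff, _root_.or_true])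
  have mz : z ∈ K := by
    have h1 : i * j * (i * j) = z := by simp only [ma, mo, W.ii, W.jj_, W.zj, W.zz, W.ji_, mo]
    rw [← h1]; exact mul_mem mij mij
  have mT : i * (s * y) * i⁻¹ ∈ K := by
    have h1 : i * (s * y) * i⁻¹ = s * y * (i * k) * (k * l) * z := by simp only [ma, W.zi_, W.jj_, W.zj_, W.zl_, W.zz_, W.ji_, W.ki_, W.li_, W.lj_, W.yi_, W.yj_, W.yk_, W.yz_, W.si_, W.sk, W.sk_, W.sl, W.sz, W.sy, W.inv_i]
    rw [h1]
    exact mul_mem (mul_mem (mul_mem (mul_mem ms my) mik) mkl) mz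
  have hMK : Subgroup.closure ({s, i * (s * y) * i⁻¹, w, i * w' * i⁻¹} : Set G) ≤ K := by
    rw [Subgroup.closure_le]
    intro x hx
    simp only [Set.mem_insert_iff, Set.mem_singleton_iff] at hx
    rcases hx with rfl | rfl | rfl | rfl
    · exact ms
    · exact mT
    · exact mw
    · exact mb
  have hv : ∀ x, x * (y * (i * k)) = y * (i * k) * x → x ∈ K := by
    intro x hx
    obtain ⟨n, a, ha, rfl⟩ := hM.hv x hx
    exact mul_mem (Subgroup.zpow_mem _ (mul_mem my mik) n) (hMK ha)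
  rcases norm_v h hM hg with h1 | h1
  · apply hv
    rw [mul_inv_eq_iff_eq_mul] at h1
    exact h1
  · have h2 : g * (s * y) ∈ K := by
      apply hv
      have h3 := sy_v W
      have h4 : g * (s * y) * (y * (i * k)) * (g * (s * y))⁻¹ = y * (i * k) := by
        calc g * (s * y) * (y * (i * k)) * (g * (s * y))⁻¹
            = g * (s * y * (y * (i * k)) * (s * y)⁻¹) * g⁻¹ := by group
          _ = (g * (y * (i * k)) * g⁻¹)⁻¹ := by rw [h3]; group
          _ = y * (i * k) := by rw [h1, inv_inv]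
      rw [mul_inv_eq_iff_eq_mul] at h4
      exact h4
    have h5 : g = g * (s * y) * (s * y)⁻¹ := by group
    rw [h5]
    exact mul_mem h2 (inv_mem (mul_mem ms my))

end

end Cfsg.Agent.LargeExtra.W2.LFour.CentD
end

private theorem dce_f03535e64e24 : _root_.True := by
  try have : _root_.True := by simp only [_root_.Cfsg.Agent.LargeExtra.W2.LFour.TwoT.phi.congr_simp]
  try have : _root_.True := by simp only [_root_.Cfsg.Agent.LargeExtra.W2.LFour.TwoT.phi1.congr_simp]
  try have : _root_.True := by simp only [_root_.Cfsg.Agent.LargeExtra.W2.LFour.TwoT.phi2.congr_simp]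
  exact _root_.True.intro
end

-- part: LargeExtra/W2/LFour/PEnd
section
prune_inst 0x201000000000000000000020000000000000000000000000000000000000000000000002000000000000000000001000000000000000000000400000000000000000000000000000000002000000000000000000000000000000000000000000000
set_option linter.all false
open scoped Cfsg.Agent.FastGrp

-- part: LargeExtra/W2/LFour/CVAbs
section
/-!
# S1759, `L₄(3)`: abstract part of the structure of `C_G(v)` (helper465)

`v` of order four with `v² = d`, `C_G(⟨v, ζ⟩) = ⟨v⟩ ⟨σ, τ⟩`, `⟨σ, τ⟩` dihedral of order eight with centre `ζ`,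
`ζ` not conjugate to `d ζ`, and an amalgam `ζ σ τ x y` in `C_G(v)`. Then `C_G(v) = ⟨v⟩ × ⟨σ, τ, x, y⟩` and the second
factor has order 168 or 360.
-/

set_option autoImplicit false

namespace Cfsg.Agent.LargeExtra.W2.LFour.CVAbs

open Subgroup Cfsg.Agent.CoOneType.LThree Cfsg.Agent.LargeExtra.W2.ThreeA

/-- squares of elements of `⟨s, t⟩` -/
theorem sq_cases {G : Type*} [Group G] {z s t x y : G} (h : Amalgam z s t x y) {g : G}
    (hg : g ∈ _root_.Subgroup.closure ({s, t} : Set G)) : g * g = 1 ∨ g * g = z := by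
  have hs := h.comm.1
  have ht := h.comm.2
  have hst : s * t * z = z * (s * t) := by rw [mul_assoc, h.comm.2, ← mul_assoc, h.comm.1, mul_assoc]
  rcases h.cases hg with rfl | rfl | rfl | rfl | rfl | rfl | rfl | rfl
  · left; rw [one_mul]
  · left; exact h.zz
  · left; exact h.ss
  · left; exact h.zs_sq
  · left; exact h.tt
  · left; exact h.zt_sq
  · right; exact h.hz
  · right
    have h4 : z * (s * t) * (z * (s * t)) = z * z * (s * t * (s * t)) := by
      rw [mul_assoc, ← mul_assoc (s * t) z, hst]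
      simp only [mul_assoc]
    rw [h4, h.zz, one_mul, h.hz]

/-- Two-subgroups which contain their normalizer are Sylow subgroups. -/
theorem exists_sylow_eq {X : Type*} [Group X] [Finite X] {D : Subgroup X} (hD : IsPGroup 2 D)
    (hN : ∀ n, (∀ q ∈ D, n * q * n⁻¹ ∈ D) → n ∈ D) : ∃ S : Sylow 2 X, (S : Subgroup X) = D := by
  have hp2 : Fact (Nat.Prime 2) := ⟨Nat.prime_two⟩
  obtain ⟨S, hS⟩ := hD.exists_le_sylow
  refine ⟨S, ?_⟩
  by_contra hne
  obtain ⟨r, hr1, hr2, hr3⟩ := exists_normalizing (T := (S : Subgroup X)) (Q := D) S.isPGroup' hS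
    (fun e => hne e.symm)
  exact hr2 (hN r hr3)

section perfect

variable {X : Type*} [Group X] [Finite X] {z s t x y : X}

theorem isPGroup_D (h : Amalgam z s t x y) : IsPGroup 2 (closure ({s, t} : Set X)) :=
  IsPGroup.of_card (n := 3) h.card_D

theorem norm_D (h : Amalgam z s t x y)
    (hC : ∀ g : X, g * z = z * g → g ∈ _root_.Subgroup.closure ({s, t} : Set X)) (n : X)
    (hn : ∀ q ∈ closure ({s, t} : Set X), n * q * n⁻¹ ∈ closure ({s, t} : Set X)) :
    n ∈ closure ({s, t} : Set X) := by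
  have hst : s * t ∈ _root_.Subgroup.closure ({s, t} : Set X) :=
    mul_mem (_root_.Subgroup.subset_closure (by simp)) (_root_.Subgroup.subset_closure (by simp))
  have h1 := hn _ hst
  have h2 := sq_cases h h1
  have h3 : n * (s * t) * n⁻¹ * (n * (s * t) * n⁻¹) = n * z * n⁻¹ := by
    rw [← h.hz]; group
  rw [h3] at h2
  apply hC
  rcases h2 with h2 | h2
  · exact absurd (by rwa [conj_eq_one_iff] at h2) h.z1
  · exact mul_inv_eq_iff_eq_mul.1 h2

theorem perfect_of (h : Amalgam z s t x y)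
    (hC : ∀ g : X, g * z = z * g → g ∈ _root_.Subgroup.closure ({s, t} : Set X)) : commutator X = ⊤ := by
  have hp2 : Fact (Nat.Prime 2) := ⟨Nat.prime_two⟩
  obtain ⟨S, hS⟩ := exists_sylow_eq (isPGroup_D h) (norm_D h hC)
  have hz : z ∈ commutator X := by
    have h1 : z = s⁻¹ * (x⁻¹ * (s⁻¹)⁻¹ * (x⁻¹)⁻¹) := by
      rw [inv_inv, inv_inv, h.conj_zs, inv_eq_of_mul_eq_one_left h.ss, ← mul_assoc, h.comm.1, mul_assoc, h.ss,
        mul_one]
    rw [h1, ← mul_assoc, ← mul_assoc]
    exact Subgroup.commutator_mem_commutator (Subgroup.mem_top _) (Subgroup.mem_top _)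
  have h4 := h.closure_le (commutator X) inferInstance hz
  have hD : (S : Subgroup X) ≤ commutator X := by
    rw [hS]
    exact le_trans (_root_.Subgroup.closure_mono (by intro g hg; simp only [Set.mem_insert_iff, Set.mem_singleton_iff] at hg ⊢; (clear * - hg; tauto))) h4
  have h5 := Sylow.normalizer_sup_eq_top' S hD
  rw [eq_top_iff, ← h5]
  apply sup_le _ le_rfl
  intro n hn
  apply hD
  rw [hS]
  apply norm_D h hC
  intro q hq
  rw [← hS] at hq ⊢
  exact (Subgroup.mem_normalizer_iff.1 hn q).1 hq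

/-- The order is 168 or 360 even without the hypothesis that the amalgam generates. -/
theorem card_of (h : Amalgam z s t x y)
    (hC : ∀ g : X, g * z = z * g → g ∈ _root_.Subgroup.closure ({s, t} : Set X)) :
    Nat.card X = 168 ∨ Nat.card X = 360 := by
  obtain ⟨e⟩ := h.card_closure
  have hz : orderOf z = 2 := orderOf_eq_prime (by rw [pow_two, h.zz]) h.z1
  exact Cfsg.Agent.S0848.result (perfect_of h hC) z hz
    ((MulEquiv.subgroupCongr (h.centralizer_eq hC)).trans e)

end perfect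

end Cfsg.Agent.LargeExtra.W2.LFour.CVAbs
end

-- part: LargeExtra/W2/LFour/CVComp
section
/-!
# S1759, `L₄(3)`: the centralizer of an element of order four splits (helper465)
-/

set_option autoImplicit false

namespace Cfsg.Agent.LargeExtra.W2.LFour.CVComp

open Subgroup Cfsg.Agent.CoOneType.LThree Cfsg.Agent.LargeExtra.W2.ThreeA Cfsg.Agent.LargeExtra.W2.LFour.CVAbs

/-- `v` of order four is central, `C(ζ) = ⟨v⟩ ⟨σ, τ⟩`. -/
structure Cen {X : Type*} [Group X] (v z s t x y : X) : Prop where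
  am : Amalgam z s t x y
  vc : ∀ g, v * g = g * v
  v4 : v * v * (v * v) = 1
  v2 : v * v ≠ 1
  nc : ∀ g : X, g * (v * v * z) * g⁻¹ ≠ z
  cent : ∀ g, g * z = z * g → ∃ n : ℕ, ∃ e ∈ _root_.Subgroup.closure ({s, t} : Set X), g = v ^ n * e

namespace Cen

variable {X : Type*} [Group X] {v z s t x y : X} (h : Cen v z s t x y)

include h

theorem d_ne : v * v ∉ _root_.Subgroup.closure ({s, t} : Set X) := by
  intro hd
  have hdx : v * v * x = x * (v * v) := by rw [mul_assoc, h.vc x, ← mul_assoc, h.vc x, mul_assoc]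
  have hdy : v * v * y = y * (v * v) := by rw [mul_assoc, h.vc y, ← mul_assoc, h.vc y, mul_assoc]
  have hdd := h.v4
  have hs := h.am.comm.1
  have ht := h.am.comm.2
  rcases h.am.cases hd with e | e | e | e | e | e | e | e
  · exact h.v2 e
  · rw [e] at hdx
    have h1 : s = z := (mul_left_cancel (hdx.symm.trans h.am.zx)).symm
    apply h.am.z1
    rw [← h.am.hz, h1]
    rw [mul_assoc, ← mul_assoc t z t, ht, mul_assoc z t t, h.am.tt, mul_one, h.am.zz]
  · rw [e] at hdx
    have h1 : s = z * s := mul_left_cancel (hdx.symm.trans h.am.sx)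
    exact h.am.z1 (right_eq_mul.1 h1)
  · rw [e] at hdx
    have h1 : z * s * x = x * z := by
      rw [mul_assoc, h.am.sx, ← mul_assoc, h.am.zx, mul_assoc, ← mul_assoc s z s, hs, mul_assoc, h.am.ss, mul_one]
    have h2 : z * s = z := mul_left_cancel (hdx.symm.trans h1)
    exact h.am.s1 (mul_eq_left.1 h2)
  · rw [e] at hdy
    have h1 : t = z * t := mul_left_cancel (hdy.symm.trans h.am.ty)
    exact h.am.z1 (right_eq_mul.1 h1)
  · rw [e] at hdy
    have h1 : z * t * y = y * z := by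
      rw [mul_assoc, h.am.ty, ← mul_assoc, h.am.zy, mul_assoc, ← mul_assoc t z t, ht, mul_assoc, h.am.tt, mul_one]
    have h2 : z * t = z := mul_left_cancel (hdy.symm.trans h1)
    exact h.am.t1 (mul_eq_left.1 h2)
  · rw [e, h.am.hz] at hdd
    exact h.am.z1 hdd
  · have hst : s * t * z = z * (s * t) := by rw [mul_assoc, h.am.comm.2, ← mul_assoc, h.am.comm.1, mul_assoc]
    have h4 : z * (s * t) * (z * (s * t)) = z * z * (s * t * (s * t)) := by
      rw [mul_assoc, ← mul_assoc (s * t) z, hst]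
      simp only [mul_assoc]
    rw [e, h4, h.am.zz, one_mul, h.am.hz] at hdd
    exact h.am.z1 hdd

theorem vcomm (g : X) : Commute v g := h.vc g

theorem sq_v (n : ℤ) : v ^ n * v ^ n = 1 ∨ v ^ n * v ^ n = v * v := by
  have h2 : v ^ n * v ^ n = (v * v) ^ n := by
    rw [← zpow_add, ← two_mul, zpow_mul]; congr 1; exact zpow_ofNat v 2 |>.trans (pow_two v)
  rw [h2]
  rcases Int.even_or_odd n with ⟨m, hm⟩ | ⟨m, hm⟩
  · left
    rw [hm, zpow_add, ← (Commute.refl (v * v)).mul_zpow, h.v4, one_zpow]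
  · right
    rw [hm, zpow_add, two_mul, zpow_add, ← (Commute.refl (v * v)).mul_zpow, h.v4, one_zpow, one_mul, zpow_one]

/-- `⟨v⟩ ∩ ⟨s, t⟩ = 1` -/
theorem zpow_mem {n : ℤ} (hn : v ^ n ∈ _root_.Subgroup.closure ({s, t} : Set X)) : v ^ n = 1 := by
  rcases h.sq_v n with h1 | h1
  · -- `v ^ n` is `1` or `v * v`
    have h2 : v ^ (2 * n) = 1 := by rw [two_mul, zpow_add]; exact h1
    have h4 : v ^ (4 : ℤ) = 1 := by
      have : v ^ (4 : ℤ) = v * v * (v * v) := by
        rw [show (4 : ℤ) = 1 + 1 + (1 + 1) by norm_num]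
        simp only [zpow_add, zpow_one]
      rw [this, h.v4]
    rcases Int.even_or_odd n with ⟨m, hm⟩ | ⟨m, hm⟩
    · rcases Int.even_or_odd m with ⟨k, hk⟩ | ⟨k, hk⟩
      · have : n = 4 * k := by omega
        rw [this, zpow_mul, h4, one_zpow]
      · exfalso
        have e : v ^ n = v * v := by
          have : n = 4 * k + (1 + 1) := by omega
          rw [this, zpow_add, zpow_mul, h4, one_zpow, one_mul, zpow_add, zpow_one]
        exact h.d_ne (e ▸ hn)
    · exfalso
      apply h.v2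
      have : 2 * n = 4 * m + (1 + 1) := by omega
      rw [this, zpow_add, zpow_mul, h4, one_zpow, one_mul, zpow_add, zpow_one] at h2
      exact h2
  · exfalso
    rcases sq_cases h.am hn with h2 | h2
    · exact h.v2 (h1.symm.trans h2)
    · apply h.d_ne
      rw [← h1, h2]
      have : z ∈ _root_.Subgroup.closure ({s, t} : Set X) := by
        rw [← h.am.hz]
        exact mul_mem (mul_mem (_root_.Subgroup.subset_closure (by simp)) (_root_.Subgroup.subset_closure (by simp)))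
          (mul_mem (_root_.Subgroup.subset_closure (by simp)) (_root_.Subgroup.subset_closure (by simp)))
      exact this

/-- the elements `v ^ n e` -/
def U : Subgroup X where
  carrier := {g | ∃ n : ℤ, ∃ e ∈ _root_.Subgroup.closure ({s, t} : Set X), g = v ^ n * e}
  one_mem' := ⟨0, 1, one_mem _, by simp⟩
  mul_mem' := by
    rintro a b ⟨n, e, he, rfl⟩ ⟨m, f, hf, rfl⟩
    refine ⟨n + m, e * f, mul_mem he hf, ?_⟩
    have := ((h.vcomm e).zpow_left m).eq
    rw [zpow_add]
    calc v ^ n * e * (v ^ m * f) = v ^ n * (e * v ^ m) * f := by group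
      _ = v ^ n * v ^ m * (e * f) := by rw [← this]; group
  inv_mem' := by
    rintro a ⟨n, e, he, rfl⟩
    refine ⟨-n, e⁻¹, inv_mem he, ?_⟩
    have := ((h.vcomm e⁻¹).zpow_left (-n)).eq
    rw [mul_inv_rev, ← zpow_neg, this]

theorem mem_U {g : X} : g ∈ h.U ↔ ∃ n : ℤ, ∃ e ∈ _root_.Subgroup.closure ({s, t} : Set X), g = v ^ n * e := Iff.rfl

theorem sq_U {g : X} (hg : g ∈ h.U) : g * g = 1 ∨ g * g = v * v ∨ g * g = z ∨ g * g = v * v * z := by
  obtain ⟨n, e, he, rfl⟩ := hg
  have h1 : v ^ n * e * (v ^ n * e) = v ^ n * v ^ n * (e * e) := by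
    have := ((h.vcomm e).zpow_left n).eq
    calc v ^ n * e * (v ^ n * e) = v ^ n * (e * v ^ n) * e := by group
      _ = v ^ n * v ^ n * (e * e) := by rw [← this]; group
  rw [h1]
  rcases h.sq_v n with h2 | h2 <;> rcases sq_cases h.am he with h3 | h3 <;> rw [h2, h3]
  · left; rw [one_mul]
  · right; right; left; rw [one_mul]
  · right; left; rw [mul_one]
  · right; right; right; rfl

theorem dz : Commute (v * v) z := (h.vcomm z).mul_left (h.vcomm z)

theorem pow_U {g : X} (hg : g ∈ h.U) : g ^ 2 ^ 2 = 1 := by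
  have e : g ^ 2 ^ 2 = g * g * (g * g) := by
    simp only [pow_succ, pow_zero, one_mul, mul_assoc]; norm_num [pow_succ, mul_assoc]
  rw [e]
  rcases h.sq_U hg with h1 | h1 | h1 | h1 <;> rw [h1]
  · rw [one_mul]
  · exact h.v4
  · exact h.am.zz
  · have := h.dz.eq
    calc v * v * z * (v * v * z) = v * v * (z * (v * v)) * z := by group
      _ = v * v * (v * v) * (z * z) := by rw [← this]; group
      _ = 1 := by rw [h.v4, h.am.zz, one_mul]

theorem isPGroup_U : IsPGroup 2 h.U := by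
  intro g
  exact ⟨2, Subtype.ext (h.pow_U g.2)⟩

theorem norm_U (n : X) (hn : ∀ q ∈ h.U, n * q * n⁻¹ ∈ h.U) : n ∈ h.U := by
  have hst : s * t ∈ _root_.Subgroup.closure ({s, t} : Set X) :=
    mul_mem (_root_.Subgroup.subset_closure (by simp)) (_root_.Subgroup.subset_closure (by simp))
  have h0 : v * (s * t) ∈ h.U := ⟨1, s * t, hst, by rw [zpow_one]⟩
  have h1 : v * (s * t) * (v * (s * t)) = v * v * z := by
    calc v * (s * t) * (v * (s * t)) = v * ((s * t) * v) * (s * t) := by group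
      _ = v * v * (s * t * (s * t)) := by rw [← h.vc (s * t)]; group
      _ = v * v * z := by rw [h.am.hz]
  have h2 := h.sq_U (hn _ h0)
  have h3 : n * (v * (s * t)) * n⁻¹ * (n * (v * (s * t)) * n⁻¹) = n * (v * v * z) * n⁻¹ := by
    rw [← h1]; group
  rw [h3] at h2
  have hd : ∀ g, v * v * g = g * (v * v) := fun g => ((h.vcomm g).mul_left (h.vcomm g)).eq
  have hnd : n * (v * v * z) * n⁻¹ = v * v * (n * z * n⁻¹) := by
    calc n * (v * v * z) * n⁻¹ = n * (v * v) * (z * n⁻¹) := by group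
      _ = v * v * (n * z * n⁻¹) := by rw [← hd n]; group
  have hz1 : v * v * z ≠ 1 := by
    intro e
    have : z = v * v := by
      have h5 : v * v * z = v * v * (v * v) := by rw [e, h.v4]
      exact mul_left_cancel h5
    apply h.d_ne
    rw [← this, ← h.am.hz]
    exact mul_mem hst hst
  rcases h2 with h2 | h2 | h2 | h2
  · exact absurd (by rwa [conj_eq_one_iff] at h2) hz1
  · rw [hnd] at h2
    exact absurd (by rw [mul_eq_left, conj_eq_one_iff] at h2; exact h2) h.am.z1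
  · exact absurd h2 (h.nc n)
  · rw [hnd] at h2
    have h4 : n * z * n⁻¹ = z := mul_left_cancel h2
    obtain ⟨m, e, he, rfl⟩ := h.cent n (mul_inv_eq_iff_eq_mul.1 h4)
    exact ⟨m, e, he, by rw [zpow_natCast]⟩

theorem D_le : _root_.Subgroup.closure ({s, t} : Set X) ≤ h.U := fun e he => ⟨0, e, he, by simp⟩

theorem V_le : zpowers v ≤ h.U := by
  rintro _ ⟨n, rfl⟩
  exact ⟨n, 1, one_mem _, by simp⟩

variable [Finite X]

/-- MAIN RESULT: a complement -/
theorem exists_compl : ∃ A : Subgroup X, (∀ n : ℤ, v ^ n ∈ A → v ^ n = 1) ∧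
    (∀ g, ∃ n : ℤ, ∃ a ∈ A, g = v ^ n * a) := by
  have hp2 : Fact (Nat.Prime 2) := ⟨Nat.prime_two⟩
  have hVn : (zpowers v).Normal := by
    refine ⟨fun a ha g => ?_⟩
    obtain ⟨n, rfl⟩ := ha
    have := ((h.vcomm g).zpow_left n).eq
    have e : g * v ^ n * g⁻¹ = v ^ n := by rw [← this]; group
    show g * v ^ n * g⁻¹ ∈ zpowers v
    rw [e]; exact ⟨n, rfl⟩
  obtain ⟨S, hS⟩ := exists_sylow_eq h.isPGroup_U h.norm_U
  have hidx : ¬ 2 ∣ h.U.index := by
    rw [← hS]; exact S.not_dvd_index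
  have hcard : Nat.card (zpowers v) ∣ 4 := by
    rw [Nat.card_zpowers]
    apply orderOf_dvd_of_pow_eq_one
    have := h.pow_U (h.V_le (mem_zpowers v))
    simpa using this
  have hcop : (Nat.card (zpowers v)).Coprime h.U.index := by
    have h1 : Nat.Coprime 2 h.U.index := (Nat.prime_two.coprime_iff_not_dvd).2 hidx
    exact Nat.Coprime.coprime_dvd_left hcard (by simpa using Nat.Coprime.pow_left 2 h1)
  have hDV : _root_.Subgroup.closure ({s, t} : Set X) ⊓ zpowers v = ⊥ := by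
    rw [eq_bot_iff]
    rintro g ⟨h1, ⟨n, rfl⟩⟩
    exact h.zpow_mem h1
  have hVD : zpowers v ⊔ closure ({s, t} : Set X) = h.U := by
    apply le_antisymm (sup_le h.V_le h.D_le)
    rintro _ ⟨n, e, he, rfl⟩
    exact mul_mem (mem_sup_left ⟨n, rfl⟩) (mem_sup_right he)
  obtain ⟨A, hA⟩ := Cfsg.Agent.S0051.result (zpowers v) h.U h.V_le hcop _ h.D_le hDV hVD
  refine ⟨A, ?_, ?_⟩
  · intro n hn
    have := hA.disjoint
    rw [disjoint_iff] at this
    have h1 : v ^ n ∈ zpowers v ⊓ A := ⟨⟨n, rfl⟩, hn⟩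
    rw [this] at h1
    exact h1
  · intro g
    have h1 : g ∈ (⊤ : Subgroup X) := mem_top g
    obtain ⟨⟨⟨_, ⟨n, rfl⟩⟩, a⟩, hg⟩ := hA.2 g
    exact ⟨n, a, a.2, hg.symm⟩

end Cen

end Cfsg.Agent.LargeExtra.W2.LFour.CVComp
end

-- part: LargeExtra/W2/LFour/CVMain
section
/-!
# S1759, `L₄(3)`: `C_G(v) = ⟨v⟩ × ⟨σ, τ, x, y⟩` (helper465)
-/

set_option autoImplicit false

namespace Cfsg.Agent.LargeExtra.W2.LFour.CVMain

open Subgroup Cfsg.Agent.CoOneType.LThree Cfsg.Agent.LargeExtra.W2.LFour.CVAbs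
  Cfsg.Agent.LargeExtra.W2.LFour.CVComp

/-- restriction of an amalgam to a subgroup -/
theorem am_sub {G : Type*} [Group G] {z s t x y : G} (h : Amalgam z s t x y) (A : Subgroup G) (hz : z ∈ A)
    (hs : s ∈ A) (ht : t ∈ A) (hx : x ∈ A) (hy : y ∈ A) :
    Amalgam (⟨z, hz⟩ : A) ⟨s, hs⟩ ⟨t, ht⟩ ⟨x, hx⟩ ⟨y, hy⟩ where
  ss := Subtype.ext h.ss
  tt := Subtype.ext h.tt
  hz := Subtype.ext h.hz
  zz := Subtype.ext h.zz
  z1 := fun e => h.z1 (congrArg Subtype.val e)
  xxx := Subtype.ext h.xxx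
  yyy := Subtype.ext h.yyy
  zx := Subtype.ext h.zx
  sx := Subtype.ext h.sx
  zy := Subtype.ext h.zy
  ty := Subtype.ext h.ty
  ix := Subtype.ext h.ix
  iy := Subtype.ext h.iy

theorem mem_closure_sub {G : Type*} [Group G] {A : Subgroup G} {s t : G} (hs : s ∈ A) (ht : t ∈ A) {g : G}
    (hg : g ∈ _root_.Subgroup.closure ({s, t} : Set G)) (hgA : g ∈ A) :
    (⟨g, hgA⟩ : A) ∈ _root_.Subgroup.closure ({⟨s, hs⟩, ⟨t, ht⟩} : Set A) := by
  have h2 : _root_.Subgroup.closure ({s, t} : Set G) ≤ (_root_.Subgroup.closure ({⟨s, hs⟩, ⟨t, ht⟩} : Set A)).map A.subtype := by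
    rw [MonoidHom.map_closure]
    apply Subgroup.closure_mono
    rintro g (rfl | rfl)
    · exact ⟨⟨g, hs⟩, by simp, rfl⟩
    · exact ⟨⟨g, ht⟩, by simp, rfl⟩
  obtain ⟨g', hg', he⟩ := h2 hg
  have : g' = ⟨g, hgA⟩ := Subtype.ext he
  rwa [← this]

theorem closure_four_top {G : Type*} [Group G] {s t x y : G} (M : Subgroup G)
    (hM : _root_.Subgroup.closure ({s, t, x, y} : Set G) = M) (hs : s ∈ M) (ht : t ∈ M) (hx : x ∈ M) (hy : y ∈ M) :
    _root_.Subgroup.closure ({⟨s, hs⟩, ⟨t, ht⟩, ⟨x, hx⟩, ⟨y, hy⟩} : Set M) = ⊤ := by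
  rw [eq_top_iff]
  rintro ⟨g, hg⟩ -
  have h1 : M ≤ (_root_.Subgroup.closure ({⟨s, hs⟩, ⟨t, ht⟩, ⟨x, hx⟩, ⟨y, hy⟩} : Set M)).map M.subtype := by
    rw [MonoidHom.map_closure]
    refine le_trans (le_of_eq hM.symm) ?_
    apply Subgroup.closure_mono
    rintro g (rfl | rfl | rfl | rfl)
    · exact ⟨⟨g, hs⟩, by simp, rfl⟩
    · exact ⟨⟨g, ht⟩, by simp, rfl⟩
    · exact ⟨⟨g, hx⟩, by simp, rfl⟩
    · exact ⟨⟨g, hy⟩, by simp, rfl⟩
  obtain ⟨g', hg', he⟩ := h1 hg
  have : g' = ⟨g, hg⟩ := Subtype.ext he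
  rwa [← this]

/-- The amalgam inside a larger group in which the centralizer is still `⟨s, t⟩` is everything. -/
theorem closure_eq_top {X : Type*} [Group X] [Finite X] {z s t x y : X} (h : Amalgam z s t x y)
    (hC : ∀ g : X, g * z = z * g → g ∈ _root_.Subgroup.closure ({s, t} : Set X)) :
    closure ({s, t, x, y} : Set X) = ⊤ := by
  have hs : s ∈ _root_.Subgroup.closure ({s, t, x, y} : Set X) := _root_.Subgroup.subset_closure (by simp)
  have ht : t ∈ _root_.Subgroup.closure ({s, t, x, y} : Set X) := _root_.Subgroup.subset_closure (by simp)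
  have hx : x ∈ closure ({s, t, x, y} : Set X) := _root_.Subgroup.subset_closure (by simp)
  have hy : y ∈ closure ({s, t, x, y} : Set X) := _root_.Subgroup.subset_closure (by simp)
  have hz : z ∈ closure ({s, t, x, y} : Set X) := by
    rw [← h.hz]; exact mul_mem (mul_mem hs ht) (mul_mem hs ht)
  have h1 := card_of h hC
  have h2 : Nat.card (closure ({s, t, x, y} : Set X)) = 168 ∨ Nat.card (closure ({s, t, x, y} : Set X)) = 360 := by
    refine (am_sub h _ hz hs ht hx hy).card_cases (closure_four_top _ rfl hs ht hx hy) ?_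
    rintro ⟨g, hg⟩ hc
    exact mem_closure_sub hs ht (hC g (congrArg Subtype.val hc)) hg
  have h3 := card_subgroup_dvd_card (closure ({s, t, x, y} : Set X))
  apply Subgroup.eq_top_of_card_eq
  rcases h1 with h1 | h1 <;> rcases h2 with h2 | h2 <;> rw [h1, h2] at h3 ⊢ <;> omega

namespace CenM

variable {X : Type*} [Group X] [Finite X] {v z s t x y : X} (h : Cen v z s t x y)

include h

/-- MAIN: the amalgam generates a complement of `⟨v⟩`. -/
theorem main : (∀ g, g ∈ _root_.Subgroup.closure ({s, t, x, y} : Set X) → g * z = z * g → g ∈ closure ({s, t} : Set X)) ∧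
    (∀ n : ℤ, v ^ n ∈ closure ({s, t, x, y} : Set X) → v ^ n = 1) ∧
    (∀ g, ∃ n : ℤ, ∃ a ∈ closure ({s, t, x, y} : Set X), g = v ^ n * a) ∧
    (Nat.card (closure ({s, t, x, y} : Set X)) = 168 ∨ Nat.card (closure ({s, t, x, y} : Set X)) = 360) := by
  obtain ⟨A, hA1, hA2⟩ := h.exists_compl
  have hv4 : v ^ (4 : ℤ) = 1 := by
    have : v ^ (4 : ℤ) = v * v * (v * v) := by
      rw [show (4 : ℤ) = 1 + 1 + (1 + 1) by norm_num]
      simp only [zpow_add, zpow_one]
    rw [this, h.v4]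
  -- elements of order three
  have h3A : ∀ g : X, g * g * g = 1 → g ∈ A := by
    intro g hg
    obtain ⟨n, a, ha, rfl⟩ := hA2 g
    have hc := (h.vcomm a).zpow_left n
    have e : v ^ n * a * (v ^ n * a) * (v ^ n * a) = v ^ (3 * n) * (a * a * a) := by
      have e0 : ∀ g : X, g * g * g = g ^ 3 := fun g => by rw [pow_succ, pow_two]
      rw [e0, e0, Commute.mul_pow hc, mul_comm 3 n, zpow_mul]
      congr 1
      exact (zpow_ofNat (v ^ n) 3).symm
    rw [e] at hg
    have h1 : v ^ (3 * n) ∈ A := by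
      rw [eq_inv_of_mul_eq_one_left hg]
      exact inv_mem (mul_mem (mul_mem ha ha) ha)
    have h2 := hA1 _ h1
    have h3 : v ^ n = 1 := by
      have e3 : v ^ n = (v ^ (4 : ℤ)) ^ n * (v ^ (3 * n))⁻¹ := by
        rw [← zpow_mul, ← zpow_neg, ← zpow_add]; congr 1; ring
      rw [e3, hv4, h2, one_zpow, inv_one, one_mul]
    rw [h3, one_mul]; exact ha
  -- commutators
  have hcA : ∀ g k : X, g * k * g⁻¹ * k⁻¹ ∈ A := by
    intro g k
    obtain ⟨n, a, ha, rfl⟩ := hA2 g
    obtain ⟨m, b, hb, rfl⟩ := hA2 k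
    have c1 : ∀ c, v ^ n * c = c * v ^ n := fun c => ((h.vcomm c).zpow_left n).eq
    have c2 : ∀ c, v ^ m * c = c * v ^ m := fun c => ((h.vcomm c).zpow_left m).eq
    have e : v ^ n * a * (v ^ m * b) * (v ^ n * a)⁻¹ * (v ^ m * b)⁻¹ = a * b * a⁻¹ * b⁻¹ := by
      calc v ^ n * a * (v ^ m * b) * (v ^ n * a)⁻¹ * (v ^ m * b)⁻¹
          = v ^ n * (a * (v ^ m * b) * a⁻¹) * (v ^ n)⁻¹ * (v ^ m * b)⁻¹ := by group
        _ = (a * (v ^ m * b) * a⁻¹) * (v ^ m * b)⁻¹ := by rw [c1]; group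
        _ = a * b * (v ^ m * a⁻¹) * (v ^ m)⁻¹ * b⁻¹ := by rw [c2 b]; group
        _ = a * b * a⁻¹ * b⁻¹ := by rw [c2 a⁻¹]; group
    rw [e]
    exact mul_mem (mul_mem (mul_mem ha hb) (inv_mem ha)) (inv_mem hb)
  have hxA : x ∈ A := h3A x h.am.xxx
  have hyA : y ∈ A := h3A y h.am.yyy
  have hzz : z⁻¹ = z := inv_eq_of_mul_eq_one_left h.am.zz
  -- `z s ∈ A`, `z t ∈ A`
  have hzs : z * s ∈ A := by
    have e : z * s = x * s * x⁻¹ * s⁻¹ := by
      have e1 : x * s * x⁻¹ = z := by rw [← h.am.zx]; group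
      rw [e1, inv_eq_of_mul_eq_one_left h.am.ss]
    rw [e]; exact hcA x s
  have hzt : z * t ∈ A := by
    have e : z * t = y * t * y⁻¹ * t⁻¹ := by
      have e1 : y * t * y⁻¹ = z := by rw [← h.am.zy]; group
      rw [e1, inv_eq_of_mul_eq_one_left h.am.tt]
    rw [e]; exact hcA y t
  have hsA : s ∈ A := by
    have e : s = x * (z * s) * x⁻¹ := by rw [← h.am.sx]; group
    rw [e]; exact mul_mem (mul_mem hxA hzs) (inv_mem hxA)
  have htA : t ∈ A := by
    have e : t = y * (z * t) * y⁻¹ := by rw [← h.am.ty]; group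
    rw [e]; exact mul_mem (mul_mem hyA hzt) (inv_mem hyA)
  have hzA : z ∈ A := by rw [← h.am.hz]; exact mul_mem (mul_mem hsA htA) (mul_mem hsA htA)
  have hDA : _root_.Subgroup.closure ({s, t} : Set X) ≤ A := by
    rw [closure_le]; rintro g (rfl | rfl) <;> assumption
  have hCA : ∀ g ∈ A, g * z = z * g → g ∈ closure ({s, t} : Set X) := by
    intro g hg hgz
    obtain ⟨n, e, he, rfl⟩ := h.cent g hgz
    have h1 : v ^ n ∈ A := by
      have : v ^ n = v ^ n * e * e⁻¹ := by group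
      rw [this]; exact mul_mem hg (inv_mem (hDA he))
    have h2 := hA1 n (by rwa [zpow_natCast])
    rw [zpow_natCast] at h2
    rw [h2, one_mul]; exact he
  have hMA : _root_.Subgroup.closure ({s, t, x, y} : Set X) = A := by
    have h1 := closure_eq_top (am_sub h.am A hzA hsA htA hxA hyA) (by
      rintro ⟨g, hg⟩ hc
      exact mem_closure_sub hsA htA (hCA g hg (congrArg Subtype.val hc)) hg)
    have h2 := congrArg (Subgroup.map A.subtype) h1
    rw [MonoidHom.map_closure] at h2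
    have h3 : (A.subtype '' {⟨s, hsA⟩, ⟨t, htA⟩, ⟨x, hxA⟩, ⟨y, hyA⟩} : Set X) = {s, t, x, y} := by
      simp [Set.image_insert_eq]
    rw [← h3]
    refine h2.trans ?_
    rw [← MonoidHom.range_eq_map, Subgroup.range_subtype]
  rw [hMA]
  refine ⟨hCA, hA1, hA2, ?_⟩
  exact card_of (am_sub h.am A hzA hsA htA hxA hyA) (by
      rintro ⟨g, hg⟩ hc
      exact mem_closure_sub hsA htA (hCA g hg (congrArg Subtype.val hc)) hg)

end CenM

end Cfsg.Agent.LargeExtra.W2.LFour.CVMain
end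

-- part: LargeExtra/W2/LFour/ModF
section
/-!
# S1759, `L₄(3)`: a convenient form of helper438's model of `C_G(z)` (helper465)

`Mod f z i j k l x₁ x₂ y s`: an opaque function `f : Fin 1152 → G` with `f (mu a b) = f a * f b`,
`f (iv a) = (f a)⁻¹`. An identity between words in `i, …, s` is proved by
`simp only [← M.f_i, …, ← M.f_mu, ← M.f_iv]; exact congrArg f (by decide +kernel)` (tactic `code M`).
-/

set_option autoImplicit false

namespace Cfsg.Agent.LargeExtra.W2.LFour.ModF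

open Cfsg.Agent.SmallExtra438.ModelA Cfsg.Agent.SmallExtra438.FrameA

/-- multiplication of codes -/
def mu (a b : Fin 1152) : Fin 1152 := ⟨mm 0 a b, mm_lt a.2 b.2⟩

/-- `a ^ 23` -/
def iv (a : Fin 1152) : Fin 1152 :=
  mu (mu (mu (mu (mu a a) (mu a a)) (mu (mu a a) (mu a a))) (mu (mu (mu a a) (mu a a)) (mu (mu a a) (mu a a))))
    (mu (mu (mu a a) (mu a a)) (mu (mu a a) a))

/-- the table of `km` -/
def kmT15 : ℕ := 0x318110708520930f28d40b39149561359951769b7a171f89d8230852000c60441cb39124c3ca3505176925584d665d8236de85c7e20441c214800318a3502ce44930f4d66545da49561c7e27608db7a11800c704420214f24c40a3512ce6125594d66945e16de89c7e37602021460031c11112ce3c931028d6945d84956535a376085b7a271f1c11080851800d028d44b38f24c65359a51761256271f8dd8216de0c60041c114808c3c935028e44b5584966535da51e85b7e27208dd14808318010704e44b30f24d40a5da5156125994e08dd7a16df89c1070452020c600d40a3912cc3c95994d769455849f89c82375e85b34a40c24f38b4440470c01850887dc89e6e181d8d64d9552617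51a3093ce2d134a40300614220404779b8607637dc8954985d46964d938b44d2903093c50881011c300681d8df72279b85751a5936554982903493cc2d13811c40060c22057227db85e76381365649855469724f30b44e2903401830881411c46e179d8e07227d261551a5d36562d138a40d24f30220504710018376381c89f6e17946974d959261540d28f30944e2c710118300814289f72179b8e075959361549a5d43cc25138b40d2860c020508710185e6e381d89f71855269751959344e2d034a3cc2481421c40460c08e07627dc85e6da5d46564d855249351559761969b71d79f8218a300108310518720928b30d38f4115124d755669865d6dc81e7e38620800450c42061cb24a38c3513d04d44965d565a61c75b7e07a28e10420041431c818a2c934e31044f6196924d45565e18a36dc75e7e01872000420c414f41124a2cc34e6986544935d55a386275b72079f2061c20011431113d02c928e30d65a6135125975628e171d6df81e1c81810801050d044f28b24d38c5565d865a49351e7e08628db71d0c41461c800108c34e3d044928b5d559a6195124e079f8e189d6dc14310818708004e30d44f40b24a5975596984d449f81e8a385c75b1050c720604200d38c4113ca2c97de81c6dd8a18d65574d251961a34c38a24b40f4440c50400871887a07db75c8638955d64944d869930e3492ca3d140314400204620781f79d71b8e285759551349a65838d30b2894503c51030810081c671b7628637de8134946586965572892d03d134c3810021c62040c56dd7218e27a07d251361a6555d624b28f45030e3400811881c314475c6e38a181f7944d26996175952ca25140f38d3020402071851038a18df7a071b75961a5955d349440f44d30e2892c718810314100286389e81f6dd7186995575925133d140c38d24b2862070c51000818e28607de75c6da6585d65544d24503ce34c2ca2481c61440c2040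

/-- `mm 0`, for the kernel -/
def mmF15 (m n : ℕ) : ℕ :=
  Nat.add ((fun x y => Nat.xor (Nat.xor x y) (Nat.mul 16 (Nat.mod (Nat.shiftRight 27030
      (Nat.land (Nat.xor (Nat.mod x 16) (Nat.div (Nat.land x 10) 2)) (Nat.mod y 16))) 2))) (Nat.mod m 32)
    (Nat.xor (Nat.mod (Nat.shiftRight TA (Nat.add (Nat.mul 80 (Nat.div m 32)) (Nat.mul 5 (Nat.mod (Nat.mod n 32) 16)))) 32)
      (Nat.land (Nat.mod n 32) 16)))
    (Nat.mul 32 (Nat.mod (Nat.shiftRight kmT15 (Nat.mul 6 (Nat.add (Nat.mul 36 (Nat.div m 32)) (Nat.div n 32)))) 64))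

/-- all numbers less than `n` -/
def fa15 (p : ℕ → Bool) (n : ℕ) : Bool := Nat.rec (motive := fun _ => Bool) true (fun k ih => Bool.rec false ih (p k)) n

theorem fa15_spec {p : ℕ → Bool} (n : ℕ) (h : fa15 p n = true) : ∀ k < n, p k = true := by
  induction n with
  | zero => exact fun k hk => absurd hk (Nat.not_lt_zero _)
  | succ n ih =>
    have h1 : (Bool.rec false (fa15 p n) (p n) : Bool) = true := h
    cases h2 : p n
    · rw [h2] at h1; exact absurd h1 Bool.false_ne_true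
    · rw [h2] at h1
      exact fun k hk => (Nat.lt_succ_iff_lt_or_eq.1 hk).elim (ih h1 k) fun e => e ▸ h2

/-- evaluation -/
def frc15 (x : ℕ) (k : ℕ → Bool) : Bool := Nat.rec (motive := fun _ => Bool) (k 0) (fun n _ => k (Nat.succ n)) x

theorem frc15_eq (x : ℕ) (k : ℕ → Bool) : frc15 x k = k x := by cases x <;> rfl

theorem mu_val15 (a b : Fin 1152) : (mu a b).val = mmF15 a b := by
  have h : fa15 (fun i => fa15 (fun j => Nat.beq (km i j) (Nat.mod (Nat.shiftRight kmT15 (Nat.mul 6 (Nat.add (Nat.mul 36 i) j))) 64)) 36)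
    36 = true := by decide +kernel
  have h1 := Nat.eq_of_beq_eq_true (fa15_spec _ (fa15_spec _ h (a / 32) (by omega)) (b / 32) (by omega))
  have h2 : tw 0 (a / 32) (b / 32) = 0 := by
    delta tw
    simp only [Nat.zero_div, Nat.zero_mod, Nat.zero_mul, Nat.add_zero]
  show mm 0 a b = _
  delta mm
  rw [h1, h2, Nat.mul_zero, Nat.xor_zero]
  rfl

theorem mu_iv : ∀ a : Fin 1152, mu a (iv a) = 0 := by
  have h : fa15 (fun a => frc15 (mmF15 a a) fun b => frc15 (mmF15 b b) fun c => frc15 (mmF15 c c) fun d =>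
    Nat.beq (mmF15 a (mmF15 (mmF15 d d) (mmF15 c (mmF15 b a)))) 0) 1152 = true := by decide +kernel
  intro a
  have h1 := fa15_spec _ h a a.2
  simp only [frc15_eq] at h1
  refine Fin.ext ?_
  delta iv
  simp only [mu_val15]
  exact Nat.eq_of_beq_eq_true h1

/-- the model map -/
structure Mod {G : Type*} [Group G] (f : Fin 1152 → G) (z i j k l x₁ x₂ y s : G) : Prop where
  f_mu : ∀ a b, f (mu a b) = f a * f b
  f_iv : ∀ a, f (iv a) = (f a)⁻¹
  f_one : f 0 = 1
  f_i : f 1 = i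
  f_j : f 2 = j
  f_k : f 4 = k
  f_l : f 8 = l
  f_z : f 16 = z
  f_x1 : f 32 = x₁
  f_x2 : f 96 = x₂
  f_y : f 288 = y
  f_s : f 576 = s
  inj : ∀ a b, f a = f b → a = b
  surj : ∀ c, c * z = z * c → ∃ a, f a = c

theorem exists_mod {G : Type*} [Group G] [Finite G] {Q : Subgroup G} {z i j k l x₁ x₂ y s : G}
    (h : Case9aa Q z i j k l x₁ x₂ y s) (h1 : y * y = 1) (h2 : s * s = 1) (h3 : s * y = y * s) :
    ∃ f : Fin 1152 → G, Mod f z i j k l x₁ x₂ y s := by
  have ht : Tw 0 z y s := tw_zero h1 h2 h3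
  have hmu : ∀ a b : Fin 1152, F z i j k l x₁ x₂ y s (mu a b) =
      F z i j k l x₁ x₂ y s a * F z i j k l x₁ x₂ y s b := fun a b => F_mul h ht a.2 b.2
  refine ⟨fun a => F z i j k l x₁ x₂ y s a, ?_⟩
  exact
    { f_mu := hmu
      f_iv := by
        intro a
        apply eq_inv_of_mul_eq_one_right
        rw [← hmu, mu_iv]
        exact F_0
      f_one := F_0
      f_i := F_1
      f_j := F_2
      f_k := F_4
      f_l := F_8
      f_z := F_16
      f_x1 := F_32
      f_x2 := F_96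
      f_y := F_288
      f_s := F_576
      inj := fun a b e => Fin.ext (F_inj h a.2 b.2 e)
      surj := by
        intro c hc
        obtain ⟨m, hm, e⟩ := exists_code h hc
        exact ⟨⟨m, hm⟩, e⟩ }

/-- identities between words in the generators of `C_G(z)` -/
macro "code " M:term : tactic => `(tactic| (
  simp only [pow_succ, pow_zero, one_mul, ← ($M).f_one, ← ($M).f_i, ← ($M).f_j, ← ($M).f_k, ← ($M).f_l, ← ($M).f_z, ← ($M).f_x1,
    ← ($M).f_x2, ← ($M).f_y, ← ($M).f_s, ← ($M).f_mu, ← ($M).f_iv]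
  exact congrArg _ (by decide +kernel)))

section test

variable {G : Type*} [Group G] {z i j k l x₁ x₂ y s : G} {f : Fin 1152 → G}

example (M : Mod f z i j k l x₁ x₂ y s) : y * (i * k) * (y * (i * k)) = i * j * k * l := by code M
example (M : Mod f z i j k l x₁ x₂ y s) : i * (s * y) * i⁻¹ * (i * (s * y) * i⁻¹) = 1 := by code M
example (M : Mod f z i j k l x₁ x₂ y s) : i⁻¹ * (y * (i * k)) * i = s * (i * l * (i * j * k * l) * s * y) := by code M

end test

end Cfsg.Agent.LargeExtra.W2.LFour.ModF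
end

-- part: LargeExtra/W2/LFour/CVInst
section
/-!
# S1759, `L₄(3)`: the structure of `C_G(v)`, `v = y i k` (helper465)
-/

set_option autoImplicit false

namespace Cfsg.Agent.LargeExtra.W2.LFour.CVInst

open Subgroup Cfsg.Agent.CoOneType.LThree Cfsg.Agent.LargeExtra.W2.LFour.CVAbs
  Cfsg.Agent.LargeExtra.W2.LFour.CVComp Cfsg.Agent.LargeExtra.W2.LFour.CVMain
  Cfsg.Agent.LargeExtra.W2.LFour.ModF Cfsg.Agent.LargeExtra.W2.LFour.PresDef

section codes

/-- codes: `v = 298`, `ζ = d z = 31`, `σ = ζ s`, `τ = ζ T` -/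
def cσ : Fin 1152 := mu 31 576
def cτ : Fin 1152 := mu 31 873

def vp : ℕ → Fin 1152
  | 0 => 0
  | n + 1 => mu (vp n) 298

def dl : List (Fin 1152) := [0, cσ, cτ, mu cσ cτ, mu cτ cσ, mu (mu cσ cτ) cσ, mu (mu cτ cσ) cτ,
  mu (mu cσ cτ) (mu cσ cτ)]

theorem dec_cent : ∀ m : Fin 1152, mu m 298 = mu 298 m → ∃ n ∈ [0, 1, 2, 3], ∃ e ∈ dl, m = mu (vp n) e := by
  have h : fa15 (fun m => Bool.rec true (([0, 298, 15, 293].flatMap fun v => [0, 607, 870, 294, 297, 873, 576, 31].map fun e =>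
    mmF15 v e).any (Nat.beq m)) (Nat.beq (mmF15 m 298) (mmF15 298 m))) 1152 = true := by decide +kernel
  have h1 : [0, 1, 2, 3].map (fun n => (vp n).val) = [0, 298, 15, 293] := by decide +kernel
  have h2 : dl.map Fin.val = [0, 607, 870, 294, 297, 873, 576, 31] := by decide +kernel
  intro m hm
  have h3 := fa15_spec _ h m m.2
  have h4 : mmF15 m 298 = mmF15 298 m := (mu_val15 m 298).symm.trans ((congrArg Fin.val hm).trans (mu_val15 298 m))
  rw [h4, Nat.beq_refl, ← h1, ← h2] at h3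
  obtain ⟨x, h5, h6⟩ := List.any_eq_true.1 h3
  obtain ⟨_, h7, h8⟩ := List.mem_flatMap.1 h5
  obtain ⟨n, hn, rfl⟩ := List.mem_map.1 h7
  obtain ⟨_, h9, rfl⟩ := List.mem_map.1 h8
  obtain ⟨e, he, rfl⟩ := List.mem_map.1 h9
  exact ⟨n, hn, e, he, Fin.ext ((Nat.eq_of_beq_eq_true h6).trans (mu_val15 _ _).symm)⟩

end codes

variable {G : Type*} [Group G] {Q : Subgroup G} {z i j k l x₁ x₂ y s θ w w' : G}

theorem mod_of [Finite G] (h : Elem2 Q z i j k l x₁ x₂ y s θ w w') :
    ∃ f : Fin 1152 → G, _root_.Cfsg.Agent.LargeExtra.W2.LFour.ModF.Mod f z i j k l x₁ x₂ y s := exists_mod h.toCase9aa h.y_sq h.s_sq h.s_y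

/-- `ζ, σ, τ, w⁻¹, (i w' i⁻¹)⁻¹` -/
theorem amalgam [Finite G] (h : Elem2 Q z i j k l x₁ x₂ y s θ w w') :
    Amalgam (i * j * k * l * z) (i * j * k * l * z * s) (i * j * k * l * z * (i * (s * y) * i⁻¹)) w⁻¹
      (i * w' * i⁻¹)⁻¹ := by
  obtain ⟨f, M⟩ := mod_of h
  have e1 : w * (i * j * k * l * z) * w⁻¹ = i * j * k * l * z * s := by
    rw [h.w_dz]; code M
  have e2 : w * s * w⁻¹ = i * j * k * l * z := h.w_s
  have hb1 : i * w' * i⁻¹ * (i * j * k * l * z) * (i * w' * i⁻¹)⁻¹ =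
      i * j * k * l * z * (i * (s * y) * i⁻¹) := by
    have c1 : i⁻¹ * (i * j * k * l * z) * i = i * j * k * l := by code M
    calc i * w' * i⁻¹ * (i * j * k * l * z) * (i * w' * i⁻¹)⁻¹
        = i * (w' * (i⁻¹ * (i * j * k * l * z) * i) * w'⁻¹) * i⁻¹ := by group
      _ = i * (i * j * k * l * s * y) * i⁻¹ := by rw [c1, h.w'_d]
      _ = _ := by code M
  have hb2 : i * w' * i⁻¹ * (i * (s * y) * i⁻¹) * (i * w' * i⁻¹)⁻¹ = i * j * k * l * z := by
    calc i * w' * i⁻¹ * (i * (s * y) * i⁻¹) * (i * w' * i⁻¹)⁻¹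
        = i * (w' * (s * y) * w'⁻¹) * i⁻¹ := by group
      _ = i * (i * j * k * l) * i⁻¹ := by rw [h.w'_sy]
      _ = _ := by code M
  have hd1 : i * j * k * l * z ≠ 1 := by
    intro e
    have h1 : f 31 = f 0 := by
      rw [M.f_one, ← e]; symm; code M
    exact absurd (M.inj _ _ h1) (by decide)
  exact
    { ss := by code M
      tt := by code M
      hz := by code M
      zz := by code M
      z1 := hd1
      xxx := by
        have h3 : w * w * w = 1 := by rw [← h.w3, pow_succ, pow_two]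
        calc w⁻¹ * w⁻¹ * w⁻¹ = (w * w * w)⁻¹ := by group
          _ = 1 := by rw [h3, inv_one]
      yyy := by
        have h3 : w' * w' * w' = 1 := by rw [← h.w'3, pow_succ, pow_two]
        calc (i * w' * i⁻¹)⁻¹ * (i * w' * i⁻¹)⁻¹ * (i * w' * i⁻¹)⁻¹ = i * (w' * w' * w')⁻¹ * i⁻¹ := by group
          _ = 1 := by rw [h3]; group
      zx := by rw [← e1]; group
      sx := by
        have e3 : w * (i * j * k * l * z * s) * w⁻¹ = i * j * k * l * z * (i * j * k * l * z * s) := by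
          calc w * (i * j * k * l * z * s) * w⁻¹ = (w * (i * j * k * l * z) * w⁻¹) * (w * s * w⁻¹) := by group
            _ = i * j * k * l * z * s * (i * j * k * l * z) := by rw [e1, e2]
            _ = _ := by code M
        rw [← e3]; group
      zy := by rw [← hb1]; group
      ty := by
        have e3 : i * w' * i⁻¹ * (i * j * k * l * z * (i * (s * y) * i⁻¹)) * (i * w' * i⁻¹)⁻¹ =
            i * j * k * l * z * (i * j * k * l * z * (i * (s * y) * i⁻¹)) := by
          calc i * w' * i⁻¹ * (i * j * k * l * z * (i * (s * y) * i⁻¹)) * (i * w' * i⁻¹)⁻¹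
              = (i * w' * i⁻¹ * (i * j * k * l * z) * (i * w' * i⁻¹)⁻¹) *
                (i * w' * i⁻¹ * (i * (s * y) * i⁻¹) * (i * w' * i⁻¹)⁻¹) := by group
            _ = i * j * k * l * z * (i * (s * y) * i⁻¹) * (i * j * k * l * z) := by rw [hb1, hb2]
            _ = _ := by code M
        rw [← e3]; group
      ix := by
        have c1 : i * j * k * l * z * (i * j * k * l * z * (i * (s * y) * i⁻¹)) = i * (s * y) * i⁻¹ := by code M
        have c2 : (i * (s * y) * i⁻¹)⁻¹ = i * (s * y) * i⁻¹ := by code M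
        have c3 := h.w_inv
        rw [c2] at c3
        rw [c1]
        have c4 : i * (s * y) * i⁻¹ * w⁻¹ * (i * (s * y) * i⁻¹) = w := by
          rw [← c3]
          have c5 : i * (s * y) * i⁻¹ * (i * (s * y) * i⁻¹) = 1 := by code M
          calc i * (s * y) * i⁻¹ * (i * (s * y) * i⁻¹ * w * (i * (s * y) * i⁻¹)) * (i * (s * y) * i⁻¹)
              = (i * (s * y) * i⁻¹ * (i * (s * y) * i⁻¹)) * w * (i * (s * y) * i⁻¹ * (i * (s * y) * i⁻¹)) := by
                simp only [mul_assoc]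
            _ = w := by rw [c5, one_mul, mul_one]
        rw [c4, mul_inv_cancel]
      iy := by
        have c1 : i * j * k * l * z * (i * j * k * l * z * s) = s := by code M
        have c3 : s * (i * w' * i⁻¹) * s⁻¹ = (i * w' * i⁻¹)⁻¹ := by
          calc s * (i * w' * i⁻¹) * s⁻¹ = i * (i⁻¹ * s * i * w' * (i⁻¹ * s * i)⁻¹) * i⁻¹ := by group
            _ = i * w'⁻¹ * i⁻¹ := by rw [h.w'_inv]
            _ = _ := by group
        have c2 : s⁻¹ = s := by code M
        rw [c1]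
        have c4 : s * (i * w' * i⁻¹)⁻¹ * s = i * w' * i⁻¹ := by
          rw [← c3, c2]
          have c5 : s * s = 1 := h.s_sq
          calc s * (s * (i * w' * i⁻¹) * s) * s = (s * s) * (i * w' * i⁻¹) * (s * s) := by
                simp only [mul_assoc]
            _ = i * w' * i⁻¹ := by rw [c5, one_mul, mul_one]
        rw [c4, mul_inv_cancel] }

theorem v_w [Finite G] (h : Elem2 Q z i j k l x₁ x₂ y s θ w w') : y * (i * k) * w = w * (y * (i * k)) := by
  obtain ⟨f, M⟩ := mod_of h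
  have e : y * (i * k) = s * y * (s * (i * k)) := by code M
  rw [e]
  exact ((show Commute (s * y) w from h.w_sy.symm).mul_left (show Commute (s * (i * k)) w from h.w_z1.symm)).eq

theorem v_b [Finite G] (h : Elem2 Q z i j k l x₁ x₂ y s θ w w') :
    y * (i * k) * (i * w' * i⁻¹) = i * w' * i⁻¹ * (y * (i * k)) := by
  obtain ⟨f, M⟩ := mod_of h
  have e : i⁻¹ * (y * (i * k)) * i = s * (i * l * (i * j * k * l) * s * y) := by code M
  have hc : Commute (i⁻¹ * (y * (i * k)) * i) w' := by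
    rw [e]
    exact (show Commute s w' from h.w'_s.symm).mul_left
      (show Commute (i * l * (i * j * k * l) * s * y) w' from h.w'_z2.symm)
  calc y * (i * k) * (i * w' * i⁻¹) = i * ((i⁻¹ * (y * (i * k)) * i) * w') * i⁻¹ := by group
    _ = i * (w' * (i⁻¹ * (y * (i * k)) * i)) * i⁻¹ := by rw [hc.eq]
    _ = _ := by group

end Cfsg.Agent.LargeExtra.W2.LFour.CVInst
end

-- part: LargeExtra/W2/LFour/CVCent
section
/-!
# S1759, `L₄(3)`: `C_G(v) = ⟨v⟩ × M`, `M = ⟨s, T, w, b⟩` (helper465)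
-/

set_option autoImplicit false

namespace Cfsg.Agent.LargeExtra.W2.LFour.CVCent

open Subgroup Cfsg.Agent.CoOneType.LThree Cfsg.Agent.LargeExtra.W2.LFour.CVAbs
  Cfsg.Agent.LargeExtra.W2.LFour.CVComp Cfsg.Agent.LargeExtra.W2.LFour.CVMain
  Cfsg.Agent.LargeExtra.W2.LFour.ModF Cfsg.Agent.LargeExtra.W2.LFour.PresDef
  Cfsg.Agent.LargeExtra.W2.LFour.CVInst

variable {G : Type*} [Group G] {Q : Subgroup G} {z i j k l x₁ x₂ y s θ w w' : G}

theorem f_vp {f : Fin 1152 → G} (M : _root_.Cfsg.Agent.LargeExtra.W2.LFour.ModF.Mod f z i j k l x₁ x₂ y s) (n : ℕ) : f (vp n) = (y * (i * k)) ^ n := by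
  induction n with
  | zero => rw [pow_zero]; exact M.f_one
  | succ n ih =>
    have e : f 298 = y * (i * k) := by symm; code M
    show f (mu (vp n) 298) = _
    rw [M.f_mu, ih, e, pow_succ]

theorem f_dl {f : Fin 1152 → G} (M : _root_.Cfsg.Agent.LargeExtra.W2.LFour.ModF.Mod f z i j k l x₁ x₂ y s) {e : Fin 1152} (he : e ∈ dl) :
    f e ∈ _root_.Subgroup.closure ({i * j * k * l * z * s, i * j * k * l * z * (i * (s * y) * i⁻¹)} : Set G) := by
  have h1 : f cσ = i * j * k * l * z * s := by symm; code M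
  have h2 : f cτ = i * j * k * l * z * (i * (s * y) * i⁻¹) := by symm; code M
  have m1 : f cσ ∈ _root_.Subgroup.closure ({i * j * k * l * z * s, i * j * k * l * z * (i * (s * y) * i⁻¹)} : Set G) := by
    rw [h1]; exact _root_.Subgroup.subset_closure (by simp only [_root_.Set.mem_insert_iff, _root_.Set.mem_singleton_iff, _root_.mul_right_inj, _root_.true_or])
  have m2 : f cτ ∈ _root_.Subgroup.closure ({i * j * k * l * z * s, i * j * k * l * z * (i * (s * y) * i⁻¹)} : Set G) := by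
    rw [h2]; exact _root_.Subgroup.subset_closure (by simp only [_root_.Set.mem_insert_iff, _root_.mul_right_inj, _root_.Set.mem_singleton_iff, _root_.or_true])
  simp only [dl, List.mem_cons, List.not_mem_nil, or_false] at he
  rcases he with rfl | rfl | rfl | rfl | rfl | rfl | rfl | rfl <;> try simp only [M.f_mu, M.f_one]
  · exact one_mem _
  · exact m1
  · exact m2
  · exact mul_mem m1 m2
  · exact mul_mem m2 m1
  · exact mul_mem (mul_mem m1 m2) m1
  · exact mul_mem (mul_mem m2 m1) m2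
  · exact mul_mem (mul_mem m1 m2) (mul_mem m1 m2)

/-- `C_G(⟨v, ζ⟩) = ⟨v⟩ ⟨σ, τ⟩` -/
theorem cent_vz [Finite G] (h : Elem2 Q z i j k l x₁ x₂ y s θ w w') {g : G}
    (hv : g * (y * (i * k)) = y * (i * k) * g) (hz : g * z = z * g) :
    ∃ n : ℕ, ∃ e ∈ _root_.Subgroup.closure ({i * j * k * l * z * s, i * j * k * l * z * (i * (s * y) * i⁻¹)} : Set G),
      g = (y * (i * k)) ^ n * e := by
  obtain ⟨f, M⟩ := mod_of h
  obtain ⟨m, rfl⟩ := M.surj g hz
  have e298 : f 298 = y * (i * k) := by symm; code M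
  have h1 : mu m 298 = mu 298 m := by
    apply M.inj
    rw [M.f_mu, M.f_mu, e298, hv]
  obtain ⟨n, -, e, he, hme⟩ := dec_cent m h1
  refine ⟨n, f e, f_dl M he, ?_⟩
  rw [← f_vp M, ← M.f_mu, ← hme]

theorem z_eq [Finite G] (h : Elem2 Q z i j k l x₁ x₂ y s θ w w') :
    y * (i * k) * (y * (i * k)) * (i * j * k * l * z) = z := by
  obtain ⟨f, M⟩ := mod_of h
  code M

theorem not_conj [Finite G] (h : Elem2 Q z i j k l x₁ x₂ y s θ w w') (g : G) :
    g * z * g⁻¹ ≠ i * j * k * l * z := by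
  intro e
  obtain ⟨f, M⟩ := mod_of h
  apply h.nc
  have e1 : i * (i * j * k * l * z) * i⁻¹ = i * j * k * l := by code M
  refine isConj_iff.2 ⟨i * g, ?_⟩
  rw [← e1, ← e]; group

theorem mem_v [Finite G] (h : Elem2 Q z i j k l x₁ x₂ y s θ w w') :
    (i * j * k * l * z ∈ centralizer ({y * (i * k)} : Set G)) ∧
    (i * j * k * l * z * s ∈ centralizer ({y * (i * k)} : Set G)) ∧
    (i * j * k * l * z * (i * (s * y) * i⁻¹) ∈ centralizer ({y * (i * k)} : Set G)) ∧
    (w⁻¹ ∈ centralizer ({y * (i * k)} : Set G)) ∧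
    ((i * w' * i⁻¹)⁻¹ ∈ centralizer ({y * (i * k)} : Set G)) := by
  obtain ⟨f, M⟩ := mod_of h
  refine ⟨?_, ?_, ?_, ?_, ?_⟩
  · rw [mem_centralizer_singleton_iff]; code M
  · rw [mem_centralizer_singleton_iff]; code M
  · rw [mem_centralizer_singleton_iff]; code M
  · exact inv_mem (mem_centralizer_singleton_iff.2 (v_w h).symm)
  · exact inv_mem (mem_centralizer_singleton_iff.2 (v_b h).symm)

/-- the main structure in `C_G(v)` -/
theorem cen [Finite G] (h : Elem2 Q z i j k l x₁ x₂ y s θ w w') :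
    Cen (⟨y * (i * k), mem_centralizer_singleton_iff.2 rfl⟩ : centralizer ({y * (i * k)} : Set G))
      ⟨_, (mem_v h).1⟩ ⟨_, (mem_v h).2.1⟩ ⟨_, (mem_v h).2.2.1⟩ ⟨_, (mem_v h).2.2.2.1⟩ ⟨_, (mem_v h).2.2.2.2⟩ := by
  obtain ⟨f, M⟩ := mod_of h
  refine
    { am := am_sub (amalgam h) _ _ _ _ _ _
      vc := ?_, v4 := ?_, v2 := ?_, nc := ?_, cent := ?_ }
  · rintro ⟨g, hg⟩
    exact Subtype.ext (mem_centralizer_singleton_iff.1 hg).symm
  · apply Subtype.ext
    show y * (i * k) * (y * (i * k)) * (y * (i * k) * (y * (i * k))) = 1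
    code M
  · intro e
    have e1 : y * (i * k) * (y * (i * k)) = 1 := congrArg Subtype.val e
    have h1 : f 15 = f 0 := by
      rw [M.f_one, ← e1]; symm; code M
    exact absurd (M.inj _ _ h1) (by decide)
  · rintro ⟨g, hg⟩ e
    have e1 : g * (y * (i * k) * (y * (i * k)) * (i * j * k * l * z)) * g⁻¹ = i * j * k * l * z :=
      congrArg Subtype.val e
    rw [z_eq h] at e1
    exact not_conj h g e1
  · rintro ⟨g, hg⟩ e
    have e1 : g * (i * j * k * l * z) = i * j * k * l * z * g := congrArg Subtype.val e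
    have hgv := mem_centralizer_singleton_iff.1 hg
    have hgz : g * z = z * g := by
      have hc : Commute g (y * (i * k) * (y * (i * k)) * (i * j * k * l * z)) :=
        ((show Commute g (y * (i * k)) from hgv).mul_right hgv).mul_right e1
      rw [z_eq h] at hc
      exact hc.eq
    obtain ⟨n, e', he', rfl⟩ := cent_vz h hgv hgz
    have he'' : e' ∈ centralizer ({y * (i * k)} : Set G) := by
      have hle : _root_.Subgroup.closure ({i * j * k * l * z * s, i * j * k * l * z * (i * (s * y) * i⁻¹)} : Set G) ≤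
          centralizer ({y * (i * k)} : Set G) := by
        rw [closure_le]
        rintro g (rfl | rfl)
        · exact (mem_v h).2.1
        · exact (mem_v h).2.2.1
      exact hle he'
    refine ⟨n, ⟨e', he''⟩, mem_closure_sub (mem_v h).2.1 (mem_v h).2.2.1 he' he'', ?_⟩
    apply Subtype.ext
    simp

/-- the image in `G` -/
theorem map_closure4 {A : Subgroup G} {a b c d : G} (ha : a ∈ A) (hb : b ∈ A) (hc : c ∈ A) (hd : d ∈ A) :
    (_root_.Subgroup.closure ({⟨a, ha⟩, ⟨b, hb⟩, ⟨c, hc⟩, ⟨d, hd⟩} : Set A)).map A.subtype = _root_.Subgroup.closure ({a, b, c, d} : Set G) := by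
  rw [MonoidHom.map_closure]
  congr 1
  simp [Set.image_insert_eq]

theorem map_closure2 {A : Subgroup G} {a b : G} (ha : a ∈ A) (hb : b ∈ A) :
    (_root_.Subgroup.closure ({⟨a, ha⟩, ⟨b, hb⟩} : Set A)).map A.subtype = _root_.Subgroup.closure ({a, b} : Set G) := by
  rw [MonoidHom.map_closure]
  congr 1
  simp [Set.image_insert_eq]

/-- `M = ⟨s, T, w, b⟩` -/
theorem gen_eq [Finite G] (h : Elem2 Q z i j k l x₁ x₂ y s θ w w') :
    _root_.Subgroup.closure ({i * j * k * l * z * s, i * j * k * l * z * (i * (s * y) * i⁻¹), w⁻¹, (i * w' * i⁻¹)⁻¹} : Set G) =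
      _root_.Subgroup.closure ({s, i * (s * y) * i⁻¹, w, i * w' * i⁻¹} : Set G) := by
  obtain ⟨f, M⟩ := mod_of h
  have k1 : ∀ N : Subgroup G, s ∈ N → i * (s * y) * i⁻¹ ∈ N → i * j * k * l * z ∈ N := by
    intro N hs hT
    have : i * j * k * l * z = s * (i * (s * y) * i⁻¹) * (s * (i * (s * y) * i⁻¹)) := by code M
    rw [this]; exact mul_mem (mul_mem hs hT) (mul_mem hs hT)
  have k2 : ∀ N : Subgroup G, i * j * k * l * z * s ∈ N → i * j * k * l * z * (i * (s * y) * i⁻¹) ∈ N →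
      s ∈ N ∧ i * (s * y) * i⁻¹ ∈ N := by
    intro N hs hT
    have e1 : s = i * j * k * l * z * s * (i * j * k * l * z * (i * (s * y) * i⁻¹)) *
        (i * j * k * l * z * s * (i * j * k * l * z * (i * (s * y) * i⁻¹))) * (i * j * k * l * z * s) := by code M
    have e2 : i * (s * y) * i⁻¹ = i * j * k * l * z * s * (i * j * k * l * z * (i * (s * y) * i⁻¹)) *
        (i * j * k * l * z * s * (i * j * k * l * z * (i * (s * y) * i⁻¹))) *
          (i * j * k * l * z * (i * (s * y) * i⁻¹)) := by code M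
    constructor
    · rw [e1]; exact mul_mem (mul_mem (mul_mem hs hT) (mul_mem hs hT)) hs
    · rw [e2]; exact mul_mem (mul_mem (mul_mem hs hT) (mul_mem hs hT)) hT
  apply le_antisymm
  · rw [closure_le]
    have hs : s ∈ _root_.Subgroup.closure ({s, i * (s * y) * i⁻¹, w, i * w' * i⁻¹} : Set G) := _root_.Subgroup.subset_closure (by simp only [_root_.Set.mem_insert_iff, _root_.Set.mem_singleton_iff, _root_.true_or])
    have hT : i * (s * y) * i⁻¹ ∈ _root_.Subgroup.closure ({s, i * (s * y) * i⁻¹, w, i * w' * i⁻¹} : Set G) :=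
      _root_.Subgroup.subset_closure (by simp only [_root_.Set.mem_insert_iff, _root_.Set.mem_singleton_iff, _root_.mul_left_inj, _root_.mul_right_inj, _root_.true_or, _root_.or_true])
    have hz := k1 _ hs hT
    have hw : w ∈ _root_.Subgroup.closure ({s, i * (s * y) * i⁻¹, w, i * w' * i⁻¹} : Set G) := _root_.Subgroup.subset_closure (by simp only [_root_.Set.mem_insert_iff, _root_.Set.mem_singleton_iff, _root_.true_or, _root_.or_true])
    have hb : i * w' * i⁻¹ ∈ _root_.Subgroup.closure ({s, i * (s * y) * i⁻¹, w, i * w' * i⁻¹} : Set G) :=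
      _root_.Subgroup.subset_closure (by simp only [_root_.Set.mem_insert_iff, _root_.mul_left_inj, _root_.mul_right_inj, _root_.Set.mem_singleton_iff, _root_.or_true])
    rintro g (rfl | rfl | rfl | rfl)
    · exact mul_mem hz hs
    · exact mul_mem hz hT
    · exact inv_mem hw
    · exact inv_mem hb
  · rw [closure_le]
    have h1 : i * j * k * l * z * s ∈ _root_.Subgroup.closure ({i * j * k * l * z * s,
      i * j * k * l * z * (i * (s * y) * i⁻¹), w⁻¹, (i * w' * i⁻¹)⁻¹} : Set G) := _root_.Subgroup.subset_closure (Or.inl rfl)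
    have h2 : i * j * k * l * z * (i * (s * y) * i⁻¹) ∈ _root_.Subgroup.closure ({i * j * k * l * z * s,
      i * j * k * l * z * (i * (s * y) * i⁻¹), w⁻¹, (i * w' * i⁻¹)⁻¹} : Set G) :=
        _root_.Subgroup.subset_closure (Or.inr (Or.inl rfl))
    have h3 : w⁻¹ ∈ _root_.Subgroup.closure ({i * j * k * l * z * s,
      i * j * k * l * z * (i * (s * y) * i⁻¹), w⁻¹, (i * w' * i⁻¹)⁻¹} : Set G) :=
        _root_.Subgroup.subset_closure (Or.inr (Or.inr (Or.inl rfl)))
    have h4 : (i * w' * i⁻¹)⁻¹ ∈ _root_.Subgroup.closure ({i * j * k * l * z * s,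
      i * j * k * l * z * (i * (s * y) * i⁻¹), w⁻¹, (i * w' * i⁻¹)⁻¹} : Set G) :=
        _root_.Subgroup.subset_closure (Or.inr (Or.inr (Or.inr rfl)))
    generalize _root_.Subgroup.closure ({i * j * k * l * z * s,
      i * j * k * l * z * (i * (s * y) * i⁻¹), w⁻¹, (i * w' * i⁻¹)⁻¹} : Set G) = N at h1 h2 h3 h4 ⊢
    obtain ⟨h5, h6⟩ := k2 N h1 h2
    rintro g (rfl | rfl | rfl | rfl)
    · exact h5
    · exact h6
    · rw [← inv_inv g]; exact inv_mem h3
    · rw [← inv_inv (i * w' * i⁻¹)]; exact inv_mem h4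

/-- MAIN: `C_G(v) = ⟨v⟩ × M`. -/
theorem main [Finite G] (h : Elem2 Q z i j k l x₁ x₂ y s θ w w') :
    (∀ g ∈ _root_.Subgroup.closure ({s, i * (s * y) * i⁻¹, w, i * w' * i⁻¹} : Set G), g * (i * j * k * l * z) =
      i * j * k * l * z * g → g ∈ _root_.Subgroup.closure ({i * j * k * l * z * s,
        i * j * k * l * z * (i * (s * y) * i⁻¹)} : Set G)) ∧
    (∀ n : ℤ, (y * (i * k)) ^ n ∈ _root_.Subgroup.closure ({s, i * (s * y) * i⁻¹, w, i * w' * i⁻¹} : Set G) →
      (y * (i * k)) ^ n = 1) ∧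
    (∀ g : G, g * (y * (i * k)) = y * (i * k) * g → ∃ n : ℤ, ∃ a ∈ _root_.Subgroup.closure ({s, i * (s * y) * i⁻¹, w,
      i * w' * i⁻¹} : Set G), g = (y * (i * k)) ^ n * a) ∧
    (Nat.card (closure ({s, i * (s * y) * i⁻¹, w, i * w' * i⁻¹} : Set G)) = 168 ∨
      Nat.card (closure ({s, i * (s * y) * i⁻¹, w, i * w' * i⁻¹} : Set G)) = 360) := by
  obtain ⟨h1, h2, h3, h4⟩ := CenM.main (cen h)
  have hmap := map_closure4 (mem_v h).2.1 (mem_v h).2.2.1 (mem_v h).2.2.2.1 (mem_v h).2.2.2.2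
  rw [gen_eq h] at hmap
  have hmem : ∀ g (hg : g ∈ centralizer ({y * (i * k)} : Set G)),
      g ∈ _root_.Subgroup.closure ({s, i * (s * y) * i⁻¹, w, i * w' * i⁻¹} : Set G) →
      (⟨g, hg⟩ : centralizer ({y * (i * k)} : Set G)) ∈ _root_.Subgroup.closure ({⟨_, (mem_v h).2.1⟩, ⟨_, (mem_v h).2.2.1⟩,
        ⟨_, (mem_v h).2.2.2.1⟩, ⟨_, (mem_v h).2.2.2.2⟩} : Set (centralizer ({y * (i * k)} : Set G))) := by
    intro g hg hgM
    rw [← hmap] at hgM
    obtain ⟨g', hg', he⟩ := hgM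
    have : g' = ⟨g, hg⟩ := Subtype.ext he
    rwa [← this]
  have hle : _root_.Subgroup.closure ({s, i * (s * y) * i⁻¹, w, i * w' * i⁻¹} : Set G) ≤ centralizer ({y * (i * k)} : Set G) := by
    rw [← hmap]
    rintro _ ⟨g, -, rfl⟩
    exact g.2
  refine ⟨?_, ?_, ?_, ?_⟩
  · intro g hg hgz
    have h5 := h1 ⟨g, hle hg⟩ (hmem g _ hg) (Subtype.ext hgz)
    have h6 := map_closure2 (mem_v h).2.1 (mem_v h).2.2.1
    rw [← h6]
    exact ⟨_, h5, rfl⟩
  · intro n hn
    have h5 := h2 n (by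
      have := hmem _ (hle hn) hn
      convert this using 1
      apply Subtype.ext; simp)
    have h6 := congrArg Subtype.val h5
    simpa only [_root_.SubgroupClass.coe_zpow, _root_.OneMemClass.coe_one] using h6
  · intro g hg
    obtain ⟨n, a, ha, e⟩ := h3 ⟨g, mem_centralizer_singleton_iff.2 hg⟩
    refine ⟨n, a, ?_, ?_⟩
    · rw [← hmap]; exact ⟨a, ha, rfl⟩
    · have := congrArg Subtype.val e
      simpa using this
  · have h5 : Nat.card (closure ({s, i * (s * y) * i⁻¹, w, i * w' * i⁻¹} : Set G)) =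
        Nat.card (closure ({⟨_, (mem_v h).2.1⟩, ⟨_, (mem_v h).2.2.1⟩,
        ⟨_, (mem_v h).2.2.2.1⟩, ⟨_, (mem_v h).2.2.2.2⟩} : Set (centralizer ({y * (i * k)} : Set G)))) := by
      rw [← hmap]
      exact Subgroup.card_map_of_injective (Subgroup.subtype_injective _)
    rw [h5]
    exact h4

end Cfsg.Agent.LargeExtra.W2.LFour.CVCent
end

-- part: LargeExtra/W2/LFour/Five
section
/-!
# S1759, `L₄(3)`: the relations `(w b)⁵ = (w b⁻¹)⁴ = 1` (helper465)
-/

set_option autoImplicit false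

namespace Cfsg.Agent.LargeExtra.W2.LFour.Five

open Subgroup Cfsg.Agent.CoOneType.LThree Cfsg.Agent.LargeExtra.W2.LFour.CVMain
  Cfsg.Agent.LargeExtra.W2.LFour.PresDef Cfsg.Agent.LargeExtra.W2.LFour.CVInst
  Cfsg.Agent.LargeExtra.W2.LFour.CVCent

theorem amalgam_ne {G : Type*} [Group G] {z s t x y : G} (h : Amalgam z s t x y) : x ≠ y := by
  intro e
  have h1 : s = t := by
    have h2 := h.zx
    rw [e] at h2
    exact mul_left_cancel (h2.symm.trans h.zy)
  apply h.st_ne
  rw [← h1]; exact h.ss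

/-- In a group of order 360 the relations of `L₃(2)` do not hold. -/
theorem concl_360 {G : Type*} [Group G] {z s t x y : G} (h : Amalgam z s t x y) (M : Subgroup G)
    (hz : z ∈ M) (hx : x ∈ M) (hy : y ∈ M) (hM : Nat.card M = 360) (hc : Concl z x y) :
    (x * y) ^ 5 = 1 ∧ (x * y⁻¹) ^ 4 = 1 := by
  have h7 : ∀ g ∈ M, g ^ 7 = 1 → g = 1 := by
    intro g hg e
    have h1 : orderOf g ∣ 7 := orderOf_dvd_of_pow_eq_one e
    have h2 : orderOf g ∣ 360 := by
      rw [← hM, ← Subgroup.orderOf_mk g hg]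
      exact _root_.orderOf_dvd_natCard _
    have h3 : orderOf g ∣ Nat.gcd 7 360 := Nat.dvd_gcd h1 h2
    have h4 : Nat.gcd 7 360 = 1 := by decide
    rw [h4, Nat.dvd_one] at h3
    exact orderOf_eq_one_iff.1 h3
  rcases hc with h1 | ⟨-, h1⟩ | ⟨-, h1⟩
  · exact h1
  · exfalso
    have h2 := h7 _ (mul_mem hx (inv_mem hy)) h1
    exact amalgam_ne h (mul_inv_eq_one.1 h2)
  · exfalso
    have h2 := h7 _ (mul_mem (mul_mem (mul_mem hz hx) hz) (inv_mem hy)) h1
    exact amalgam_ne h.conj_z (mul_inv_eq_one.1 h2)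

variable {G : Type*} [Group G] {Q : Subgroup G} {z i j k l x₁ x₂ y s θ w w' : G}

theorem five_four [Finite G] (h : Elem2 Q z i j k l x₁ x₂ y s θ w w')
    (hM : Nat.card (closure ({s, i * (s * y) * i⁻¹, w, i * w' * i⁻¹} : Set G)) = 360) :
    (w * (i * w' * i⁻¹)) ^ 5 = 1 ∧ (w * (i * w' * i⁻¹)⁻¹) ^ 4 = 1 := by
  have ha := amalgam h
  obtain ⟨h1, -, -, -⟩ := CVCent.main h
  rw [← gen_eq h] at h1 hM
  have hc := Cfsg.Agent.CoOneType.LThree.main ha h1
  have hσ : i * j * k * l * z * s ∈ _root_.Subgroup.closure ({i * j * k * l * z * s, i * j * k * l * z * (i * (s * y) * i⁻¹), w⁻¹,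
      (i * w' * i⁻¹)⁻¹} : Set G) := _root_.Subgroup.subset_closure (Or.inl rfl)
  have hτ : i * j * k * l * z * (i * (s * y) * i⁻¹) ∈ _root_.Subgroup.closure ({i * j * k * l * z * s,
      i * j * k * l * z * (i * (s * y) * i⁻¹), w⁻¹, (i * w' * i⁻¹)⁻¹} : Set G) :=
    _root_.Subgroup.subset_closure (Or.inr (Or.inl rfl))
  have hx : w⁻¹ ∈ _root_.Subgroup.closure ({i * j * k * l * z * s,
      i * j * k * l * z * (i * (s * y) * i⁻¹), w⁻¹, (i * w' * i⁻¹)⁻¹} : Set G) :=
    _root_.Subgroup.subset_closure (Or.inr (Or.inr (Or.inl rfl)))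
  have hy : (i * w' * i⁻¹)⁻¹ ∈ _root_.Subgroup.closure ({i * j * k * l * z * s,
      i * j * k * l * z * (i * (s * y) * i⁻¹), w⁻¹, (i * w' * i⁻¹)⁻¹} : Set G) :=
    _root_.Subgroup.subset_closure (Or.inr (Or.inr (Or.inr rfl)))
  have hz := mul_mem (mul_mem hσ hτ) (mul_mem hσ hτ)
  rw [ha.hz] at hz
  obtain ⟨h5, h4⟩ := concl_360 ha _ hz hx hy hM hc
  have hconj : ∀ (a c : G) (n : ℕ), (a * c) ^ n = 1 → (c * a) ^ n = 1 := by
    intro a c n e
    have e1 : c * a = a⁻¹ * (a * c) * (a⁻¹)⁻¹ := by group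
    rw [e1, conj_pow, e]; group
  constructor
  · have e1 : (w * (i * w' * i⁻¹)) = ((i * w' * i⁻¹)⁻¹ * w⁻¹)⁻¹ := by group
    rw [e1, inv_pow, hconj _ _ 5 h5, inv_one]
  · have e1 : w * (i * w' * i⁻¹)⁻¹ = ((i * w' * i⁻¹) * w⁻¹)⁻¹ := by group
    have e2 : (w⁻¹ * (i * w' * i⁻¹)) ^ 4 = 1 := by rw [← h4, inv_inv]
    rw [e1, inv_pow, hconj _ _ 4 e2, inv_one]

end Cfsg.Agent.LargeExtra.W2.LFour.Five
end

-- part: LargeExtra/W2/LFour/Kill168
section
/-!
# S1759, `L₄(3)`: the group `M = ⟨s, T, w, i w' i⁻¹⟩` does not have order `168` (helper125)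
-/

set_option autoImplicit false

namespace Cfsg.Agent.LargeExtra.W2.LFour.Kill168

open Subgroup
open scoped commutatorElement

section abs

variable {M : Type*} [Group M]

/-- relations in `M`; `α` is conjugation by `s i k`, `u = d z`. -/
structure Rel (α : MulAut M) (s T w b u : M) : Prop where
  s2 : s * s = 1
  T2 : T * T = 1
  u2 : u * u = 1
  w3 : w ^ 3 = 1
  b3 : b ^ 3 = 1
  su : s * u = u * s
  Tu : T * u = u * T
  ws : w * s * w⁻¹ = u
  wu : w * u * w⁻¹ = u * s
  bu : b * u * b⁻¹ = u * T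
  Tw : T * w * T⁻¹ = w⁻¹
  sb : s * b * s⁻¹ = b⁻¹
  hT : T ≠ 1
  hu : u ≠ 1
  hs : s ≠ 1
  αs : α s = s
  αT : α T = T
  αu : α u = u
  αw : α w = w
  α2 : α * α = 1
  αb : α b = T * b
  gen : _root_.Subgroup.closure {s, T, w, b} = ⊤

variable {α : MulAut M} {s T w b u : M} (h : Rel α s T w b u)

include h

theorem Rel.perfect : commutator M = ⊤ := by
  have iu : u⁻¹ = u := inv_eq_of_mul_eq_one_right h.u2
  have mem : ∀ x y : M, x * y * x⁻¹ * y⁻¹ ∈ commutator M := fun x y =>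
    commutator_mem_commutator (mem_top x) (mem_top y)
  have m1 : s ∈ commutator M := by
    have := mem w u
    rw [h.wu, iu, mul_assoc, h.su, ← mul_assoc, h.u2, one_mul] at this
    exact this
  have m2 : T ∈ commutator M := by
    have := mem b u
    rw [h.bu, iu, mul_assoc, h.Tu, ← mul_assoc, h.u2, one_mul] at this
    exact this
  have m3 : w ∈ commutator M := by
    have := mem T w
    rw [h.Tw] at this
    have h1 : w⁻¹ * w⁻¹ = w := by
      have h2 : w * w * w = 1 := by rw [← h.w3, pow_succ, pow_succ, pow_one]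
      calc w⁻¹ * w⁻¹ = w⁻¹ * w⁻¹ * (w * w * w) := by rw [h2, mul_one]
        _ = w := by group
    rwa [h1] at this
  have m4 : b ∈ commutator M := by
    have := mem s b
    rw [h.sb] at this
    have h1 : b⁻¹ * b⁻¹ = b := by
      have h2 : b * b * b = 1 := by rw [← h.b3, pow_succ, pow_succ, pow_one]
      calc b⁻¹ * b⁻¹ = b⁻¹ * b⁻¹ * (b * b * b) := by rw [h2, mul_one]
        _ = b := by group
    rwa [h1] at this
  rw [eq_top_iff, ← h.gen, closure_le]
  rintro x (rfl | rfl | rfl | rfl)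
  · exact m1
  · exact m2
  · exact m3
  · exact m4

omit h in
/-- a perfect group of order 168 has 8 Sylow 7-subgroups -/
theorem card_sylow [Finite M] (hM : Nat.card M = 168) (hp : commutator M = ⊤) : Nat.card (Sylow 7 M) = 8 := by
  have : Fact (Nat.Prime 7) := ⟨by norm_num⟩
  obtain ⟨P⟩ : Nonempty (Sylow 7 M) := inferInstance
  have hP : Nat.card P = 7 := by
    have h1 := P.card_eq_multiplicity
    rw [hM] at h1
    have h2 : Nat.factorization 168 7 = 1 := by
      have : (168 : ℕ) = 7 ^ 1 * 24 := by norm_num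
      rw [this, Nat.factorization_mul (by norm_num) (by norm_num), Finsupp.add_apply,
        (by norm_num : Nat.Prime 7).factorization_pow, Finsupp.single_eq_same,
        Nat.factorization_eq_zero_of_not_dvd (by norm_num : ¬ 7 ∣ 24)]
    rw [h2, pow_one] at h1
    exact h1
  have hi : (P : Subgroup M).index = 24 := by
    have h1 := (P : Subgroup M).card_mul_index
    have h2 : Nat.card (P : Subgroup M) = 7 := hP
    rw [h2, hM] at h1
    omega
  have h1 := P.card_dvd_index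
  rw [hi] at h1
  have h2 := card_sylow_modEq_one 7 M
  have h3 : Nat.card (Sylow 7 M) ≤ 24 := Nat.le_of_dvd (by norm_num) h1
  have h4 : Nat.card (Sylow 7 M) % 7 = 1 := h2
  have h5 : Nat.card (Sylow 7 M) = 1 ∨ Nat.card (Sylow 7 M) = 8 := by
    generalize Nat.card (Sylow 7 M) = n at *
    interval_cases n <;> omega
  rcases h5 with h5 | h5
  · exfalso
    -- the Sylow 7-subgroup is normal
    have hsub : Subsingleton (Sylow 7 M) := (Nat.card_eq_one_iff_unique.1 h5).1
    have hN : (P : Subgroup M).Normal := Sylow.normal_of_subsingleton P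
    have hcyc : IsCyclic (P : Subgroup M) := isCyclic_of_prime_card (p := 7) hP
    let f : M →* MulAut (P : Subgroup M) := MulAut.conjNormal
    let g : M →* (ZMod (Nat.card (P : Subgroup M)))ˣ := (IsCyclic.mulAutMulEquiv (P : Subgroup M)).toMonoidHom.comp f
    have hker : commutator M ≤ g.ker := by
      rw [commutator_def, commutator_le]
      intro x _ y _
      rw [MonoidHom.mem_ker, map_commutatorElement, commutatorElement_eq_one_iff_commute]
      exact Commute.all _ _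
    rw [hp] at hker
    have hcent : ∀ x : M, ∀ p ∈ (P : Subgroup M), x * p = p * x := by
      intro x p hp'
      have h6 : g x = 1 := hker (mem_top x)
      have h7 : f x = 1 := (IsCyclic.mulAutMulEquiv (P : Subgroup M)).injective (by rw [map_one]; exact h6)
      have h8 := congrArg (fun φ : MulAut (P : Subgroup M) => ((φ ⟨p, hp'⟩ : (P : Subgroup M)) : M)) h7
      simp only [f, MulAut.conjNormal_apply, MulAut.one_apply] at h8
      exact mul_inv_eq_iff_eq_mul.1 h8
    obtain ⟨K, hK⟩ := Subgroup.exists_right_complement'_of_coprime (N := (P : Subgroup M)) (by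
      rw [hi]
      have : Nat.card (P : Subgroup M) = 7 := hP
      rw [this]; norm_num)
    have hKt : K = ⊤ := by
      rw [eq_top_iff, ← hp, commutator_def, commutator_le]
      intro x _ y _
      obtain ⟨⟨⟨p, hp1⟩, ⟨k, hk1⟩⟩, hx⟩ := hK.2 x
      obtain ⟨⟨⟨p', hp1'⟩, ⟨k', hk1'⟩⟩, hy⟩ := hK.2 y
      simp only at hx hy
      have e1 := hcent k' p hp1
      have e2 := hcent k p' hp1'
      have e3 := hcent p p' hp1'
      have h6 : ⁅x, y⁆ = k * k' * k⁻¹ * k'⁻¹ := by
        rw [← hx, ← hy, commutatorElement_def]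
        have e4 : p * k * (p' * k') = (p * p') * (k * k') := by
          calc p * k * (p' * k') = p * (k * p') * k' := by group
            _ = _ := by rw [e2]; group
        have e5 : p' * k' * (p * k) = (p * p') * (k' * k) := by
          calc p' * k' * (p * k) = p' * (k' * p) * k := by group
            _ = (p' * p) * (k' * k) := by rw [e1]; group
            _ = _ := by rw [e3]
        have e6 : p * k * (p' * k') * (p * k)⁻¹ * (p' * k')⁻¹ =
            (p * k * (p' * k')) * (p' * k' * (p * k))⁻¹ := by group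
        have e7 := hcent (k * k' * k⁻¹ * k'⁻¹) (p * p') (mul_mem hp1 hp1')
        rw [e6, e4, e5]
        calc p * p' * (k * k') * (p * p' * (k' * k))⁻¹ = (p * p') * (k * k' * k⁻¹ * k'⁻¹) * (p * p')⁻¹ := by group
          _ = _ := by rw [← e7]; group
      rw [h6]
      exact mul_mem (mul_mem (mul_mem hk1 hk1') (inv_mem hk1)) (inv_mem hk1')
    have h9 := hK.card_mul_card
    have h10 : Nat.card (P : Subgroup M) = 7 := hP
    rw [h10, hKt, card_top, hM] at h9
    omega
  · exact h5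

/-! ### the action on the Sylow 7-subgroups -/

omit h in
theorem conj_comm {m : M} (hm : α m = m) : α * MulAut.conj m = MulAut.conj m * α := by
  ext x
  simp only [MulAut.mul_apply, MulAut.conj_apply, map_mul, map_inv, hm]

theorem Rel.conj_b : MulAut.conj b * α * (MulAut.conj b)⁻¹ = α * MulAut.conj T := by
  have iT : T⁻¹ = T := inv_eq_of_mul_eq_one_right h.T2
  ext x
  simp only [MulAut.mul_apply, MulAut.conj_apply, map_mul, map_inv, h.αT, h.αb, MulAut.conj_inv_apply]
  calc _ = T⁻¹ * α x * T := by group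
    _ = T * α x * T⁻¹ := by rw [iT]

omit h in
/-- 2-elements have no fixed points -/
theorem fix_free [Finite M] (hM : Nat.card M = 168) (h8 : Nat.card (Sylow 7 M) = 8) {m : M} (hm : m * m = 1)
    (P : Sylow 7 M) (hf : MulAut.conj m • P = P) : m = 1 := by
  have : Fact (Nat.Prime 7) := ⟨by norm_num⟩
  have h1 : m ∈ normalizer (P : Set M) := Sylow.smul_eq_iff_mem_normalizer.1 hf
  have h2 := (normalizer (P : Set M)).card_mul_index
  rw [← P.card_eq_index_normalizer, h8, hM] at h2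
  have h3 : Nat.card (normalizer (P : Set M)) = 21 := by omega
  have h4 : orderOf m ∣ 21 := by
    rw [← h3]
    have := _root_.orderOf_dvd_natCard (⟨m, h1⟩ : normalizer (P : Set M))
    rwa [Subgroup.orderOf_mk] at this
  have h5 : orderOf m ∣ 2 := orderOf_dvd_of_pow_eq_one (by rw [pow_two, hm])
  exact orderOf_eq_one_iff.1 (Nat.eq_one_of_dvd_coprimes (by norm_num : Nat.Coprime 21 2) h4 h5)

theorem Rel.false [Finite M] (hM : Nat.card M = 168) : False := by
  classical
  have : Fact (Nat.Prime 7) := ⟨by norm_num⟩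
  have h8 := card_sylow hM h.perfect
  have : Fintype (Sylow 7 M) := Fintype.ofFinite _
  have h8' : Fintype.card (Sylow 7 M) = 8 := by rw [← Nat.card_eq_fintype_card]; exact h8
  have ff : ∀ m : M, m * m = 1 → m ≠ 1 → ∀ P : Sylow 7 M, MulAut.conj m • P ≠ P := fun m hm hm1 P hP =>
    hm1 (fix_free hM h8 hm P hP)
  have cs := conj_comm h.αs
  have cu := conj_comm h.αu
  have cT := conj_comm h.αT
  have cw := conj_comm h.αw
  have cb := h.conj_b
  have hsu2 : (s * u) * (s * u) = 1 := by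
    calc (s * u) * (s * u) = s * (u * s) * u := by group
      _ = (s * s) * (u * u) := by rw [← h.su]; group
      _ = 1 := by rw [h.s2, h.u2, one_mul]
  have hsu1 : s * u ≠ 1 := by
    intro h1
    have h2 : s = u := by
      calc s = s * u * u := by rw [mul_assoc, h.u2, mul_one]
        _ = u := by rw [h1, one_mul]
    have h3 := h.wu
    rw [h2, h.u2] at h3
    apply h.hu
    calc u = w⁻¹ * (w * u * w⁻¹) * w := by group
      _ = 1 := by rw [h3]; group
  have hTu2 : (T * u) * (T * u) = 1 := by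
    calc (T * u) * (T * u) = T * (u * T) * u := by group
      _ = (T * T) * (u * u) := by rw [← h.Tu]; group
      _ = 1 := by rw [h.T2, h.u2, one_mul]
  -- `α` has no fixed points
  have key1 : ∀ P : Sylow 7 M, α • P ≠ P := by
    intro P0 hP0
    let A : Finset (Sylow 7 M) := Finset.univ.filter (fun P => α • P = P)
    have hA : ∀ P, P ∈ A ↔ α • P = P := fun P => by simp [A]
    have hmul : ∀ m : M, α * MulAut.conj m = MulAut.conj m * α → ∀ P ∈ A, MulAut.conj m • P ∈ A := by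
      intro m hm P hP
      rw [hA] at hP ⊢
      rw [← mul_smul, hm, mul_smul, hP]
    -- four elements of `A`
    have hA4 : 4 ≤ A.card := by
      have hsP := hmul s cs P0 ((hA _).2 hP0)
      have huP := hmul u cu P0 ((hA _).2 hP0)
      have hsuP := hmul s cs _ huP
      have e1 : P0 ≠ MulAut.conj s • P0 := (ff s h.s2 h.hs P0).symm
      have e2 : P0 ≠ MulAut.conj u • P0 := (ff u h.u2 h.hu P0).symm
      have e3 : P0 ≠ MulAut.conj s • MulAut.conj u • P0 := by
        rw [← mul_smul, ← map_mul]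
        exact (ff _ hsu2 hsu1 P0).symm
      have e4 : MulAut.conj s • P0 ≠ MulAut.conj u • P0 := by
        intro h1
        apply ff _ hsu2 hsu1 P0
        rw [map_mul, mul_smul, ← h1, ← mul_smul, ← map_mul, h.s2, map_one, one_smul]
      have e5 : MulAut.conj s • P0 ≠ MulAut.conj s • MulAut.conj u • P0 := fun h1 =>
        e2 (MulAction.injective _ h1)
      have e6 : MulAut.conj u • P0 ≠ MulAut.conj s • MulAut.conj u • P0 := (ff s h.s2 h.hs _).symm
      have hsub : ({P0, MulAut.conj s • P0, MulAut.conj u • P0, MulAut.conj s • MulAut.conj u • P0} :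
          Finset (Sylow 7 M)) ⊆ A := by
        intro P hP
        simp only [Finset.mem_insert, Finset.mem_singleton] at hP
        rcases hP with rfl | rfl | rfl | rfl
        · exact (hA _).2 hP0
        · exact hsP
        · exact huP
        · exact hsuP
      have hcard : ({P0, MulAut.conj s • P0, MulAut.conj u • P0, MulAut.conj s • MulAut.conj u • P0} :
          Finset (Sylow 7 M)).card = 4 := by
        rw [Finset.card_insert_of_notMem, Finset.card_insert_of_notMem, Finset.card_insert_of_notMem,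
          Finset.card_singleton]
        · simp only [Finset.mem_singleton]; exact e6
        · simp only [Finset.mem_insert, Finset.mem_singleton]
          rintro (h1 | h1)
          · exact e4 h1
          · exact e5 h1
        · simp only [Finset.mem_insert, Finset.mem_singleton]
          rintro (h1 | h1 | h1)
          · exact e1 h1
          · exact e2 h1
          · exact e3 h1
      rw [← hcard]
      exact Finset.card_le_card hsub
    -- the translates of `A` by `b`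
    let c := MulAut.conj b
    let f : Sylow 7 M → Sylow 7 M := fun P => c • P
    have hf : Function.Injective f := fun P P' hP => MulAction.injective c hP
    have hB : ∀ P, P ∈ A.image f → (α * MulAut.conj T) • P = P := by
      intro P hP
      obtain ⟨R, hR, rfl⟩ := Finset.mem_image.1 hP
      rw [hA] at hR
      show (α * MulAut.conj T) • (c • R) = c • R
      rw [← cb]
      show (c * α * c⁻¹) • (c • R) = c • R
      rw [← mul_smul, inv_mul_cancel_right, mul_smul, hR]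
    have d1 : Disjoint A (A.image f) := by
      rw [Finset.disjoint_left]
      intro P hP hP'
      have h1 := hB P hP'
      rw [hA] at hP
      rw [cT, mul_smul, hP] at h1
      exact ff T h.T2 h.hT P h1
    have d2 : Disjoint (A.image f) ((A.image f).image f) := by
      rw [Finset.disjoint_left]
      intro P hP hP'
      obtain ⟨R, hR, rfl⟩ := Finset.mem_image.1 hP
      obtain ⟨R', hR', h1⟩ := Finset.mem_image.1 hP'
      have h2 := hf h1
      rw [h2] at hR'
      exact (Finset.disjoint_left.1 d1) hR hR'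
    have d3 : Disjoint A ((A.image f).image f) := by
      rw [Finset.disjoint_left]
      intro P hP hP'
      obtain ⟨R, hR, rfl⟩ := Finset.mem_image.1 hP'
      -- apply `f` once more: `f^3 = 1`
      obtain ⟨R', hR', rfl⟩ := Finset.mem_image.1 hR
      have h3 : f (f (f R')) = R' := by
        show c • (c • (c • R')) = R'
        rw [← mul_smul, ← mul_smul]
        have : c * (c * c) = 1 := by
          show MulAut.conj b * (MulAut.conj b * MulAut.conj b) = 1
          rw [← map_mul, ← map_mul]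
          have h4 : b * (b * b) = 1 := by rw [← h.b3, pow_succ, pow_succ, pow_one, mul_assoc]
          rw [h4, map_one]
        have h5 : c * c * c = 1 := by rw [mul_assoc, this]
        rw [h5, one_smul]
      have h4 : f (f (f R')) ∈ A.image f := Finset.mem_image_of_mem f hP
      rw [h3] at h4
      exact (Finset.disjoint_left.1 d1) hR' h4
    have c1 : (A.image f).card = A.card := Finset.card_image_of_injective _ hf
    have c2 : ((A.image f).image f).card = A.card := by rw [Finset.card_image_of_injective _ hf, c1]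
    have c3 : (A ∪ A.image f ∪ (A.image f).image f).card ≤ 8 := by
      rw [← h8', ← Finset.card_univ]
      exact Finset.card_le_card (Finset.subset_univ _)
    rw [Finset.card_union_of_disjoint (Finset.disjoint_union_left.2 ⟨d3, d2⟩), Finset.card_union_of_disjoint d1,
      c1, c2] at c3
    omega
  have key2 : ∀ P : Sylow 7 M, (α * MulAut.conj T) • P ≠ P := by
    intro P hP
    rw [← cb, mul_smul, mul_smul] at hP
    apply key1 ((MulAut.conj b)⁻¹ • P)
    rw [smul_eq_iff_eq_inv_smul] at hP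
    exact hP
  -- the fixed points of `w`
  let B : Finset (Sylow 7 M) := Finset.univ.filter (fun P => MulAut.conj w • P = P)
  have hBm : ∀ P, P ∈ B ↔ MulAut.conj w • P = P := fun P => by simp [B]
  have hB3 : 8 % 3 = B.card % 3 := by
    have : Fact (Nat.Prime 3) := ⟨Nat.prime_three⟩
    have hp3 : IsPGroup 3 (zpowers (MulAut.conj w)) := by
      have h1 : orderOf (MulAut.conj w) ∣ 3 := orderOf_dvd_of_pow_eq_one (by rw [← map_pow, h.w3, map_one])
      rcases (Nat.dvd_prime Nat.prime_three).1 h1 with h2 | h2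
      · refine IsPGroup.of_card (n := 0) ?_
        rw [Nat.card_zpowers, h2, pow_zero]
      · refine IsPGroup.of_card (n := 1) ?_
        rw [Nat.card_zpowers, h2, pow_one]
    have h1 := hp3.card_modEq_card_fixedPoints (α := Sylow 7 M)
    rw [h8] at h1
    have h2 : MulAction.fixedPoints (zpowers (MulAut.conj w)) (Sylow 7 M) = (B : Set (Sylow 7 M)) := by
      ext P
      rw [MulAction.mem_fixedPoints, Finset.mem_coe, hBm]
      constructor
      · intro h3
        exact h3 ⟨MulAut.conj w, mem_zpowers _⟩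
      · rintro h3 ⟨g, hg⟩
        show g • P = P
        rw [← MulAction.mem_stabilizer_iff] at h3 ⊢
        exact (zpowers_le.2 h3) hg
    rw [h2, Nat.card_coe_set_eq, Set.ncard_coe_finset] at h1
    exact h1
  have hBT : ∀ P ∈ B, MulAut.conj T • P ∈ B := by
    intro P hP
    rw [hBm] at hP ⊢
    have h1 : w * T = T * w⁻¹ := by
      rw [← h.Tw]
      have iT : T⁻¹ = T := inv_eq_of_mul_eq_one_right h.T2
      rw [iT]
      calc w * T = (T * T) * w * T := by rw [h.T2, one_mul]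
        _ = T * (T * w * T) := by group
    rw [← mul_smul, ← map_mul, h1, map_mul, mul_smul, map_inv, smul_eq_iff_eq_inv_smul, inv_smul_smul,
      inv_smul_eq_iff, hP]
  have hBα : ∀ P ∈ B, α • P ∈ B := by
    intro P hP
    rw [hBm] at hP ⊢
    rw [← mul_smul, ← cw, mul_smul, hP]
  have hTT : ∀ P : Sylow 7 M, MulAut.conj T • MulAut.conj T • P = P := by
    intro P
    rw [← mul_smul, ← map_mul, h.T2, map_one, one_smul]
  -- parity
  have hB2 : 2 ∣ B.card := by
    have h1 : ∑ x ∈ B, (1 : ZMod 2) = 0 := by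
      refine Finset.sum_involution (fun P _ => MulAut.conj T • P) ?_ ?_ ?_ ?_
      · intro P _; decide
      · intro P hP _; exact ff T h.T2 h.hT P
      · intro P hP; exact hBT P hP
      · intro P hP; exact hTT P
    rw [Finset.sum_const, nsmul_eq_mul, mul_one] at h1
    exact (ZMod.natCast_eq_zero_iff _ 2).1 h1
  have hne : B.Nonempty := by
    rw [Finset.nonempty_iff_ne_empty]
    intro h1
    rw [h1] at hB3
    simp at hB3
  obtain ⟨P, hP⟩ := hne
  have hB4 : 4 ≤ B.card := by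
    have e1 : P ≠ MulAut.conj T • P := (ff T h.T2 h.hT P).symm
    have e2 : P ≠ α • P := (key1 P).symm
    have e3 : P ≠ α • MulAut.conj T • P := by
      rw [← mul_smul]; exact (key2 P).symm
    have e4 : MulAut.conj T • P ≠ α • P := by
      intro h1
      apply key2 P
      rw [mul_smul, h1, ← mul_smul, h.α2, one_smul]
    have e5 : MulAut.conj T • P ≠ α • MulAut.conj T • P := (key1 _).symm
    have e6 : α • P ≠ α • MulAut.conj T • P := fun h1 => e1 (MulAction.injective _ h1)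
    have hsub : ({P, MulAut.conj T • P, α • P, α • MulAut.conj T • P} : Finset (Sylow 7 M)) ⊆ B := by
      intro R hR
      simp only [Finset.mem_insert, Finset.mem_singleton] at hR
      rcases hR with rfl | rfl | rfl | rfl
      · exact hP
      · exact hBT _ hP
      · exact hBα _ hP
      · exact hBα _ (hBT _ hP)
    have hcard : ({P, MulAut.conj T • P, α • P, α • MulAut.conj T • P} : Finset (Sylow 7 M)).card = 4 := by
      rw [Finset.card_insert_of_notMem, Finset.card_insert_of_notMem, Finset.card_insert_of_notMem,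
        Finset.card_singleton]
      · simp only [Finset.mem_singleton]; exact e6
      · simp only [Finset.mem_insert, Finset.mem_singleton]
        rintro (h1 | h1)
        · exact e4 h1
        · exact e5 h1
      · simp only [Finset.mem_insert, Finset.mem_singleton]
        rintro (h1 | h1 | h1)
        · exact e1 h1
        · exact e2 h1
        · exact e3 h1
    rw [← hcard]
    exact Finset.card_le_card hsub
  have hB8 : B.card ≤ 8 := by
    rw [← h8', ← Finset.card_univ]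
    exact Finset.card_le_card (Finset.subset_univ _)
  have hB : B.card = 8 := by omega
  have hBu : B = Finset.univ := Finset.eq_univ_of_card _ (by rw [hB, h8'])
  have hw : ∀ R : Sylow 7 M, MulAut.conj w • R = R := fun R => (hBm R).1 (by rw [hBu]; exact Finset.mem_univ _)
  apply ff _ hsu2 hsu1 P
  have h1 : MulAut.conj u • P = MulAut.conj s • P := by
    rw [← h.ws, map_mul, map_mul, mul_smul, mul_smul, map_inv]
    have h2 : (MulAut.conj w)⁻¹ • P = P := by rw [inv_smul_eq_iff, hw]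
    rw [h2, hw]
  rw [map_mul, mul_smul, h1, ← mul_smul, ← map_mul, h.s2, map_one, one_smul]

end abs

section conc

open Cfsg.Agent.SmallExtra438.FrameA Cfsg.Agent.SmallExtra438.ModelA

variable {G : Type*} [Group G] {Q : Subgroup G} {z i j k l x₁ x₂ y s θ w w' : G}

/-- relations inside `C_G(z)` -/
structure CRel (z i j k l y s : G) : Prop where
  T_eq : i * (s * y) * i⁻¹ * (i * (s * y) * i⁻¹) = 1
  Ts : i * (s * y) * i⁻¹ * s * (i * (s * y) * i⁻¹)⁻¹ = s * (i * j * k * l * z)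
  su : s * (i * j * k * l * z) = i * j * k * l * z * s
  Tu : i * (s * y) * i⁻¹ * (i * j * k * l * z) = i * j * k * l * z * (i * (s * y) * i⁻¹)
  u2 : i * j * k * l * z * (i * j * k * l * z) = 1
  iu : i * (i * j * k * l) * i⁻¹ = i * j * k * l * z
  ui : i * (i * j * k * l * z) * i⁻¹ = i * j * k * l
  tau2 : s * (i * k) * (s * (i * k)) = 1
  taus : s * (i * k) * s = s * (s * (i * k))
  tauT : s * (i * k) * (i * (s * y) * i⁻¹) = i * (s * y) * i⁻¹ * (s * (i * k))
  tauu : s * (i * k) * (i * j * k * l * z) = i * s * i⁻¹ * (i * j * k * l)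
  taud : s * (i * k) * (i * j * k * l) = i * j * k * l * (s * (i * k))
  usz : i * j * k * l * s * z = i * j * k * l * z * s

theorem crel_aux (f : ℕ → G) (hm : ∀ a b c, a < 1152 → b < 1152 → mm 0 a b = c → f a * f b = f c) (h0 : f 0 = 1) :
    CRel (f 16) (f 1) (f 2) (f 4) (f 8) (f 288) (f 576) := by
  have r0 : f 1 * f 2 = f 3 := hm _ _ _ (by norm_num) (by norm_num) (by decide +kernel)
  have r1 : f 1 * f 4 = f 5 := hm _ _ _ (by norm_num) (by norm_num) (by decide +kernel)
  have r2 : f 1 * f 15 = f 30 := hm _ _ _ (by norm_num) (by norm_num) (by decide +kernel)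
  have r3 : f 1 * f 31 = f 14 := hm _ _ _ (by norm_num) (by norm_num) (by decide +kernel)
  have r4 : f 1 * f 576 = f 577 := hm _ _ _ (by norm_num) (by norm_num) (by decide +kernel)
  have r5 : f 1 * f 864 = f 865 := hm _ _ _ (by norm_num) (by norm_num) (by decide +kernel)
  have r6 : f 3 * f 4 = f 7 := hm _ _ _ (by norm_num) (by norm_num) (by decide +kernel)
  have r7 : f 7 * f 8 = f 15 := hm _ _ _ (by norm_num) (by norm_num) (by decide +kernel)
  have r8 : f 14 * f 17 = f 15 := hm _ _ _ (by norm_num) (by norm_num) (by decide +kernel)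
  have r9 : f 15 * f 16 = f 31 := hm _ _ _ (by norm_num) (by norm_num) (by decide +kernel)
  have r10 : f 15 * f 576 = f 591 := hm _ _ _ (by norm_num) (by norm_num) (by decide +kernel)
  have r11 : f 15 * f 581 = f 586 := hm _ _ _ (by norm_num) (by norm_num) (by decide +kernel)
  have r12 : f 30 * f 17 = f 31 := hm _ _ _ (by norm_num) (by norm_num) (by decide +kernel)
  have r13 : f 31 * f 31 = f 0 := hm _ _ _ (by norm_num) (by norm_num) (by decide +kernel)
  have r14 : f 31 * f 576 = f 607 := hm _ _ _ (by norm_num) (by norm_num) (by decide +kernel)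
  have r15 : f 31 * f 873 = f 870 := hm _ _ _ (by norm_num) (by norm_num) (by decide +kernel)
  have r16 : f 297 * f 873 = f 607 := hm _ _ _ (by norm_num) (by norm_num) (by decide +kernel)
  have r17 : f 576 * f 5 = f 581 := hm _ _ _ (by norm_num) (by norm_num) (by decide +kernel)
  have r18 : f 576 * f 31 = f 607 := hm _ _ _ (by norm_num) (by norm_num) (by decide +kernel)
  have r19 : f 576 * f 288 = f 864 := hm _ _ _ (by norm_num) (by norm_num) (by decide +kernel)
  have r20 : f 576 * f 581 = f 5 := hm _ _ _ (by norm_num) (by norm_num) (by decide +kernel)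
  have r21 : f 577 * f 17 = f 597 := hm _ _ _ (by norm_num) (by norm_num) (by decide +kernel)
  have r22 : f 581 * f 15 = f 586 := hm _ _ _ (by norm_num) (by norm_num) (by decide +kernel)
  have r23 : f 581 * f 31 = f 602 := hm _ _ _ (by norm_num) (by norm_num) (by decide +kernel)
  have r24 : f 581 * f 576 = f 5 := hm _ _ _ (by norm_num) (by norm_num) (by decide +kernel)
  have r25 : f 581 * f 581 = f 0 := hm _ _ _ (by norm_num) (by norm_num) (by decide +kernel)
  have r26 : f 581 * f 873 = f 307 := hm _ _ _ (by norm_num) (by norm_num) (by decide +kernel)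
  have r27 : f 591 * f 16 = f 607 := hm _ _ _ (by norm_num) (by norm_num) (by decide +kernel)
  have r28 : f 597 * f 15 = f 602 := hm _ _ _ (by norm_num) (by norm_num) (by decide +kernel)
  have r29 : f 865 * f 17 = f 873 := hm _ _ _ (by norm_num) (by norm_num) (by decide +kernel)
  have r30 : f 873 * f 31 = f 870 := hm _ _ _ (by norm_num) (by norm_num) (by decide +kernel)
  have r31 : f 873 * f 576 = f 297 := hm _ _ _ (by norm_num) (by norm_num) (by decide +kernel)
  have r32 : f 873 * f 581 = f 307 := hm _ _ _ (by norm_num) (by norm_num) (by decide +kernel)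
  have r33 : f 873 * f 873 = f 0 := hm _ _ _ (by norm_num) (by norm_num) (by decide +kernel)
  have v0 : (f 1)⁻¹ = f 17 := inv_eq_of_mul_eq_one_right ((hm 1 17 0 (by norm_num) (by norm_num) (by decide +kernel)).trans h0)
  have v1 : (f 873)⁻¹ = f 873 := inv_eq_of_mul_eq_one_right ((hm 873 873 0 (by norm_num) (by norm_num) (by decide +kernel)).trans h0)
  constructor <;> simp only [r0, r1, r2, r3, r4, r5, r6, r7, r8, r9, r10, r11, r12, r13, r14, r15, r16, r17, r18, r19, r20, r21, r22, r23, r24, r25, r26, r27, r28, r29, r30, r31, r32, r33, v0, v1, h0]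

theorem aux_code (f : ℕ → G) (hm : ∀ a b c, a < 1152 → b < 1152 → mm 0 a b = c → f a * f b = f c) (h0 : f 0 = 1) :
    f 1 * (f 576 * f 288) * (f 1)⁻¹ = f 873 ∧ f 1 * f 2 * f 4 * f 8 * f 16 = f 31 := by
  have v0 : (f 1)⁻¹ = f 17 := inv_eq_of_mul_eq_one_right ((hm 1 17 0 (by norm_num) (by norm_num) (by decide +kernel)).trans h0)
  have r19 : f 576 * f 288 = f 864 := hm _ _ _ (by norm_num) (by norm_num) (by decide +kernel)
  have r5 : f 1 * f 864 = f 865 := hm _ _ _ (by norm_num) (by norm_num) (by decide +kernel)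
  have r29 : f 865 * f 17 = f 873 := hm _ _ _ (by norm_num) (by norm_num) (by decide +kernel)
  have r0 : f 1 * f 2 = f 3 := hm _ _ _ (by norm_num) (by norm_num) (by decide +kernel)
  have r6 : f 3 * f 4 = f 7 := hm _ _ _ (by norm_num) (by norm_num) (by decide +kernel)
  have r7 : f 7 * f 8 = f 15 := hm _ _ _ (by norm_num) (by norm_num) (by decide +kernel)
  have r9 : f 15 * f 16 = f 31 := hm _ _ _ (by norm_num) (by norm_num) (by decide +kernel)
  constructor <;> simp only [r0, r5, r6, r7, r9, r19, r29, v0]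

theorem code_ne [Finite G] (h : Elem Q z i j k l x₁ x₂ y s θ w w') :
    i * (s * y) * i⁻¹ ≠ 1 ∧ i * j * k * l * z ≠ 1 ∧ s ≠ 1 := by
  have ht : Tw 0 z y s := tw_zero h.y_sq h.s_sq h.s_y
  have c := h.toCase9aa
  have hm : ∀ a b r, a < 1152 → b < 1152 → mm 0 a b = r →
      F z i j k l x₁ x₂ y s a * F z i j k l x₁ x₂ y s b = F z i j k l x₁ x₂ y s r :=
    fun a b r ha hb hr => by rw [← hr, F_mul c ht ha hb]
  have h0 : F z i j k l x₁ x₂ y s 0 = 1 := F_0
  have key := aux_code (F z i j k l x₁ x₂ y s) hm h0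
  obtain ⟨k1, k2⟩ := key
  rw [F_1, F_576, F_288] at k1
  rw [F_1, F_2, F_4, F_8, F_16] at k2
  refine ⟨?_, ?_, ?_⟩
  · intro e
    rw [k1] at e
    exact absurd (F_inj c (by norm_num) (by norm_num) (e.trans h0.symm)) (by norm_num)
  · intro e
    rw [k2] at e
    exact absurd (F_inj c (by norm_num) (by norm_num) (e.trans h0.symm)) (by norm_num)
  · intro e
    have e1 : F z i j k l x₁ x₂ y s 576 = F z i j k l x₁ x₂ y s 0 := by rw [F_576, h0, e]
    exact absurd (F_inj c (by norm_num) (by norm_num) e1) (by norm_num)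

theorem crel [Finite G] (h : Elem Q z i j k l x₁ x₂ y s θ w w') : CRel z i j k l y s := by
  have ht : Tw 0 z y s := tw_zero h.y_sq h.s_sq h.s_y
  have c := h.toCase9aa
  have key := crel_aux (F z i j k l x₁ x₂ y s) (fun a b r ha hb hr => by rw [← hr, F_mul c ht ha hb]) F_0
  rw [F_1, F_2, F_4, F_8, F_16, F_288, F_576] at key
  exact key

theorem kill [Finite G] (h : PresDef.Elem2 Q z i j k l x₁ x₂ y s θ w w') (M : Subgroup G)
    (hM : M = _root_.Subgroup.closure {s, i * (s * y) * i⁻¹, w, i * w' * i⁻¹}) (h168 : Nat.card M = 168)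
    (hn : ∀ g, g * (i * j * k * l) = i * j * k * l * g → ∀ m ∈ M, g * m * g⁻¹ ∈ M) : False := by
  have r := crel h.toElem
  obtain ⟨T, hT⟩ : ∃ T, T = i * (s * y) * i⁻¹ := ⟨_, rfl⟩
  obtain ⟨b, hb⟩ : ∃ b, b = i * w' * i⁻¹ := ⟨_, rfl⟩
  obtain ⟨u, hu⟩ : ∃ u, u = i * j * k * l * z := ⟨_, rfl⟩
  obtain ⟨t, ht⟩ : ∃ t, t = s * (i * k) := ⟨_, rfl⟩
  obtain ⟨d, hd⟩ : ∃ d, d = i * j * k * l := ⟨_, rfl⟩
  obtain ⟨r1, r2, r3, r4, r5, r6, r7, r8, r9, r10, r11, r12, r13⟩ := r
  obtain ⟨n1, n2, n3⟩ := code_ne h.toElem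
  have w3 := h.w3
  have w'3 := h.w'3
  have wd := h.w_d
  have ws := h.w_s
  have wdz := h.w_dz
  have wt := h.w_z1
  have w's := h.w'_s
  have w'dz := h.w'_dz
  have w'd := h.w'_d
  have winv := h.w_inv
  have w'inv := h.w'_inv
  have hss := h.s_sq
  have hyy := h.y_sq
  have hsy := h.s_y
  rw [← hT] at r1 r2 r4 r10 winv
  rw [← hu] at r2 r3 r4 r5 r6 r7 r11 r13 ws wdz w'dz
  rw [← ht] at r8 r9 r10 r11 r12 wt
  rw [← hd] at r6 r7 r11 r12 wd w'd hn
  rw [← hT, ← hb] at hM
  rw [← hd] at r13 wdz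
  rw [r13] at wdz
  have iT : T⁻¹ = T := inv_eq_of_mul_eq_one_right r1
  have iu : u⁻¹ = u := inv_eq_of_mul_eq_one_right r5
  have it : t⁻¹ = t := inv_eq_of_mul_eq_one_right r8
  have is : s⁻¹ = s := inv_eq_of_mul_eq_one_right hss
  have w'inv' : w'⁻¹ ^ 3 = 1 := by rw [inv_pow, w'3, inv_one]
  -- `b u b⁻¹ = u T`
  have bu : b * u * b⁻¹ = u * T := by
    have h1 : i⁻¹ * u * i = d := by rw [← r6]; group
    calc b * u * b⁻¹ = i * (w' * (i⁻¹ * u * i) * w'⁻¹) * i⁻¹ := by rw [hb]; group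
      _ = (i * d * i⁻¹) * (i * (s * y) * i⁻¹) := by rw [h1, w'd]; group
      _ = _ := by rw [r6, ← hT]
  have sb : s * b * s⁻¹ = b⁻¹ := by
    have h1 : i * (i⁻¹ * s * i * w' * (i⁻¹ * s * i)⁻¹) * i⁻¹ = i * w'⁻¹ * i⁻¹ := by rw [w'inv]
    calc s * b * s⁻¹ = i * (i⁻¹ * s * i * w' * (i⁻¹ * s * i)⁻¹) * i⁻¹ := by rw [hb]; group
      _ = _ := by rw [h1, hb]; group
  have b3 : b ^ 3 = 1 := by
    rw [hb, conj_pow, w'3]; group
  -- `a0 = i s i⁻¹ d = t u` commutes with `b`
  obtain ⟨a0, ha0⟩ : ∃ a0, a0 = i * s * i⁻¹ * d := ⟨_, rfl⟩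
  rw [← ha0] at r11
  have ba0 : b * a0 = a0 * b := by
    have h1 : b * (i * s * i⁻¹) = i * s * i⁻¹ * b := by
      rw [hb]
      calc i * w' * i⁻¹ * (i * s * i⁻¹) = i * (w' * s) * i⁻¹ := by group
        _ = _ := by rw [w's]; group
    have h2 : b * d = d * b := by
      rw [hb, ← r7]
      calc i * w' * i⁻¹ * (i * u * i⁻¹) = i * (w' * u) * i⁻¹ := by group
        _ = _ := by rw [w'dz]; group
    rw [ha0, ← mul_assoc, h1, mul_assoc, h2, ← mul_assoc]
  have hta : t = a0 * u := by rw [← r11, mul_assoc, r5, mul_one]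
  have tu : t * u = u * t := by
    have ct : Commute t w := wt.symm
    have cs : Commute t s := r9
    rw [← ws]
    exact ((ct.mul_right cs).mul_right ct.inv_right).eq
  have a0T : a0 * T = T * a0 := by
    rw [← r11, mul_assoc, ← r4, ← mul_assoc, r10, mul_assoc]
  have ub : u * b * u⁻¹ = T * b := by
    have h1 : b * u = u * T * b := by rw [← bu]; group
    have h2 : b = u * T * b * u := by rw [← h1, mul_assoc, r5, mul_one]
    calc u * b * u⁻¹ = u * (u * T * b * u) * u⁻¹ := by rw [← h2]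
      _ = (u * u) * T * b := by group
      _ = T * b := by rw [r5, one_mul]
  have tb : t * b * t⁻¹ = T * b := by
    rw [hta]
    calc a0 * u * b * (a0 * u)⁻¹ = a0 * (u * b * u⁻¹) * a0⁻¹ := by group
      _ = (a0 * T) * b * a0⁻¹ := by rw [ub]; group
      _ = T * (a0 * b) * a0⁻¹ := by rw [a0T]; group
      _ = T * b := by rw [← ba0]; group
  -- membership
  have sM : s ∈ M := by rw [hM]; exact _root_.Subgroup.subset_closure (by simp)
  have TM : T ∈ M := by rw [hM]; exact _root_.Subgroup.subset_closure (by simp)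
  have wM : w ∈ M := by rw [hM]; exact _root_.Subgroup.subset_closure (by simp)
  have bM : b ∈ M := by rw [hM]; exact _root_.Subgroup.subset_closure (by simp)
  have uM : u ∈ M := by rw [← ws]; exact mul_mem (mul_mem wM sM) (inv_mem wM)
  have hconj : ∀ m ∈ M, t * m * t⁻¹ ∈ M := hn t r12
  let α : MulAut M :=
    { toFun := fun m => ⟨t * m * t⁻¹, hconj m m.2⟩
      invFun := fun m => ⟨t * m * t⁻¹, hconj m m.2⟩
      left_inv := fun m => by
        apply Subtype.ext
        show t * (t * (m : G) * t⁻¹) * t⁻¹ = m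
        calc t * (t * (m : G) * t⁻¹) * t⁻¹ = (t * t) * m * (t * t)⁻¹ := by group
          _ = m := by rw [r8]; group
      right_inv := fun m => by
        apply Subtype.ext
        show t * (t * (m : G) * t⁻¹) * t⁻¹ = m
        calc t * (t * (m : G) * t⁻¹) * t⁻¹ = (t * t) * m * (t * t)⁻¹ := by group
          _ = m := by rw [r8]; group
      map_mul' := fun m m' => by
        apply Subtype.ext
        show t * ((m : G) * m') * t⁻¹ = t * m * t⁻¹ * (t * m' * t⁻¹)
        group }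
  have hα : ∀ m : M, ((α m : M) : G) = t * m * t⁻¹ := fun m => rfl
  have hfin : Finite M := Nat.finite_of_card_ne_zero (by rw [h168]; norm_num)
  refine Rel.false (α := α) (s := ⟨s, sM⟩) (T := ⟨T, TM⟩) (w := ⟨w, wM⟩) (b := ⟨b, bM⟩) (u := ⟨u, uM⟩) ?_ h168
  constructor
  · exact Subtype.ext hss
  · exact Subtype.ext r1
  · exact Subtype.ext r5
  · exact Subtype.ext w3
  · exact Subtype.ext b3
  · exact Subtype.ext r3
  · exact Subtype.ext r4
  · exact Subtype.ext ws
  · exact Subtype.ext wdz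
  · exact Subtype.ext bu
  · exact Subtype.ext winv
  · exact Subtype.ext sb
  · intro h1
    have h2 : T = 1 := congrArg Subtype.val h1
    exact n1 (hT ▸ h2)
  · intro h1
    have h2 : u = 1 := congrArg Subtype.val h1
    exact n2 (hu ▸ h2)
  · intro h1
    exact n3 (congrArg Subtype.val h1)
  · apply Subtype.ext
    rw [hα]
    show t * s * t⁻¹ = s
    rw [r9, mul_inv_cancel_right]
  · apply Subtype.ext
    rw [hα]
    show t * T * t⁻¹ = T
    rw [r10, mul_inv_cancel_right]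
  · apply Subtype.ext
    rw [hα]
    show t * u * t⁻¹ = u
    rw [tu, mul_inv_cancel_right]
  · apply Subtype.ext
    rw [hα]
    show t * w * t⁻¹ = w
    rw [← wt, mul_inv_cancel_right]
  · ext m
    show t * (t * (m : G) * t⁻¹) * t⁻¹ = m
    calc t * (t * (m : G) * t⁻¹) * t⁻¹ = (t * t) * m * (t * t)⁻¹ := by group
      _ = m := by rw [r8]; group
  · exact Subtype.ext tb
  · apply Subgroup.map_injective M.subtype_injective
    rw [MonoidHom.map_closure, ← MonoidHom.range_eq_map, range_subtype]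
    simp only [Set.image_insert_eq, Set.image_singleton, coe_subtype]
    exact hM.symm

end conc

end Cfsg.Agent.LargeExtra.W2.LFour.Kill168
end

-- part: LargeExtra/W2/LFour/PEnd
section
/-!
# S1759, `L₄(3)`: `M = ⟨s, T, w, b⟩` has order 360, `C_G(d)`, the relations (helper465)
-/

set_option autoImplicit false

namespace Cfsg.Agent.LargeExtra.W2.LFour.PEnd

open Subgroup Cfsg.Agent.CoOneType.LThree Cfsg.Agent.LargeExtra.W2.LFour.CVMain
  Cfsg.Agent.LargeExtra.W2.LFour.PresDef Cfsg.Agent.LargeExtra.W2.LFour.CVInst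
  Cfsg.Agent.LargeExtra.W2.LFour.CVCent Cfsg.Agent.LargeExtra.W2.LFour.CentD
open scoped Pointwise commutatorElement

/-- all involutions are conjugate -/
theorem conj_all {X : Type*} [Group X] [Finite X] {z s t x y : X} (h : Amalgam z s t x y)
    (hcard : Nat.card X = 168 ∨ Nat.card X = 360) {u : X} (huu : u * u = 1) (hu1 : u ≠ 1) :
    ∃ g : X, g * u * g⁻¹ = z := by
  have hp2 : Fact (Nat.Prime 2) := ⟨Nat.prime_two⟩
  have hu' : orderOf u = 2 := orderOf_eq_prime (by rw [pow_two, huu]) hu1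
  have hD := h.card_D
  have hDp : IsPGroup 2 (closure ({s, t} : Set X)) := IsPGroup.of_card (n := 3) hD
  have hidx : ¬ 2 ∣ (closure ({s, t} : Set X)).index := by
    have h1 := (closure ({s, t} : Set X)).card_mul_index
    rw [hD] at h1
    rcases hcard with h3 | h3 <;> rw [h3] at h1 <;> omega
  let S : Sylow 2 X := hDp.toSylow hidx
  have hz : IsPGroup 2 (zpowers u) := IsPGroup.of_card (n := 1) (by rw [Nat.card_zpowers, hu', pow_one])
  obtain ⟨Q, hQ⟩ := hz.exists_le_sylow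
  obtain ⟨g, hg⟩ := MulAction.exists_smul_eq X Q S
  have hmem : g * u * g⁻¹ ∈ (S : Subgroup X) := by
    rw [← hg]
    have h1 : u ∈ (Q : Subgroup X) := hQ (mem_zpowers _)
    have h2 : MulAut.conj g • u ∈ (MulAut.conj g • (Q : Subgroup X)) :=
      Subgroup.smul_mem_pointwise_smul _ _ _ h1
    exact h2
  have hmem' : g * u * g⁻¹ ∈ _root_.Subgroup.closure ({s, t} : Set X) := hmem
  have hne : g * u * g⁻¹ ≠ 1 := by
    intro e
    rw [conj_eq_one_iff] at e
    exact hu1 e
  have hsq : g * u * g⁻¹ * (g * u * g⁻¹) = 1 := by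
    calc g * u * g⁻¹ * (g * u * g⁻¹) = g * (u * u) * g⁻¹ := by group
      _ = 1 := by rw [huu]; group
  obtain ⟨k, hk⟩ := h.conj_of_mem hmem' hne hsq
  exact ⟨k * g, by rw [← hk]; group⟩

variable {G : Type*} [Group G] {Q : Subgroup G} {z i j k l x₁ x₂ y s θ w w' : G}

/-- the amalgam in the subgroup `M` as a type -/
theorem am_M [Finite G] (h : Elem2 Q z i j k l x₁ x₂ y s θ w w') :
    ∃ ζ σ τ x' y' : closure ({s, i * (s * y) * i⁻¹, w, i * w' * i⁻¹} : Set G),
      (ζ : G) = i * j * k * l * z ∧ Amalgam ζ σ τ x' y' ∧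
      _root_.Subgroup.closure ({σ, τ, x', y'} : Set (closure ({s, i * (s * y) * i⁻¹, w, i * w' * i⁻¹} : Set G))) = ⊤ := by
  have ha := amalgam h
  have hM := gen_eq h
  have hσ : i * j * k * l * z * s ∈ _root_.Subgroup.closure ({s, i * (s * y) * i⁻¹, w, i * w' * i⁻¹} : Set G) := by
    rw [← hM]; exact _root_.Subgroup.subset_closure (Or.inl rfl)
  have hτ : i * j * k * l * z * (i * (s * y) * i⁻¹) ∈
      _root_.Subgroup.closure ({s, i * (s * y) * i⁻¹, w, i * w' * i⁻¹} : Set G) := by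
    rw [← hM]; exact _root_.Subgroup.subset_closure (Or.inr (Or.inl rfl))
  have hx : w⁻¹ ∈ _root_.Subgroup.closure ({s, i * (s * y) * i⁻¹, w, i * w' * i⁻¹} : Set G) := by
    rw [← hM]; exact _root_.Subgroup.subset_closure (Or.inr (Or.inr (Or.inl rfl)))
  have hy : (i * w' * i⁻¹)⁻¹ ∈ _root_.Subgroup.closure ({s, i * (s * y) * i⁻¹, w, i * w' * i⁻¹} : Set G) := by
    rw [← hM]; exact _root_.Subgroup.subset_closure (Or.inr (Or.inr (Or.inr rfl)))
  have hz := mul_mem (mul_mem hσ hτ) (mul_mem hσ hτ)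
  rw [ha.hz] at hz
  exact ⟨⟨_, hz⟩, ⟨_, hσ⟩, ⟨_, hτ⟩, ⟨_, hx⟩, ⟨_, hy⟩, rfl, am_sub ha _ hz hσ hτ hx hy,
    closure_four_top _ hM hσ hτ hx hy⟩

theorem hm [Finite G] (h : Elem2 Q z i j k l x₁ x₂ y s θ w w') :
    HM i s y w w' (y * (i * k)) (i * j * k * l * z) where
  hv := (CVCent.main h).2.2.1
  hconj := by
    intro a ha haa ha1
    obtain ⟨ζ, σ, τ, x', y', e, hA, -⟩ := am_M h
    obtain ⟨g, hg⟩ := conj_all hA (CVCent.main h).2.2.2 (u := ⟨a, ha⟩) (Subtype.ext haa)
      (fun e => ha1 (congrArg Subtype.val e))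
    exact ⟨g, g.2, by rw [← e, ← hg]; rfl⟩

theorem M_le [Finite G] (h : Elem2 Q z i j k l x₁ x₂ y s θ w w') :
    _root_.Subgroup.closure ({s, i * (s * y) * i⁻¹, w, i * w' * i⁻¹} : Set G) ≤ centralizer ({y * (i * k)} : Set G) := by
  obtain ⟨f, M⟩ := mod_of h
  rw [closure_le]
  rintro g (rfl | rfl | rfl | rfl)
  · exact mem_centralizer_singleton_iff.2 (by code M)
  · exact mem_centralizer_singleton_iff.2 (by code M)
  · exact mem_centralizer_singleton_iff.2 (v_w h).symm
  · exact mem_centralizer_singleton_iff.2 (v_b h).symm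

/-- commutators of elements of `C_G(v)` lie in `M` -/
theorem comm_mem [Finite G] (h : Elem2 Q z i j k l x₁ x₂ y s θ w w') {a c : G}
    (ha : a * (y * (i * k)) = y * (i * k) * a) (hc : c * (y * (i * k)) = y * (i * k) * c) :
    a * c * a⁻¹ * c⁻¹ ∈ _root_.Subgroup.closure ({s, i * (s * y) * i⁻¹, w, i * w' * i⁻¹} : Set G) := by
  obtain ⟨-, -, h3, -⟩ := CVCent.main h
  obtain ⟨n, a', ha', e1⟩ := h3 a ha
  obtain ⟨m, c', hc', e2⟩ := h3 c hc
  have hle := M_le h
  have c1 : ∀ (n : ℤ) (g : G), g * (y * (i * k)) = y * (i * k) * g → (y * (i * k)) ^ n * g = g * (y * (i * k)) ^ n :=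
    fun n g hg => ((show Commute (y * (i * k)) g from hg.symm).zpow_left n).eq
  have hc'v := mem_centralizer_singleton_iff.1 (hle hc')
  have ha'v := mem_centralizer_singleton_iff.1 (hle ha')
  have e : a * c * a⁻¹ * c⁻¹ = a' * c' * a'⁻¹ * c'⁻¹ := by
    have hcv : c * (y * (i * k)) ^ n = (y * (i * k)) ^ n * c := (c1 n c hc).symm
    calc a * c * a⁻¹ * c⁻¹ = (y * (i * k)) ^ n * (a' * c * a'⁻¹) * ((y * (i * k)) ^ n)⁻¹ * c⁻¹ := by rw [e1]; group
      _ = (y * (i * k)) ^ n * ((y * (i * k)) ^ n)⁻¹ * (a' * c * a'⁻¹) * c⁻¹ := by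
          have h5 : (a' * c * a'⁻¹) * (y * (i * k)) = y * (i * k) * (a' * c * a'⁻¹) :=
            (((show Commute a' (y * (i * k)) from ha'v).mul_left hc).mul_left
              (show Commute a' (y * (i * k)) from ha'v).inv_left).eq
          have h6 := c1 (-n) _ h5
          rw [zpow_neg] at h6
          calc (y * (i * k)) ^ n * (a' * c * a'⁻¹) * ((y * (i * k)) ^ n)⁻¹ * c⁻¹
              = (y * (i * k)) ^ n * ((a' * c * a'⁻¹) * ((y * (i * k)) ^ n)⁻¹) * c⁻¹ := by group
            _ = (y * (i * k)) ^ n * ((y * (i * k)) ^ n)⁻¹ * (a' * c * a'⁻¹) * c⁻¹ := by rw [← h6]; group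
      _ = a' * ((y * (i * k)) ^ m * c') * a'⁻¹ * ((y * (i * k)) ^ m * c')⁻¹ := by rw [mul_inv_cancel, one_mul, e2]
      _ = a' * (c' * (y * (i * k)) ^ m) * a'⁻¹ * (c' * (y * (i * k)) ^ m)⁻¹ := by rw [c1 m c' hc'v]
      _ = a' * c' * ((y * (i * k)) ^ m * a'⁻¹) * ((y * (i * k)) ^ m)⁻¹ * c'⁻¹ := by group
      _ = a' * c' * a'⁻¹ * c'⁻¹ := by
          rw [c1 m a'⁻¹ (show Commute a' (y * (i * k)) from ha'v).inv_left.eq]; group
  rw [e]
  exact mul_mem (mul_mem (mul_mem ha' hc') (inv_mem ha')) (inv_mem hc')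

/-- `C_G(d)` normalises `M` -/
theorem norm_M [Finite G] (h : Elem2 Q z i j k l x₁ x₂ y s θ w w') {g : G}
    (hg : g * (i * j * k * l) = i * j * k * l * g) :
    ∀ m ∈ _root_.Subgroup.closure ({s, i * (s * y) * i⁻¹, w, i * w' * i⁻¹} : Set G),
      g * m * g⁻¹ ∈ _root_.Subgroup.closure ({s, i * (s * y) * i⁻¹, w, i * w' * i⁻¹} : Set G) := by
  have hn := norm_v h (hm h) hg
  have hcv : ∀ a, a * (y * (i * k)) = y * (i * k) * a → g * a * g⁻¹ * (y * (i * k)) = y * (i * k) * (g * a * g⁻¹) := by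
    intro a ha
    have h1 : Commute a (g⁻¹ * (y * (i * k)) * g) := by
      have h2 : g⁻¹ * (y * (i * k)) * g = y * (i * k) ∨ g⁻¹ * (y * (i * k)) * g = (y * (i * k))⁻¹ := by
        rcases hn with e | e
        · left
          calc g⁻¹ * (y * (i * k)) * g = g⁻¹ * (g * (y * (i * k)) * g⁻¹) * g := by rw [e]
            _ = y * (i * k) := by group
        · right
          have e' : g * (y * (i * k))⁻¹ * g⁻¹ = y * (i * k) := by
            calc g * (y * (i * k))⁻¹ * g⁻¹ = (g * (y * (i * k)) * g⁻¹)⁻¹ := by group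
              _ = y * (i * k) := by rw [e, inv_inv]
          calc g⁻¹ * (y * (i * k)) * g = g⁻¹ * (g * (y * (i * k))⁻¹ * g⁻¹) * g := by rw [e']
            _ = (y * (i * k))⁻¹ := by group
      rcases h2 with e | e <;> rw [e]
      · exact ha
      · exact (show Commute a (y * (i * k)) from ha).inv_right
    calc g * a * g⁻¹ * (y * (i * k)) = g * (a * (g⁻¹ * (y * (i * k)) * g)) * g⁻¹ := by group
      _ = g * ((g⁻¹ * (y * (i * k)) * g) * a) * g⁻¹ := by rw [h1.eq]
      _ = _ := by group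
  have h1 : ⁅centralizer ({y * (i * k)} : Set G), centralizer ({y * (i * k)} : Set G)⁆ ≤
      (_root_.Subgroup.closure ({s, i * (s * y) * i⁻¹, w, i * w' * i⁻¹} : Set G)).comap (MulAut.conj g).toMonoidHom := by
    rw [Subgroup.commutator_le]
    intro a ha c hc
    have h2 := comm_mem h (hcv a (mem_centralizer_singleton_iff.1 ha)) (hcv c (mem_centralizer_singleton_iff.1 hc))
    show g * (a * c * a⁻¹ * c⁻¹) * g⁻¹ ∈ _root_.Subgroup.closure ({s, i * (s * y) * i⁻¹, w, i * w' * i⁻¹} : Set G)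
    convert h2 using 1
    group
  have h2 : _root_.Subgroup.closure ({s, i * (s * y) * i⁻¹, w, i * w' * i⁻¹} : Set G) ≤
      ⁅centralizer ({y * (i * k)} : Set G), centralizer ({y * (i * k)} : Set G)⁆ := by
    obtain ⟨ζ, σ, τ, x', y', -, hA, htop⟩ := am_M h
    have h3 := hA.perfect htop
    have h4 : (⁅_root_.Subgroup.closure ({s, i * (s * y) * i⁻¹, w, i * w' * i⁻¹} : Set G),
        _root_.Subgroup.closure ({s, i * (s * y) * i⁻¹, w, i * w' * i⁻¹} : Set G)⁆ : Subgroup G) =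
        _root_.Subgroup.closure ({s, i * (s * y) * i⁻¹, w, i * w' * i⁻¹} : Set G) := by
      rw [← Subgroup.map_subtype_commutator, h3, ← MonoidHom.range_eq_map, Subgroup.range_subtype]
    conv_lhs => rw [← h4]
    exact Subgroup.commutator_mono (M_le h) (M_le h)
  intro m hm'
  exact h1 (h2 hm')

theorem card_M [Finite G] (h : Elem2 Q z i j k l x₁ x₂ y s θ w w') :
    Nat.card (closure ({s, i * (s * y) * i⁻¹, w, i * w' * i⁻¹} : Set G)) = 360 := by
  rcases (CVCent.main h).2.2.2 with h1 | h1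
  · exact (Kill168.kill h _ rfl h1 (fun g hg => norm_M h hg)).elim
  · exact h1

/-- MAIN: the relations `five`, `four` -/
theorem five_four [Finite G] (h : Elem2 Q z i j k l x₁ x₂ y s θ w w') :
    (w * (i * w' * i⁻¹)) ^ 5 = 1 ∧ (w * (i * w' * i⁻¹)⁻¹) ^ 4 = 1 := Five.five_four h (card_M h)

/-- MAIN: the centralizer of `d` -/
theorem gen [Finite G] (h : Elem2 Q z i j k l x₁ x₂ y s θ w w') :
    Subgroup.centralizer ({i * j * k * l} : Set G) ≤
      Subgroup.closure {i * j, k * l, i * k, y, s, w, i * w' * i⁻¹} := CentD.gen h (hm h)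

end Cfsg.Agent.LargeExtra.W2.LFour.PEnd
end

private theorem dce_127f76154860 : _root_.True := by
  try have : _root_.True := by simp only [_root_.Cfsg.Agent.LargeExtra.W2.LFour.CVInst.dl.eq_1]
  try have : _root_.True := by simp only [_root_.Cfsg.Agent.LargeExtra.W2.LFour.CVComp.Cen.U.congr_simp]
  exact _root_.True.intro
end

-- part: LargeExtra/W2/LFour/Main
section
prune_inst 0x1044205122000000000000000020400000000200000001204000000108c0008002000008000610000004100800002001000000421000002a000000400400000020000210000000010000002001180c00000000000000000000000000000000000000000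
set_option linter.all false
open scoped Cfsg.Agent.FastGrp

-- part: LargeExtra/W2/LFour/Cox
section
/-!
# S1759, `L₄(3)`: the two Coxeter relations of the presentation (helper373)

`E = ⟨z, s, i k, j l⟩` has five elements conjugate to `z` and not in `Q`, product one; `w = (1 2 3)`,
`x₁ x₂ = (4 5 3)`, `T w = (1 3)` and `τ = (2 5)` on them. The conjugates of `T w` and `τ` under
`w (x₁ x₂)⁻¹` lie in `C_G(z)`, where the statement is checked in the model of helper438. In the same way for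
`E' = ⟨z, s y, i l, j k⟩`.
-/

set_option autoImplicit false

namespace Cfsg.Agent.LargeExtra.W2.LFour.Cox

open Cfsg.Agent.LargeExtra.W2 Cfsg.Agent.LargeExtra.W2.LFour Cfsg.Agent.LargeExtra.W2.LFour.PresDef
open Cfsg.Agent.SmallExtra438.ModelA (mm mm_lt)
open Cfsg.Agent.SmallExtra438.FrameA

/-! ### facts about the model -/

/-- `m` is an involution with `m p.1 = p.2 m` for the pairs `p` -/
def cond (P : List (ℕ × ℕ)) (m : ℕ) : Bool := mm 0 m m == 0 && P.all fun p => mm 0 m p.1 == mm 0 p.2 m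

/-- `m` lies in `LA` or is conjugate to `y` -/
def concl (LA WA : List ℕ) (m : ℕ) : Bool := LA.any (fun c => c == m) || WA.any fun c => mm 0 c m == mm 0 288 c

def chk (P : List (ℕ × ℕ)) (LA WA : List ℕ) (m : ℕ) : Bool := !cond P m || concl LA WA m

theorem fA : ∀ m < 1152, chk [(592, 586), (591, 591), (581, 581)] [999, 1005, 1015, 1021]
    [129, 132, 130, 135] m = true := by (set_option synthInstance.maxSize 2000 in open scoped Cfsg.Agent.Lib.HoistLin in decide +kernel)

theorem fB : ∀ m < 1152, chk [(592, 592), (591, 581), (586, 586)] [992, 1002, 1008, 1018]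
    [128, 133, 131, 134] m = true := by (set_option synthInstance.maxSize 2000 in open scoped Cfsg.Agent.Lib.HoistLin in decide +kernel)

theorem fC : ∀ m ∈ [999, 1005, 1015, 1021], ∀ n ∈ [992, 1002, 1008, 1018], mm 0 m n = mm 0 n m := by
  decide +kernel

theorem fA' : ∀ m < 1152, chk [(880, 886), (895, 895), (889, 889)] [811, 813, 827, 829]
    [225, 228, 226, 231] m = true := by (set_option synthInstance.maxSize 2000 in open scoped Cfsg.Agent.Lib.HoistLin in decide +kernel)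

theorem fB' : ∀ m < 1152, chk [(880, 880), (895, 889), (886, 886)] [800, 806, 816, 822]
    [224, 229, 227, 230] m = true := by (set_option synthInstance.maxSize 2000 in open scoped Cfsg.Agent.Lib.HoistLin in decide +kernel)

theorem fC' : ∀ m ∈ [811, 813, 827, 829], ∀ n ∈ [800, 806, 816, 822], mm 0 m n = mm 0 n m := by
  decide +kernel

theorem of_chk {P : List (ℕ × ℕ)} {LA WA : List ℕ} {m : ℕ} (h : chk P LA WA m = true)
    (h0 : mm 0 m m = 0) (h1 : ∀ p ∈ P, mm 0 m p.1 = mm 0 p.2 m) :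
    m ∈ LA ∨ ∃ c ∈ WA, mm 0 c m = mm 0 288 c := by
  have hc : cond P m = true := by
    simp only [cond, Bool.and_eq_true, beq_iff_eq, List.all_eq_true]
    exact ⟨h0, h1⟩
  simp only [chk, hc, Bool.not_true, Bool.false_or, concl, Bool.or_eq_true, List.any_eq_true,
    beq_iff_eq] at h
  rcases h with ⟨c, hc', rfl⟩ | ⟨c, hc', h⟩
  · exact Or.inl hc'
  · exact Or.inr ⟨c, hc', h⟩

/-! ### conjugation -/

variable {G : Type*} [Group G]

/-- `g` conjugates `a` to `b` -/
def Cj (g a b : G) : Prop := g * a = b * g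

theorem Cj.mul {g h a b c : G} (h1 : Cj g b c) (h2 : Cj h a b) : Cj (g * h) a c := by
  unfold Cj at *
  rw [mul_assoc, h2, ← mul_assoc, h1, mul_assoc]

theorem Cj.inv {g a b : G} (h : Cj g a b) : Cj g⁻¹ b a := by
  unfold Cj at *
  rw [inv_mul_eq_iff_eq_mul, ← mul_assoc, h, mul_assoc, mul_inv_cancel, mul_one]

theorem Cj.map_mul {g a b a' b' : G} (h : Cj g a b) (h' : Cj g a' b') : Cj g (a * a') (b * b') := by
  unfold Cj at *
  rw [← mul_assoc, h, mul_assoc, h', mul_assoc]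

theorem Cj.of {g a b : G} (h : g * a * g⁻¹ = b) : Cj g a b := by
  unfold Cj
  rw [← h]; group

theorem Cj.conj {g t a b c e : G} (h1 : Cj g a b) (h2 : Cj t a c) (h3 : Cj g c e) :
    Cj (g * t * g⁻¹) b e := (h3.mul h2).mul h1.inv

theorem sq_conj {g t : G} (h : t * t = 1) : g * t * g⁻¹ * (g * t * g⁻¹) = 1 := by
  calc g * t * g⁻¹ * (g * t * g⁻¹) = g * (t * t) * g⁻¹ := by group
    _ = 1 := by rw [h]; group

theorem comm_of_conj {g a b : G} (h : g * a * g⁻¹ * (g * b * g⁻¹) = g * b * g⁻¹ * (g * a * g⁻¹)) :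
    a * b = b * a := by
  have h1 : g * (a * b) * g⁻¹ = g * (b * a) * g⁻¹ := by
    calc g * (a * b) * g⁻¹ = g * a * g⁻¹ * (g * b * g⁻¹) := by group
      _ = g * b * g⁻¹ * (g * a * g⁻¹) := h
      _ = g * (b * a) * g⁻¹ := by group
  simpa only [_root_.mul_left_inj, _root_.mul_right_inj] using h1

theorem sq_mul {a b : G} (ha : a * a = 1) (hb : b * b = 1) (hab : a * b = b * a) : (a * b) ^ 2 = 1 := by
  calc (a * b) ^ 2 = a * (b * a) * b := by rw [pow_two]; simp only [mul_assoc]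
    _ = (a * a) * (b * b) := by rw [← hab]; simp only [mul_assoc]
    _ = 1 := by rw [ha, hb, one_mul]

/-! ### the statement in `C_G(z)` -/

section

variable {Q : Subgroup G} {z i j k l x₁ x₂ y s : G}

local notation "F'" => F z i j k l x₁ x₂ y s

theorem comm_of_lists [Finite G] (h : Case9aa Q z i j k l x₁ x₂ y s) (ht : Tw 0 z y s) {e2 e3 e4 e5 : ℕ}
    (h2 : e2 < 1152) (h3 : e3 < 1152) (h4 : e4 < 1152) (h5 : e5 < 1152) {LA LB WA WB : List ℕ}
    (hWA : ∀ c ∈ WA, c < 1152) (hWB : ∀ c ∈ WB, c < 1152)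
    (hA : ∀ m < 1152, chk [(e2, e5), (e3, e3), (e4, e4)] LA WA m = true)
    (hB : ∀ m < 1152, chk [(e2, e2), (e3, e4), (e5, e5)] LB WB m = true)
    (hC : ∀ m ∈ LA, ∀ n ∈ LB, mm 0 m n = mm 0 n m)
    {a b : G} (ha : a * a = 1) (hb : b * b = 1) (haz : a * z = z * a) (hbz : b * z = z * b)
    (hna : ¬ IsConj y a) (hnb : ¬ IsConj y b)
    (a2 : Cj a (F' e2) (F' e5)) (a3 : Cj a (F' e3) (F' e3)) (a4 : Cj a (F' e4) (F' e4))
    (b2 : Cj b (F' e2) (F' e2)) (b3 : Cj b (F' e3) (F' e4)) (b5 : Cj b (F' e5) (F' e5)) :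
    a * b = b * a := by
  obtain ⟨m, hm, rfl⟩ := exists_code h haz
  obtain ⟨n, hn, rfl⟩ := exists_code h hbz
  have key : ∀ {u v w : ℕ}, u < 1152 → v < 1152 → w < 1152 → Cj (F' u) (F' v) (F' w) →
      mm 0 u v = mm 0 w u := by
    intro u v w hu hv hw hc
    unfold Cj at hc
    rw [← F_mul h ht hu hv, ← F_mul h ht hw hu] at hc
    exact F_inj h (mm_lt hu hv) (mm_lt hw hu) hc
  have hA' := of_chk (hA m hm) ((sq_iff h ht hm).1 ha) (by
    simp only [List.mem_cons, List.not_mem_nil, or_false]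
    rintro p (rfl | rfl | rfl)
    · exact key hm h2 h5 a2
    · exact key hm h3 h3 a3
    · exact key hm h4 h4 a4)
  have hB' := of_chk (hB n hn) ((sq_iff h ht hn).1 hb) (by
    simp only [List.mem_cons, List.not_mem_nil, or_false]
    rintro p (rfl | rfl | rfl)
    · exact key hn h2 h2 b2
    · exact key hn h3 h4 b3
    · exact key hn h5 h5 b5)
  rcases hA' with hA' | ⟨c, hc, hcm⟩
  · rcases hB' with hB' | ⟨c, hc, hcm⟩
    · exact (comm_iff h ht hm hn).2 (hC m hA' n hB')
    · have h7 := isConj_of h ht (hWB c hc) hn (by norm_num) hcm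
      rw [F_288] at h7
      exact absurd h7.symm hnb
  · have h7 := isConj_of h ht (hWA c hc) hm (by norm_num) hcm
    rw [F_288] at h7
    exact absurd h7.symm hna

end

section

variable {Q : Subgroup G} {z i j k l x₁ x₂ y s θ : G}

theorem tw (h : Fus Q z i j k l x₁ x₂ y s θ) : Tw 0 z y s := tw_zero h.y_sq h.s_sq h.s_y

/-- `y` is not conjugate to `s` -/
theorem not_conj_s [Finite G] (h : Fus Q z i j k l x₁ x₂ y s θ) : ¬ IsConj y s := by
  intro h1
  have h2 : IsConj z y := isConj_iff.2 ⟨θ, h.θz⟩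
  have h3 : IsConj (i * j * k * l * z) s := by
    refine isConj_iff.2 ⟨θ, ?_⟩
    calc θ * (i * j * k * l * z) * θ⁻¹ = (θ * (i * j * k * l) * θ⁻¹) * (θ * z * θ⁻¹) := by group
      _ = s * (y * y) := by rw [h.θd, h.θz, mul_assoc]
      _ = s := by rw [h.y_sq, mul_one]
  have h4 : IsConj (i * j * k * l) (i * j * k * l * z) := by
    have h5 := isConj_of h.toCase9aa (tw h) (c := 1) (m := 15) (n := 31) (by norm_num) (by norm_num)
      (by norm_num) (by decide +kernel)
    have h6 : F z i j k l x₁ x₂ y s 31 = i * j * k * l * z := by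
      rw [show (31 : ℕ) = mm 0 15 16 from by decide +kernel,
        F_mul h.toCase9aa (tw h) (by norm_num) (by norm_num), F_15, F_16]
    rwa [F_15, h6] at h5
  exact h.nc ((h2.trans h1).trans (h4.trans h3).symm)

/-- `y` is not conjugate to `s y` -/
theorem not_conj_sy (h : Fus Q z i j k l x₁ x₂ y s θ) : ¬ IsConj y (s * y) := by
  intro h1
  have h2 : IsConj z y := isConj_iff.2 ⟨θ, h.θz⟩
  have h3 : IsConj (i * j * k * l) (s * y) := isConj_iff.2 ⟨θ, h.θd⟩
  exact h.nc ((h2.trans h1).trans h3.symm)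

end

/-! ### the generic argument -/

section

variable {Q : Subgroup G} {z i j k l x₁ x₂ y s : G}

local notation "F'" => F z i j k l x₁ x₂ y s

theorem conj_mul_self {T w : G} (hT : T * T = 1) (hTw : T * w * T⁻¹ = w⁻¹) (hw : w ^ 3 = 1) :
    w * T * w⁻¹ = T * w ∧ T * w * (T * w) = 1 := by
  have h1 : T⁻¹ = T := inv_eq_of_mul_eq_one_left hT
  have h2 : T * w = w⁻¹ * T := by
    calc T * w = T * w * T⁻¹ * T := by group
      _ = w⁻¹ * T := by rw [hTw]
  have h3 : w * w * w = 1 := by rw [← hw]; simp only [pow_succ, pow_zero, one_mul]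
  have h4 : w * (T * w) = T := by rw [h2, mul_inv_cancel_left]
  constructor
  · calc w * T * w⁻¹ = w * (w * (T * w)) * w⁻¹ := by rw [h4]
      _ = w * w * T := by group
      _ = w⁻¹ * (w * w * w) * T := by group
      _ = T * w := by rw [h3, mul_one, h2]
  · calc T * w * (T * w) = w⁻¹ * T * (T * w) := by rw [← h2]
      _ = w⁻¹ * (T * T) * w := by group
      _ = 1 := by rw [hT]; group

theorem generic [Finite G] (h : Case9aa Q z i j k l x₁ x₂ y s) (ht : Tw 0 z y s) {e2 e3 e4 e5 : ℕ}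
    (h2 : e2 < 1152) (h3 : e3 < 1152) (h4 : e4 < 1152) (h5 : e5 < 1152) {LA LB WA WB : List ℕ}
    (hWA : ∀ c ∈ WA, c < 1152) (hWB : ∀ c ∈ WB, c < 1152)
    (hA : ∀ m < 1152, chk [(e2, e5), (e3, e3), (e4, e4)] LA WA m = true)
    (hB : ∀ m < 1152, chk [(e2, e2), (e3, e4), (e5, e5)] LB WB m = true)
    (hC : ∀ m ∈ LA, ∀ n ∈ LB, mm 0 m n = mm 0 n m) {w T ρ τ : G}
    (w1 : Cj w z (F' e2)) (w2 : Cj w (F' e2) (F' e3)) (w3 : Cj w (F' e3) z) (w4 : Cj w (F' e4) (F' e4))
    (w5 : Cj w (F' e5) (F' e5))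
    (T1 : Cj T z z) (T2 : Cj T (F' e2) (F' e3)) (T3 : Cj T (F' e3) (F' e2)) (T4 : Cj T (F' e4) (F' e4))
    (T5 : Cj T (F' e5) (F' e5))
    (r1 : Cj ρ z z) (r2 : Cj ρ (F' e2) (F' e2)) (r3 : Cj ρ (F' e3) (F' e4)) (r4 : Cj ρ (F' e4) (F' e5))
    (r5 : Cj ρ (F' e5) (F' e3))
    (u1 : Cj τ z z) (u2 : Cj τ (F' e2) (F' e5)) (u3 : Cj τ (F' e3) (F' e3)) (u4 : Cj τ (F' e4) (F' e4))
    (hT : T * T = 1) (hτ : τ * τ = 1) (hw : w ^ 3 = 1) (hTw : T * w * T⁻¹ = w⁻¹)
    (nT : ¬ IsConj y T) (nτ : ¬ IsConj y τ) : (T * w * τ) ^ 2 = 1 := by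
  obtain ⟨c1, c2⟩ := conj_mul_self hT hTw hw
  have t2 : Cj (T * w) (F' e2) (F' e2) := T3.mul w2
  have t4 : Cj (T * w) (F' e4) (F' e4) := T4.mul w4
  have t5 : Cj (T * w) (F' e5) (F' e5) := T5.mul w5
  have t1 : Cj (T * w) z (F' e3) := T2.mul w1
  have g1 : Cj (w * ρ⁻¹) z (F' e2) := w1.mul r1.inv
  have g2 : Cj (w * ρ⁻¹) (F' e2) (F' e3) := w2.mul r2.inv
  have g3 : Cj (w * ρ⁻¹) (F' e3) (F' e5) := w5.mul r5.inv
  have g5 : Cj (w * ρ⁻¹) (F' e5) (F' e4) := w4.mul r4.inv
  have g4 : Cj (w * ρ⁻¹) (F' e4) z := w3.mul r3.inv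
  refine sq_mul c2 hτ (comm_of_conj (g := w * ρ⁻¹) ?_)
  refine comm_of_lists h ht h2 h3 h4 h5 hWA hWB hA hB hC (sq_conj c2) (sq_conj hτ)
    (g4.conj t4 g4) (g4.conj u4 g4) ?_ ?_ (g1.conj t1 g3) (g2.conj t2 g2) (g5.conj t5 g5)
    (g1.conj u1 g1) (g2.conj u2 g5) (g3.conj u3 g3)
  · intro hn
    refine nT (hn.trans (IsConj.symm (IsConj.trans (isConj_iff.2 ⟨w, c1⟩) (isConj_iff.2 ⟨w * ρ⁻¹, rfl⟩))))
  · intro hn
    exact nτ (hn.trans (IsConj.symm (isConj_iff.2 ⟨w * ρ⁻¹, rfl⟩)))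

theorem codeMul (h : Case9aa Q z i j k l x₁ x₂ y s) (ht : Tw 0 z y s) {m n r : ℕ} {a b : G}
    (ha : F' m = a) (hb : F' n = b) (hm : m < 1152) (hn : n < 1152) (he : mm 0 m n = r) :
    F' r = a * b := by
  rw [← he, F_mul h ht hm hn, ha, hb]

theorem codeCj (h : Case9aa Q z i j k l x₁ x₂ y s) (ht : Tw 0 z y s) {c m n : ℕ} {g a b : G}
    (hg : F' c = g) (ha : F' m = a) (hb : F' n = b) (hc : c < 1152) (hm : m < 1152) (hn : n < 1152)
    (he : mm 0 c m = mm 0 n c) : Cj g a b := by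
  unfold Cj
  rw [← hg, ← ha, ← hb, ← F_mul h ht hc hm, ← F_mul h ht hn hc, he]

end

/-! ### the two relations -/

section

variable {Q : Subgroup G} {z i j k l x₁ x₂ y s θ w w' : G}

theorem cox [Finite G] (H : Elem2 Q z i j k l x₁ x₂ y s θ w w') :
    (i * (s * y) * i⁻¹ * w * (i * k * l * x₁ * x₂ * y * s)) ^ 2 = 1 := by
  have h := H.toCase9aa
  have ht := tw H.toFus
  have hsy : F z i j k l x₁ x₂ y s 864 = s * y :=
    codeMul h ht F_576 F_288 (by norm_num) (by norm_num) (by decide +kernel)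
  have hinv : F z i j k l x₁ x₂ y s 17 = i⁻¹ := by
    rw [← F_inv h ht (m := 1) (by norm_num) (by norm_num) (by decide +kernel), F_1]
  have hT : F z i j k l x₁ x₂ y s 873 = i * (s * y) * i⁻¹ := by
    have h1 := codeMul h ht F_1 hsy (r := mm 0 1 864) (by norm_num) (by norm_num) rfl
    exact codeMul h ht h1 hinv (mm_lt (by norm_num) (by norm_num)) (by norm_num) (by decide +kernel)
  have hρ : F z i j k l x₁ x₂ y s 128 = x₁ * x₂ :=
    codeMul h ht F_32 F_96 (by norm_num) (by norm_num) (by decide +kernel)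
  have hτ : F z i j k l x₁ x₂ y s 1005 = i * k * l * x₁ * x₂ * y * s := by
    have h1 := codeMul h ht F_1 F_4 (r := mm 0 1 4) (by norm_num) (by norm_num) rfl
    have h2 := codeMul h ht h1 F_8 (mm_lt (by norm_num) (by norm_num)) (by norm_num) rfl
    have h3 := codeMul h ht h2 F_32 (mm_lt (mm_lt (by norm_num) (by norm_num)) (by norm_num)) (by norm_num) rfl
    have h4 := codeMul h ht h3 F_96 (mm_lt (mm_lt (mm_lt (by norm_num) (by norm_num)) (by norm_num))
      (by norm_num)) (by norm_num) rfl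
    have h5 := codeMul h ht h4 F_288 (mm_lt (mm_lt (mm_lt (mm_lt (by norm_num) (by norm_num)) (by norm_num))
      (by norm_num)) (by norm_num)) (by norm_num) rfl
    exact codeMul h ht h5 F_576 (mm_lt (mm_lt (mm_lt (mm_lt (mm_lt (by norm_num) (by norm_num)) (by norm_num))
      (by norm_num)) (by norm_num)) (by norm_num)) (by norm_num) (by decide +kernel)
  have w15 : Cj w (F z i j k l x₁ x₂ y s 15) (F z i j k l x₁ x₂ y s 15) := by
    rw [F_15]; exact H.w_d
  have w576 : Cj w (F z i j k l x₁ x₂ y s 576) (F z i j k l x₁ x₂ y s 31) := by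
    rw [F_576, codeMul h ht F_15 F_16 (by norm_num) (by norm_num) (r := 31) (by decide +kernel)]
    exact Cj.of H.w_s
  have w31 : Cj w (F z i j k l x₁ x₂ y s 31) (F z i j k l x₁ x₂ y s 607) := by
    have h1 := codeMul h ht F_15 F_576 (r := mm 0 15 576) (by norm_num) (by norm_num) rfl
    rw [codeMul h ht F_15 F_16 (by norm_num) (by norm_num) (r := 31) (by decide +kernel),
      codeMul h ht h1 F_16 (mm_lt (by norm_num) (by norm_num)) (by norm_num) (r := 607) (by decide +kernel)]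
    exact Cj.of H.w_dz
  have w581 : Cj w (F z i j k l x₁ x₂ y s 581) (F z i j k l x₁ x₂ y s 581) := by
    rw [codeMul h ht F_576 F_5 (by norm_num) (by norm_num) (r := 581) (by decide +kernel)]
    exact H.w_z1
  have w16 : Cj w z (F z i j k l x₁ x₂ y s 592) := by
    have h1 := w15.map_mul w31
    rwa [← codeMul h ht rfl rfl (by norm_num) (by norm_num) (r := 16) (by decide +kernel),
      ← codeMul h ht rfl rfl (by norm_num) (by norm_num) (r := 592) (by decide +kernel), F_16] at h1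
  have w592 : Cj w (F z i j k l x₁ x₂ y s 592) (F z i j k l x₁ x₂ y s 591) := by
    have h1 := w576.map_mul w16
    rwa [← codeMul h ht rfl F_16 (by norm_num) (by norm_num) (r := 592) (by decide +kernel),
      ← codeMul h ht rfl rfl (by norm_num) (by norm_num) (r := 591) (by decide +kernel)] at h1
  have w591 : Cj w (F z i j k l x₁ x₂ y s 591) z := by
    have h1 := w576.map_mul w15
    rwa [← codeMul h ht rfl rfl (by norm_num) (by norm_num) (r := 591) (by decide +kernel),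
      ← codeMul h ht rfl rfl (by norm_num) (by norm_num) (r := 16) (by decide +kernel), F_16] at h1
  have w586 : Cj w (F z i j k l x₁ x₂ y s 586) (F z i j k l x₁ x₂ y s 586) := by
    have h1 := w581.map_mul w15
    rwa [← codeMul h ht rfl rfl (by norm_num) (by norm_num) (r := 586) (by decide +kernel)] at h1
  refine generic h ht (e2 := 592) (e3 := 591) (e4 := 581) (e5 := 586) (by norm_num) (by norm_num)
    (by norm_num) (by norm_num) (WA := [129, 132, 130, 135]) (WB := [128, 133, 131, 134]) (by decide)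
    (by decide) fA fB fC (ρ := x₁ * x₂) w16 w592 w591 w581 w586
    (codeCj h ht hT F_16 F_16 (by norm_num) (by norm_num) (by norm_num) (by decide +kernel))
    (codeCj h ht hT rfl rfl (by norm_num) (by norm_num) (by norm_num) (by decide +kernel))
    (codeCj h ht hT rfl rfl (by norm_num) (by norm_num) (by norm_num) (by decide +kernel))
    (codeCj h ht hT rfl rfl (by norm_num) (by norm_num) (by norm_num) (by decide +kernel))
    (codeCj h ht hT rfl rfl (by norm_num) (by norm_num) (by norm_num) (by decide +kernel))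
    (codeCj h ht hρ F_16 F_16 (by norm_num) (by norm_num) (by norm_num) (by decide +kernel))
    (codeCj h ht hρ rfl rfl (by norm_num) (by norm_num) (by norm_num) (by decide +kernel))
    (codeCj h ht hρ rfl rfl (by norm_num) (by norm_num) (by norm_num) (by decide +kernel))
    (codeCj h ht hρ rfl rfl (by norm_num) (by norm_num) (by norm_num) (by decide +kernel))
    (codeCj h ht hρ rfl rfl (by norm_num) (by norm_num) (by norm_num) (by decide +kernel))
    (codeCj h ht hτ F_16 F_16 (by norm_num) (by norm_num) (by norm_num) (by decide +kernel))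
    (codeCj h ht hτ rfl rfl (by norm_num) (by norm_num) (by norm_num) (by decide +kernel))
    (codeCj h ht hτ rfl rfl (by norm_num) (by norm_num) (by norm_num) (by decide +kernel))
    (codeCj h ht hτ rfl rfl (by norm_num) (by norm_num) (by norm_num) (by decide +kernel))
    ?_ ?_ H.w3 H.w_inv ?_ ?_
  · rw [← hT]; exact (sq_iff h ht (by norm_num)).2 (by decide +kernel)
  · rw [← hτ]; exact (sq_iff h ht (by norm_num)).2 (by decide +kernel)
  · intro hn
    refine not_conj_sy H.toFus (hn.trans (IsConj.symm (isConj_iff.2 ⟨i, rfl⟩)))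
  · intro hn
    have h1 := isConj_of h ht (c := 67) (m := 1005) (n := 864) (by norm_num) (by norm_num) (by norm_num)
      (by decide +kernel)
    rw [hτ, hsy] at h1
    exact not_conj_sy H.toFus (hn.trans h1)

theorem cox' [Finite G] (H : Elem2 Q z i j k l x₁ x₂ y s θ w w') :
    (i⁻¹ * s * i * w' * (i * k * l * x₁ * x₂⁻¹ * s * z)) ^ 2 = 1 := by
  have h := H.toCase9aa
  have ht := tw H.toFus
  have hsy : F z i j k l x₁ x₂ y s 864 = s * y :=
    codeMul h ht F_576 F_288 (by norm_num) (by norm_num) (by decide +kernel)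
  have hinv : F z i j k l x₁ x₂ y s 17 = i⁻¹ := by
    rw [← F_inv h ht (m := 1) (by norm_num) (by norm_num) (by decide +kernel), F_1]
  have hinv2 : F z i j k l x₁ x₂ y s 192 = x₂⁻¹ := by
    rw [← F_inv h ht (m := 96) (by norm_num) (by norm_num) (by decide +kernel), F_96]
  have hT : F z i j k l x₁ x₂ y s 597 = i⁻¹ * s * i := by
    have h1 := codeMul h ht hinv F_576 (r := mm 0 17 576) (by norm_num) (by norm_num) rfl
    exact codeMul h ht h1 F_1 (mm_lt (by norm_num) (by norm_num)) (by norm_num) (by decide +kernel)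
  have hρ : F z i j k l x₁ x₂ y s 224 = x₁ * x₂⁻¹ :=
    codeMul h ht F_32 hinv2 (by norm_num) (by norm_num) (by decide +kernel)
  have hτ : F z i j k l x₁ x₂ y s 829 = i * k * l * x₁ * x₂⁻¹ * s * z := by
    have h1 := codeMul h ht F_1 F_4 (r := mm 0 1 4) (by norm_num) (by norm_num) rfl
    have h2 := codeMul h ht h1 F_8 (mm_lt (by norm_num) (by norm_num)) (by norm_num) rfl
    have h3 := codeMul h ht h2 F_32 (mm_lt (mm_lt (by norm_num) (by norm_num)) (by norm_num)) (by norm_num) rfl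
    have h4 := codeMul h ht h3 hinv2 (mm_lt (mm_lt (mm_lt (by norm_num) (by norm_num)) (by norm_num))
      (by norm_num)) (by norm_num) rfl
    have h5 := codeMul h ht h4 F_576 (mm_lt (mm_lt (mm_lt (mm_lt (by norm_num) (by norm_num)) (by norm_num))
      (by norm_num)) (by norm_num)) (by norm_num) rfl
    exact codeMul h ht h5 F_16 (mm_lt (mm_lt (mm_lt (mm_lt (mm_lt (by norm_num) (by norm_num)) (by norm_num))
      (by norm_num)) (by norm_num)) (by norm_num)) (by norm_num) (by decide +kernel)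
  have hd1 : F z i j k l x₁ x₂ y s 879 = i * j * k * l * s * y := by
    have h1 := codeMul h ht F_15 F_576 (r := mm 0 15 576) (by norm_num) (by norm_num) rfl
    exact codeMul h ht h1 F_288 (mm_lt (by norm_num) (by norm_num)) (by norm_num) (by decide +kernel)
  have w31 : Cj w' (F z i j k l x₁ x₂ y s 31) (F z i j k l x₁ x₂ y s 31) := by
    rw [codeMul h ht F_15 F_16 (by norm_num) (by norm_num) (r := 31) (by decide +kernel)]
    exact H.w'_dz
  have w15 : Cj w' (F z i j k l x₁ x₂ y s 15) (F z i j k l x₁ x₂ y s 879) := by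
    rw [F_15, hd1]; exact Cj.of H.w'_d
  have w864 : Cj w' (F z i j k l x₁ x₂ y s 864) (F z i j k l x₁ x₂ y s 15) := by
    rw [F_15, hsy]; exact Cj.of H.w'_sy
  have w886 : Cj w' (F z i j k l x₁ x₂ y s 886) (F z i j k l x₁ x₂ y s 886) := by
    have h1 := codeMul h ht F_1 F_8 (r := mm 0 1 8) (by norm_num) (by norm_num) rfl
    have h2 := codeMul h ht h1 F_15 (mm_lt (by norm_num) (by norm_num)) (by norm_num) rfl
    have h3 := codeMul h ht h2 F_576 (mm_lt (mm_lt (by norm_num) (by norm_num)) (by norm_num)) (by norm_num) rfl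
    rw [codeMul h ht h3 F_288 (mm_lt (mm_lt (mm_lt (by norm_num) (by norm_num)) (by norm_num))
      (by norm_num)) (by norm_num) (r := 886) (by decide +kernel)]
    exact H.w'_z2
  have w16 : Cj w' z (F z i j k l x₁ x₂ y s 880) := by
    have h1 := w15.map_mul w31
    rwa [← codeMul h ht rfl rfl (by norm_num) (by norm_num) (r := 16) (by decide +kernel),
      ← codeMul h ht rfl rfl (by norm_num) (by norm_num) (r := 880) (by decide +kernel), F_16] at h1
  have w880 : Cj w' (F z i j k l x₁ x₂ y s 880) (F z i j k l x₁ x₂ y s 895) := by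
    have h1 := w864.map_mul w16
    rwa [← codeMul h ht rfl F_16 (by norm_num) (by norm_num) (r := 880) (by decide +kernel),
      ← codeMul h ht rfl rfl (by norm_num) (by norm_num) (r := 895) (by decide +kernel)] at h1
  have w895 : Cj w' (F z i j k l x₁ x₂ y s 895) z := by
    have h1 := w880.map_mul w15
    rwa [← codeMul h ht rfl rfl (by norm_num) (by norm_num) (r := 895) (by decide +kernel),
      ← codeMul h ht rfl rfl (by norm_num) (by norm_num) (r := 16) (by decide +kernel), F_16] at h1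
  have w889 : Cj w' (F z i j k l x₁ x₂ y s 889) (F z i j k l x₁ x₂ y s 889) := by
    have h1 := w886.map_mul w31
    rwa [← codeMul h ht rfl rfl (by norm_num) (by norm_num) (r := 889) (by decide +kernel)] at h1
  refine generic h ht (e2 := 880) (e3 := 895) (e4 := 889) (e5 := 886) (by norm_num) (by norm_num)
    (by norm_num) (by norm_num) (WA := [225, 228, 226, 231]) (WB := [224, 229, 227, 230]) (by decide)
    (by decide) fA' fB' fC' (ρ := x₁ * x₂⁻¹) w16 w880 w895 w889 w886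
    (codeCj h ht hT F_16 F_16 (by norm_num) (by norm_num) (by norm_num) (by decide +kernel))
    (codeCj h ht hT rfl rfl (by norm_num) (by norm_num) (by norm_num) (by decide +kernel))
    (codeCj h ht hT rfl rfl (by norm_num) (by norm_num) (by norm_num) (by decide +kernel))
    (codeCj h ht hT rfl rfl (by norm_num) (by norm_num) (by norm_num) (by decide +kernel))
    (codeCj h ht hT rfl rfl (by norm_num) (by norm_num) (by norm_num) (by decide +kernel))
    (codeCj h ht hρ F_16 F_16 (by norm_num) (by norm_num) (by norm_num) (by decide +kernel))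
    (codeCj h ht hρ rfl rfl (by norm_num) (by norm_num) (by norm_num) (by decide +kernel))
    (codeCj h ht hρ rfl rfl (by norm_num) (by norm_num) (by norm_num) (by decide +kernel))
    (codeCj h ht hρ rfl rfl (by norm_num) (by norm_num) (by norm_num) (by decide +kernel))
    (codeCj h ht hρ rfl rfl (by norm_num) (by norm_num) (by norm_num) (by decide +kernel))
    (codeCj h ht hτ F_16 F_16 (by norm_num) (by norm_num) (by norm_num) (by decide +kernel))
    (codeCj h ht hτ rfl rfl (by norm_num) (by norm_num) (by norm_num) (by decide +kernel))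
    (codeCj h ht hτ rfl rfl (by norm_num) (by norm_num) (by norm_num) (by decide +kernel))
    (codeCj h ht hτ rfl rfl (by norm_num) (by norm_num) (by norm_num) (by decide +kernel))
    ?_ ?_ H.w'3 H.w'_inv ?_ ?_
  · rw [← hT]; exact (sq_iff h ht (by norm_num)).2 (by decide +kernel)
  · rw [← hτ]; exact (sq_iff h ht (by norm_num)).2 (by decide +kernel)
  · intro hn
    have h1 : IsConj (i⁻¹ * s * i) s := isConj_iff.2 ⟨i, by group⟩
    exact not_conj_s H.toFus (hn.trans h1)
  · intro hn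
    have h1 := isConj_of h ht (c := 67) (m := 829) (n := 576) (by norm_num) (by norm_num) (by norm_num)
      (by decide +kernel)
    rw [hτ, F_576] at h1
    exact not_conj_s H.toFus (hn.trans h1)

end

end Cfsg.Agent.LargeExtra.W2.LFour.Cox
end

-- part: LargeExtra/W2/LFour/FusionB
section
/-!
# S1759, case `9aa`, case I: fusion, part B: `y` is conjugate to `z` (helper221)
-/

set_option autoImplicit false

namespace Cfsg.Agent.LargeExtra.W2.LFour.Fusion

open Cfsg.Agent.LargeExtra.W2 Cfsg.Agent.SmallExtra438.ModelA Cfsg.Agent.SmallExtra438.FrameA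
open Cfsg.Agent.SmallExtra438.ClassA Cfsg.Agent.LargeExtra.W2.LFour.TwistK
open Cfsg.Agent.SmallExtra438.TwistA (cmul swap)

/-! ### sign changes -/

section

variable {G : Type*} [Group G] {Q : Subgroup G} {z i j k l x₁ x₂ y s : G}

theorem mem_of_mul_z (zz : z * z = 1) {K : Subgroup G} (hz : z ∈ K) {g : G} (hg : g * z ∈ K) : g ∈ K := by
  have : g = (g * z) * z := by rw [mul_assoc, zz, mul_one]
  rw [this]
  exact K.mul_mem hg hz

/-- replace `s` by `s z` -/
theorem sign_s (h : Case9aa Q z i j k l x₁ x₂ y s) : Case9aa Q z i j k l x₁ x₂ y (s * z) := by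
  have zz := h.large.z_sq
  have hmem : ∀ g ∈ ({i, j, k, l} : Set G), g ∈ Q := fun g hg => h.gen ▸ Subgroup.subset_closure hg
  have hi := h.large.comm_z i (hmem _ (by simp))
  have hj := h.large.comm_z j (hmem _ (by simp))
  have hk := h.large.comm_z k (hmem _ (by simp))
  have hl := h.large.comm_z l (hmem _ (by simp))
  have h1 : x₁ * z = z * x₁ := (z1 h).eq
  have h2 : x₂ * z = z * x₂ := (z2 h).eq
  have hy : y * z = z * y := (zy h).eq
  have hs : s * z = z * s := (zs h).eq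
  have key : ∀ b : G, b * z = z * b → (s * z) * b * (s * z)⁻¹ = s * b * s⁻¹ := by
    intro b hb
    calc (s * z) * b * (s * z)⁻¹ = s * (z * b) * z⁻¹ * s⁻¹ := by group
      _ = s * (b * z) * z⁻¹ * s⁻¹ := by rw [hb]
      _ = _ := by group
  refine { h with
    s_act := ⟨?_, ?_, ?_, ?_, ?_⟩
    s1 := ?_
    s2 := ?_
    ss := ?_
    ys := ?_
    cent := ?_ }
  · rw [key z rfl]; exact h.s_act.z
  · rw [key i hi]; exact h.s_act.i
  · rw [key j hj]; exact h.s_act.j
  · rw [key k hk]; exact h.s_act.k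
  · rw [key l hl]; exact h.s_act.l
  · rw [key x₁ h1]; exact h.s1
  · rw [key x₂ h2]; exact h.s2
  · have e : s * z * (s * z) = s * s := by
      calc s * z * (s * z) = s * (z * s) * z := by group
        _ = (s * s) * (z * z) := by rw [← hs]; group
        _ = s * s := by rw [zz, mul_one]
    rw [e]; exact h.ss
  · rw [key y hy]; exact h.ys
  · have hzc : z ∈ Subgroup.closure ({i, j, k, l, x₁, x₂, y, s * z} : Set G) := by
      rw [← h.ii]
      exact Subgroup.mul_mem _ (Subgroup.subset_closure (by simp)) (Subgroup.subset_closure (by simp))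
    have hzc' : z ∈ Subgroup.closure ({i, j, k, l, x₁, x₂, y, s} : Set G) := by
      rw [← h.ii]
      exact Subgroup.mul_mem _ (Subgroup.subset_closure (by simp)) (Subgroup.subset_closure (by simp))
    rw [h.cent]
    apply le_antisymm
    · rw [Subgroup.closure_le]
      rintro g hg
      simp only [Set.mem_insert_iff, Set.mem_singleton_iff] at hg
      rcases hg with rfl | rfl | rfl | rfl | rfl | rfl | rfl | rfl
      · exact Subgroup.subset_closure (by simp)
      · exact Subgroup.subset_closure (by simp)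
      · exact Subgroup.subset_closure (by simp)
      · exact Subgroup.subset_closure (by simp)
      · exact Subgroup.subset_closure (by simp)
      · exact Subgroup.subset_closure (by simp)
      · exact Subgroup.subset_closure (by simp)
      · exact mem_of_mul_z zz hzc (Subgroup.subset_closure (by simp only [_root_.Set.mem_insert_iff, _root_.Set.mem_singleton_iff, _root_.or_true]))
    · rw [Subgroup.closure_le]
      rintro g hg
      simp only [Set.mem_insert_iff, Set.mem_singleton_iff] at hg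
      rcases hg with rfl | rfl | rfl | rfl | rfl | rfl | rfl | rfl
      · exact Subgroup.subset_closure (by simp)
      · exact Subgroup.subset_closure (by simp)
      · exact Subgroup.subset_closure (by simp)
      · exact Subgroup.subset_closure (by simp)
      · exact Subgroup.subset_closure (by simp)
      · exact Subgroup.subset_closure (by simp)
      · exact Subgroup.subset_closure (by simp)
      · exact Subgroup.mul_mem _ (Subgroup.subset_closure (by simp)) hzc'

/-- replace `y` by `y z` -/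
theorem sign_y (h : Case9aa Q z i j k l x₁ x₂ y s) : Case9aa Q z i j k l x₁ x₂ (y * z) s := by
  have zz := h.large.z_sq
  have hmem : ∀ g ∈ ({i, j, k, l} : Set G), g ∈ Q := fun g hg => h.gen ▸ Subgroup.subset_closure hg
  have hi := h.large.comm_z i (hmem _ (by simp))
  have hj := h.large.comm_z j (hmem _ (by simp))
  have hk := h.large.comm_z k (hmem _ (by simp))
  have hl := h.large.comm_z l (hmem _ (by simp))
  have h1 : x₁ * z = z * x₁ := (z1 h).eq
  have h2 : x₂ * z = z * x₂ := (z2 h).eq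
  have hy : y * z = z * y := (zy h).eq
  have hs : s * z = z * s := (zs h).eq
  have key : ∀ b : G, b * z = z * b → (y * z) * b * (y * z)⁻¹ = y * b * y⁻¹ := by
    intro b hb
    calc (y * z) * b * (y * z)⁻¹ = y * (z * b) * z⁻¹ * y⁻¹ := by group
      _ = y * (b * z) * z⁻¹ * y⁻¹ := by rw [hb]
      _ = _ := by group
  refine { h with
    y_act := ⟨?_, ?_, ?_, ?_, ?_⟩
    y1 := ?_
    y2 := ?_
    yy := ?_
    ys := ?_
    cent := ?_ }
  · rw [key z rfl]; exact h.y_act.z
  · rw [key i hi]; exact h.y_act.i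
  · rw [key j hj]; exact h.y_act.j
  · rw [key k hk]; exact h.y_act.k
  · rw [key l hl]; exact h.y_act.l
  · rw [key x₁ h1]; exact h.y1
  · rw [key x₂ h2]; exact h.y2
  · have e : y * z * (y * z) = y * y := by
      calc y * z * (y * z) = y * (z * y) * z := by group
        _ = (y * y) * (z * z) := by rw [← hy]; group
        _ = y * y := by rw [zz, mul_one]
    rw [e]; exact h.yy
  · have e : s * (y * z) * s⁻¹ = (s * y * s⁻¹) * z := by
      calc s * (y * z) * s⁻¹ = s * y * (z * s⁻¹) := by group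
        _ = s * y * (s⁻¹ * z) := by
          have : z * s⁻¹ = s⁻¹ * z := by
            calc z * s⁻¹ = s⁻¹ * (s * z) * s⁻¹ := by group
              _ = s⁻¹ * (z * s) * s⁻¹ := by rw [hs]
              _ = _ := by group
          rw [this]
        _ = _ := by group
    rw [e]
    rcases h.ys with h3 | h3
    · left; rw [h3]
    · right; rw [h3]
  · have hzc : z ∈ Subgroup.closure ({i, j, k, l, x₁, x₂, y * z, s} : Set G) := by
      rw [← h.ii]
      exact Subgroup.mul_mem _ (Subgroup.subset_closure (by simp only [_root_.Set.mem_insert_iff, _root_.Set.mem_singleton_iff, _root_.true_or])) (Subgroup.subset_closure (by simp only [_root_.Set.mem_insert_iff, _root_.Set.mem_singleton_iff, _root_.true_or]))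
    have hzc' : z ∈ Subgroup.closure ({i, j, k, l, x₁, x₂, y, s} : Set G) := by
      rw [← h.ii]
      exact Subgroup.mul_mem _ (Subgroup.subset_closure (by simp)) (Subgroup.subset_closure (by simp))
    rw [h.cent]
    apply le_antisymm
    · rw [Subgroup.closure_le]
      rintro g hg
      simp only [Set.mem_insert_iff, Set.mem_singleton_iff] at hg
      rcases hg with rfl | rfl | rfl | rfl | rfl | rfl | rfl | rfl
      · exact Subgroup.subset_closure (by simp only [_root_.Set.mem_insert_iff, _root_.Set.mem_singleton_iff, _root_.true_or])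
      · exact Subgroup.subset_closure (by simp only [_root_.Set.mem_insert_iff, _root_.Set.mem_singleton_iff, _root_.true_or, _root_.or_true])
      · exact Subgroup.subset_closure (by simp only [_root_.Set.mem_insert_iff, _root_.Set.mem_singleton_iff, _root_.true_or, _root_.or_true])
      · exact Subgroup.subset_closure (by simp only [_root_.Set.mem_insert_iff, _root_.Set.mem_singleton_iff, _root_.true_or, _root_.or_true])
      · exact Subgroup.subset_closure (by simp only [_root_.Set.mem_insert_iff, _root_.Set.mem_singleton_iff, _root_.true_or, _root_.or_true])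
      · exact Subgroup.subset_closure (by simp only [_root_.Set.mem_insert_iff, _root_.Set.mem_singleton_iff, _root_.true_or, _root_.or_true])
      · exact mem_of_mul_z zz hzc (Subgroup.subset_closure (by simp only [_root_.Set.mem_insert_iff, _root_.Set.mem_singleton_iff, _root_.true_or, _root_.or_true]))
      · exact Subgroup.subset_closure (by simp only [_root_.Set.mem_insert_iff, _root_.Set.mem_singleton_iff, _root_.or_true])
    · rw [Subgroup.closure_le]
      rintro g hg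
      simp only [Set.mem_insert_iff, Set.mem_singleton_iff] at hg
      rcases hg with rfl | rfl | rfl | rfl | rfl | rfl | rfl | rfl
      · exact Subgroup.subset_closure (by simp)
      · exact Subgroup.subset_closure (by simp)
      · exact Subgroup.subset_closure (by simp)
      · exact Subgroup.subset_closure (by simp)
      · exact Subgroup.subset_closure (by simp)
      · exact Subgroup.subset_closure (by simp)
      · exact Subgroup.mul_mem _ (Subgroup.subset_closure (by simp)) hzc'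
      · exact Subgroup.subset_closure (by simp)

end

/-! ### `s ~ z`, `y ≁ z` is impossible -/

theorem dec_s : ∀ m < 1152, (mm 0 m m = 0 ∧ mm 0 m 576 = mm 0 576 m ∧ m ≠ 0 ∧ m ≠ 16 ∧ m ≠ 576) →
    rp m ∈ ([16, 288, 576, 592] : List ℕ) ∨ rp (mm 0 m 576) ∈ ([16, 288, 576, 592] : List ℕ) := by (set_option synthInstance.maxSize 2000 in open scoped Cfsg.Agent.Lib.HoistLin in decide +kernel)

theorem dec_N : ∀ m < 1152, (mm 0 m m = 0 ∧ fy (m / 32) = 0 ∧ m ≠ 0) →
    rp m ∈ ([16, 5, 576, 592] : List ℕ) := by (set_option synthInstance.maxSize 2000 in open scoped Cfsg.Agent.Lib.HoistLin in decide +kernel)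

section

variable {G : Type*} [Group G] [Finite G] {Q : Subgroup G} {z i j k l x₁ x₂ y s : G}

section

variable (h : Case9aa Q z i j k l x₁ x₂ y s) (ht : Tw 0 z y s)
    (hw : ∀ g, g * z * g⁻¹ ∈ Q → g * z * g⁻¹ = z)
include h ht hw

/-- An involution of `C_G(z)` conjugate to `z`. -/
theorem exists_rep {g : G} (hg : (g * z * g⁻¹) * z = z * (g * z * g⁻¹)) (hne : g * z * g⁻¹ ≠ z) :
    ∃ r ∈ ([288, 576, 592, 864, 880] : List ℕ), ∃ c, c * z = z * c ∧
      c * (g * z * g⁻¹) * c⁻¹ = F z i j k l x₁ x₂ y s r := by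
  have hzz := h.large.z_sq
  have hxx : (g * z * g⁻¹) * (g * z * g⁻¹) = 1 := by
    calc (g * z * g⁻¹) * (g * z * g⁻¹) = g * (z * z) * g⁻¹ := by group
      _ = 1 := by rw [hzz]; group
  have hx1 : g * z * g⁻¹ ≠ 1 := by
    intro he
    apply h.large.z_ne
    calc z = g⁻¹ * (g * z * g⁻¹) * g := by group
      _ = 1 := by rw [he]; group
  obtain ⟨r, hr, c, hc, hc2⟩ := class0 h ht hg hxx hx1
  refine ⟨r, ?_, c, hc, hc2⟩
  have hr' : r = 16 ∨ r = 5 ∨ r ∈ ([288, 576, 592, 864, 880] : List ℕ) := by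
    simp only [List.mem_cons, List.not_mem_nil, or_false] at hr ⊢
    tauto
  rcases hr' with rfl | rfl | hr'
  · exfalso
    apply hne
    rw [F_16] at hc2
    calc g * z * g⁻¹ = c⁻¹ * (c * (g * z * g⁻¹) * c⁻¹) * c := by group
      _ = c⁻¹ * (z * c) := by rw [hc2, mul_assoc]
      _ = z := by rw [← hc]; group
  · exfalso
    apply not_conj_5 h hw
    rw [← hc2]
    exact isConj_iff.2 ⟨c * g, by group⟩
  · exact hr'

/-- Two elements of `C_G(z)` with an element `h'` moving `(z, F r)` to `(s, z)`. -/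
theorem s_case (hs : IsConj z s) (hnz : ¬ IsConj z y) : IsConj (i * k) (z * s) := by
  have hnu := not_conj_u h ht hw hnz
  have hzz := h.large.z_sq
  obtain ⟨g, hg⟩ := isConj_iff.1 hs
  have hsz : s * z = z * s := (zs h).eq
  have hsQ : s ≠ z := by
    intro he
    have h3 : F z i j k l x₁ x₂ y s 576 = F z i j k l x₁ x₂ y s 16 := by rw [F_576, F_16, he]
    have := F_inj h (by norm_num) (by norm_num) h3
    omega
  have e0 : g⁻¹ * z * g⁻¹⁻¹ ≠ z := by
    intro he
    apply hsQ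
    rw [← hg]
    calc g * z * g⁻¹ = g * (g⁻¹ * z * g⁻¹⁻¹) * g⁻¹ := by rw [he]
      _ = z := by group
  have e1 : (g⁻¹ * z * g⁻¹⁻¹) * z = z * (g⁻¹ * z * g⁻¹⁻¹) := by
    rw [← hg] at hsz
    calc (g⁻¹ * z * g⁻¹⁻¹) * z = g⁻¹ * (z * (g * z * g⁻¹)) * g := by group
      _ = g⁻¹ * ((g * z * g⁻¹) * z) * g := by rw [hsz]
      _ = _ := by group
  obtain ⟨r, hr, c, hc, hc2⟩ := exists_rep h ht hw e1 e0
  have hr288 : r ≠ 288 := by
    rintro rfl
    rw [F_288] at hc2
    exact hnz (isConj_iff.2 ⟨c * g⁻¹, by rw [← hc2]; group⟩)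
  -- an involution `q ≠ z` of `C_Q(F r)`
  obtain ⟨q, hq32, hqq, hq0, hq16, hqr, hr1⟩ : ∃ q < 32, mm 0 q q = 0 ∧ q ≠ 0 ∧ q ≠ 16 ∧ mm 0 q r = mm 0 r q ∧
      r < 1152 := by
    simp only [List.mem_cons, List.not_mem_nil, or_false] at hr
    rcases hr with rfl | rfl | rfl | rfl | rfl
    · exact absurd rfl hr288
    · exact ⟨5, by norm_num, by decide +kernel, by norm_num, by norm_num, by decide +kernel, by norm_num⟩
    · exact ⟨5, by norm_num, by decide +kernel, by norm_num, by norm_num, by decide +kernel, by norm_num⟩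
    · exact ⟨6, by norm_num, by decide +kernel, by norm_num, by norm_num, by decide +kernel, by norm_num⟩
    · exact ⟨6, by norm_num, by decide +kernel, by norm_num, by norm_num, by decide +kernel, by norm_num⟩
  -- `b = g c⁻¹` maps `z` to `s` and `F r` to `z`
  set b := g * c⁻¹ with hb
  have hbz : b * z * b⁻¹ = s := by
    have : c⁻¹ * z * c = z := by rw [mul_assoc, ← hc]; group
    calc b * z * b⁻¹ = g * (c⁻¹ * z * c) * g⁻¹ := by rw [hb]; group
      _ = s := by rw [this, hg]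
  have hbr : b * F z i j k l x₁ x₂ y s r * b⁻¹ = z := by
    rw [← hc2, hb]; group
  have hconj : ∀ w < 32, mm 0 w w = 0 → w ≠ 0 → w ≠ 16 → IsConj (i * k) (F z i j k l x₁ x₂ y s w) := by
    intro w hw1 hw2 hw3 hw4
    have h1 := isConj_rp h ht (by omega) hw2 hw3
    have h5 : ∀ w < 32, (mm 0 w w = 0 ∧ w ≠ 0 ∧ w ≠ 16) → rp w = 5 := by decide +kernel
    rw [h5 w hw1 ⟨hw2, hw3, hw4⟩, F_5] at h1
    exact h1.1.symm
  have hqz : mm 0 q 16 < 32 ∧ mm 0 (mm 0 q 16) (mm 0 q 16) = 0 ∧ mm 0 q 16 ≠ 0 ∧ mm 0 q 16 ≠ 16 := by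
    have : ∀ q < 32, (mm 0 q q = 0 ∧ q ≠ 0 ∧ q ≠ 16) →
        mm 0 q 16 < 32 ∧ mm 0 (mm 0 q 16) (mm 0 q 16) = 0 ∧ mm 0 q 16 ≠ 0 ∧ mm 0 q 16 ≠ 16 := by decide +kernel
    exact this q hq32 ⟨hqq, hq0, hq16⟩
  -- `a = b q b⁻¹` is an involution of `C_G(z)` commuting with `s`
  have haz : (b * F z i j k l x₁ x₂ y s q * b⁻¹) * z = z * (b * F z i j k l x₁ x₂ y s q * b⁻¹) := by
    have h1 := (comm_iff h ht (by omega) hr1).2 hqr
    calc (b * F z i j k l x₁ x₂ y s q * b⁻¹) * z
        = (b * F z i j k l x₁ x₂ y s q * b⁻¹) * (b * F z i j k l x₁ x₂ y s r * b⁻¹) := by rw [hbr]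
      _ = b * (F z i j k l x₁ x₂ y s q * F z i j k l x₁ x₂ y s r) * b⁻¹ := by group
      _ = b * (F z i j k l x₁ x₂ y s r * F z i j k l x₁ x₂ y s q) * b⁻¹ := by rw [h1]
      _ = (b * F z i j k l x₁ x₂ y s r * b⁻¹) * (b * F z i j k l x₁ x₂ y s q * b⁻¹) := by group
      _ = _ := by rw [hbr]
  have has : (b * F z i j k l x₁ x₂ y s q * b⁻¹) * s = s * (b * F z i j k l x₁ x₂ y s q * b⁻¹) := by
    have h1 := F_comm h q
    calc (b * F z i j k l x₁ x₂ y s q * b⁻¹) * s
        = (b * F z i j k l x₁ x₂ y s q * b⁻¹) * (b * z * b⁻¹) := by rw [hbz]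
      _ = b * (F z i j k l x₁ x₂ y s q * z) * b⁻¹ := by group
      _ = b * (z * F z i j k l x₁ x₂ y s q) * b⁻¹ := by rw [h1]
      _ = (b * z * b⁻¹) * (b * F z i j k l x₁ x₂ y s q * b⁻¹) := by group
      _ = _ := by rw [hbz]
  have hua : IsConj (i * k) (b * F z i j k l x₁ x₂ y s q * b⁻¹) :=
    (hconj q hq32 hqq hq0 hq16).trans (isConj_iff.2 ⟨b, rfl⟩)
  have huas : IsConj (i * k) (b * F z i j k l x₁ x₂ y s q * b⁻¹ * s) := by
    have h1 := hconj _ hqz.1 hqz.2.1 hqz.2.2.1 hqz.2.2.2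
    refine h1.trans (isConj_iff.2 ⟨b, ?_⟩)
    rw [F_mul h ht (by omega) (by norm_num), F_16, ← hbz]
    group
  have hnotz : ∀ x, IsConj (i * k) x → ¬ IsConj z x := by
    intro x hx hx2
    apply not_conj_5 h hw
    rw [F_5]
    exact hx2.trans hx.symm
  obtain ⟨m, hm, hma⟩ := exists_code h haz
  rw [← hma] at haz has hua huas
  clear hma
  have hmm : mm 0 m m = 0 := by
    rw [← sq_iff h ht hm]
    obtain ⟨c', hc'⟩ := isConj_iff.1 hua
    have h1 : (i * k) * (i * k) = 1 := by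
      rw [← F_5 (z := z) (i := i) (j := j) (k := k) (l := l) (x₁ := x₁) (x₂ := x₂) (y := y) (s := s),
        sq_iff h ht (by norm_num)]
      decide +kernel
    rw [← hc']
    calc c' * (i * k) * c'⁻¹ * (c' * (i * k) * c'⁻¹) = c' * ((i * k) * (i * k)) * c'⁻¹ := by group
      _ = 1 := by rw [h1]; group
  have hm0 : m ≠ 0 := by
    rintro rfl
    rw [F_0] at huas
    rw [one_mul] at huas
    exact hnotz _ huas hs
  have hm16 : m ≠ 16 := by
    rintro rfl
    rw [F_16] at hua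
    exact hnotz _ hua (IsConj.refl z)
  have hm576 : m ≠ 576 := by
    rintro rfl
    rw [F_576] at hua
    exact hnotz _ hua hs
  have hmc : mm 0 m 576 = mm 0 576 m := by
    rw [← comm_iff h ht hm (by norm_num), F_576]; exact has
  have hm' := mm_lt (t := 0) hm (show 576 < 1152 by norm_num)
  have hFm' : F z i j k l x₁ x₂ y s (mm 0 m 576) = F z i j k l x₁ x₂ y s m * s := by
    rw [F_mul h ht hm (by norm_num), F_576]
  have hs1 : s * s = 1 := by simpa only [_root_.Nat.zero_div, _root_.Nat.zero_mod, _root_.pow_zero] using ht.ss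
  have hmm' : mm 0 (mm 0 m 576) (mm 0 m 576) = 0 := by
    rw [← sq_iff h ht hm', hFm']
    have h1 := (sq_iff h ht hm).2 hmm
    calc F z i j k l x₁ x₂ y s m * s * (F z i j k l x₁ x₂ y s m * s)
        = F z i j k l x₁ x₂ y s m * (s * F z i j k l x₁ x₂ y s m) * s := by group
      _ = (F z i j k l x₁ x₂ y s m * F z i j k l x₁ x₂ y s m) * (s * s) := by rw [← has]; group
      _ = 1 := by rw [h1, hs1, one_mul]
  have hm'0 : mm 0 m 576 ≠ 0 := by
    intro he
    have h1 := hFm'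
    rw [he, F_0] at h1
    rw [← h1] at huas
    have h2 : F z i j k l x₁ x₂ y s m = s := by
      calc F z i j k l x₁ x₂ y s m = F z i j k l x₁ x₂ y s m * s * s := by rw [mul_assoc, hs1, mul_one]
        _ = s := by rw [← h1, one_mul]
    rw [h2] at hua
    exact hnotz _ hua hs
  rw [← hFm'] at huas
  have fin : ∀ w < 1152, mm 0 w w = 0 → w ≠ 0 → IsConj (i * k) (F z i j k l x₁ x₂ y s w) →
      rp w ∈ ([16, 288, 576, 592] : List ℕ) → IsConj (i * k) (z * s) := by
    intro w hw1 hw2 hw3 hw4 hw5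
    have h1 := (isConj_rp h ht hw1 hw2 hw3).1
    simp only [List.mem_cons, List.not_mem_nil, or_false] at hw5
    rcases hw5 with h2 | h2 | h2 | h2
    · rw [h2, F_16] at h1
      exact absurd h1.symm (hnotz _ hw4)
    · rw [h2, F_288] at h1
      exact absurd (hw4.trans h1).symm hnu
    · rw [h2, F_576] at h1
      exact absurd (hs.trans h1.symm) (hnotz _ hw4)
    · rw [h2, F_592] at h1
      exact hw4.trans h1
  rcases dec_s m hm ⟨hmm, hmc, hm0, hm16, hm576⟩ with h1 | h1
  · exact fin m hm hmm hm0 hua h1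
  · exact fin _ hm' hmm' hm'0 huas h1

/-- `s ~ z` implies `y ~ z` -/
theorem y_of_s (hG : ∀ H : Subgroup G, H.index ≠ 2) (hs : IsConj z s) : IsConj z y := by
  by_contra hnz
  have hnu := not_conj_u h ht hw hnz
  have hsz := s_case h ht hw hs hnz
  have hyz : y * z = z * y := (zy h).eq
  have hyy : y * y = 1 := by simpa only [_root_.Nat.zero_mod, _root_.pow_zero] using ht.yy
  have hyN : y ∉ kerN h fy rfl fy_mul fy_lt := by
    have := mem_kerN_iff h (f := fy) rfl fy_mul fy_lt (m := 288) (by norm_num)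
    rw [F_288] at this
    rw [this]; decide
  have h2 := relIndex_kerN h (f := fy) rfl fy_mul fy_lt hyz hyN
  have hle := kerN_le h (f := fy) rfl fy_mul fy_lt
  have hodd := TwoCentral.odd_index h.large
  have hidx : (kerN h fy rfl fy_mul fy_lt).index = 2 * (Subgroup.centralizer ({z} : Set G)).index := by
    rw [← Subgroup.relIndex_mul_index hle, h2]
  obtain ⟨f, hf⟩ := Cfsg.Agent.Transfer.ThompsonTransfer.exists_hom_eq_neg_one _ hidx hodd y
    (by rw [pow_two]; exact hyy) (by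
      rintro g ⟨m, hm, hm2, hm3⟩
      have hmm : mm 0 m m = 0 := by
        rw [← sq_iff h ht hm, hm3]
        calc g * y * g⁻¹ * (g * y * g⁻¹) = g * (y * y) * g⁻¹ := by group
          _ = 1 := by rw [hyy]; group
      have hm0 : m ≠ 0 := by
        rintro rfl
        rw [F_0] at hm3
        have hy1 : y = 1 := by
          calc y = g⁻¹ * (g * y * g⁻¹) * g := by group
            _ = 1 := by rw [← hm3]; group
        have h3 : F z i j k l x₁ x₂ y s 288 = F z i j k l x₁ x₂ y s 0 := by rw [F_288, F_0, hy1]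
        have := F_inj h (by norm_num) (by norm_num) h3
        omega
      have h1 := (isConj_rp h ht hm hmm hm0).1
      have h3 := dec_N m hm ⟨hmm, hm2, hm0⟩
      have hym : IsConj y (F z i j k l x₁ x₂ y s m) := isConj_iff.2 ⟨g, hm3.symm⟩
      simp only [List.mem_cons, List.not_mem_nil, or_false] at h3
      rcases h3 with h3 | h3 | h3 | h3
      · rw [h3, F_16] at h1
        exact hnz (hym.trans h1).symm
      · rw [h3, F_5] at h1
        exact hnu (hym.trans h1)
      · rw [h3, F_576] at h1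
        exact hnz (hs.trans (hym.trans h1).symm)
      · rw [h3, F_592] at h1
        exact hnu ((hym.trans h1).trans hsz.symm))
  obtain ⟨M, -, hM, -⟩ := Cfsg.Agent.Transfer.ThompsonTransfer.exists_normal_index_two f y hf
  exact hG M hM

end

/-- **`y` is conjugate to `z`.** -/
theorem conj_y (h : Case9aa Q z i j k l x₁ x₂ y s) (ht : Tw 0 z y s) [IsSimpleGroup G]
    (hG : ∀ H : Subgroup G, H.index ≠ 2)
    (hw : ∀ g, g * z * g⁻¹ ∈ Q → g * z * g⁻¹ = z) : IsConj z y := by
  by_contra hnz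
  apply Cfsg.Agent.J2Type.SimpleRed.not_isolated z ⟨Base.orderOf_z h.large, ?_⟩
  · refine ⟨j, i, ?_⟩
    rw [h.ji]
    intro h1
    exact h.large.z_ne (by simpa using h1)
  intro g hg
  by_contra hne
  have hyy : y * y = 1 := by simpa only [_root_.Nat.zero_mod, _root_.pow_zero] using ht.yy
  have hss : s * s = 1 := by simpa only [_root_.Nat.zero_div, _root_.Nat.zero_mod, _root_.pow_zero] using ht.ss
  have hsy : s * y = y * s := by
    have h1 : s * y * s⁻¹ = y := by simpa only [_root_.Nat.zero_div, _root_.Nat.zero_mod, _root_.pow_zero, _root_.mul_one] using ht.sy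
    calc s * y = s * y * s⁻¹ * s := by group
      _ = y * s := by rw [h1]
  have hzz := h.large.z_sq
  have hyz : y * z = z * y := (zy h).eq
  have hsz : s * z = z * s := (zs h).eq
  obtain ⟨r, hr, c, hc, hc2⟩ := exists_rep h ht hw (g := g) (by exact hg.eq.symm) hne
  have hcr : IsConj z (F z i j k l x₁ x₂ y s r) := isConj_iff.2 ⟨c * g, by rw [← hc2]; group⟩
  -- the sign change
  have tws : ∀ {Q' : Subgroup G} {k' l' x' s' : G}, Case9aa Q' z i j k' l' x₁ x' y s' → s' * s' = 1 →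
      s' * y = y * s' → s' * z = z * s' → Q' = Q → IsConj z (z * s') → False := by
    intro Q' k' l' x' s' h' h1 h2 h3 hQ h4
    subst hQ
    apply hnz
    refine y_of_s (sign_s h') (tw_zero hyy ?_ ?_) hw hG ?_
    · calc s' * z * (s' * z) = s' * (z * s') * z := by group
        _ = (s' * s') * (z * z) := by rw [← h3]; group
        _ = 1 := by rw [h1, hzz, one_mul]
    · calc s' * z * y = s' * (z * y) := by group
        _ = s' * y * z := by rw [← hyz]; group
        _ = y * (s' * z) := by rw [h2]; group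
    · rw [h3]; exact h4
  have hys1 : y * s * (y * s) = 1 := by
    calc y * s * (y * s) = y * (s * y) * s := by group
      _ = (y * y) * (s * s) := by rw [hsy]; group
      _ = 1 := by rw [hyy, hss, one_mul]
  have hys2 : y * s * y = y * (y * s) := by rw [mul_assoc, hsy]
  have hys3 : y * s * z = z * (y * s) := by
    rw [mul_assoc, hsz, ← mul_assoc, hyz, mul_assoc]
  simp only [List.mem_cons, List.not_mem_nil, or_false] at hr
  rcases hr with rfl | rfl | rfl | rfl | rfl
  · rw [F_288] at hcr; exact hnz hcr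
  · rw [F_576] at hcr; exact hnz (y_of_s h ht hw hG hcr)
  · rw [F_592] at hcr; exact tws h hss hsy hsz rfl hcr
  · rw [F_864] at hcr
    exact hnz (y_of_s (swap h) (tw_zero hyy hys1 hys2) hw hG hcr)
  · rw [F_880] at hcr
    exact tws (swap h) hys1 hys2 hys3 rfl hcr

end

end Cfsg.Agent.LargeExtra.W2.LFour.Fusion
end

-- part: LargeExtra/W2/LFour/FusionC
section
/-!
# S1759, case `9aa`, case I: fusion, part C: the structure `Fus` (helper221)
-/

set_option autoImplicit false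

namespace Cfsg.Agent.LargeExtra.W2.LFour.Fusion

open Cfsg.Agent.LargeExtra.W2 Cfsg.Agent.SmallExtra438.ModelA Cfsg.Agent.SmallExtra438.FrameA
open Cfsg.Agent.SmallExtra438.ClassA Cfsg.Agent.LargeExtra.W2.LFour.TwistK
open Cfsg.Agent.SmallExtra438.TwistA (cmul swap)

/-- Non-commuting pairs in `C_G(z) ∩ C_G(F r)`. -/
theorem dec_pair : ∀ r ∈ ([576, 592, 864, 880] : List ℕ), ∃ p ∈ ([(5, 128), (6, 160)] : List (ℕ × ℕ)),
    p.1 < 1152 ∧ p.2 < 1152 ∧ mm 0 p.1 r = mm 0 r p.1 ∧ mm 0 p.2 r = mm 0 r p.2 ∧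
      mm 0 p.1 p.2 ≠ mm 0 p.2 p.1 := by decide +kernel

/-- the classes of `e, y e, z e, z y e` for `e ∈ E ∖ (E ∩ Q ⟨y⟩)` -/
theorem dec_types : ∀ m ∈ listE, (m ≠ 0 ∧ m ≠ 15 ∧ m ≠ 16 ∧ m ≠ 31 ∧ rp m ≠ 288) →
    ∃ a ∈ ([576, 592] : List ℕ), ∃ b ∈ ([864, 880] : List ℕ),
      ((rp m = a ∧ rp (mm 0 m 288) = b) ∨ (rp m = b ∧ rp (mm 0 m 288) = a)) ∧
      ((rp (mm 0 m 16) = a ^^^ 16 ∧ rp (mm 0 (mm 0 m 288) 16) = b ^^^ 16) ∨
        (rp (mm 0 m 16) = b ^^^ 16 ∧ rp (mm 0 (mm 0 m 288) 16) = a ^^^ 16)) := by decide +kernel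

theorem dec_pick : ∀ m ∈ listE, (m ≠ 0 ∧ m ≠ 15 ∧ m ≠ 16 ∧ m ≠ 31 ∧ rp m ≠ 288) →
    rp m = 592 ∨ rp m = 880 ∨ rp (mm 0 m 288) = 592 ∨ rp (mm 0 m 288) = 880 ∨ m = 576 ∨ m = 864 := by
  decide +kernel

theorem listE_mul : ∀ m ∈ listE, ∀ n ∈ listE, mm 0 m n ∈ listE := by decide +kernel
theorem listE_ne : ∀ m ∈ listE, (m ≠ 0 ∧ m ≠ 15 ∧ m ≠ 16 ∧ m ≠ 31 ∧ rp m ≠ 288) →
    mm 0 m 288 ≠ 0 ∧ mm 0 m 16 ≠ 0 ∧ mm 0 (mm 0 m 288) 16 ≠ 0 := by decide +kernel
theorem dec_yQ : ∀ m ∈ listE, (m = 15 ∨ m = 31) → mm 0 m 288 ≠ 0 ∧ rp (mm 0 m 288) = 288 := by decide +kernel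
theorem dec_dyz : rp (mm 0 15 288) = 288 ∧ rp (mm 0 (mm 0 15 288) 16) = 288 ∧ rp (mm 0 288 16) = 288 := by
  decide +kernel

section

variable {G : Type*} [Group G] [Finite G] {Q : Subgroup G} {z i j k l x₁ x₂ y s : G}

section

variable (h : Case9aa Q z i j k l x₁ x₂ y s) (ht : Tw 0 z y s)
    (hw : ∀ g, g * z * g⁻¹ ∈ Q → g * z * g⁻¹ = z)
include h ht hw

/-- There is an element exchanging `z` and `y`. -/
theorem exists_tau (hy : IsConj z y) : ∃ τ : G, τ * z * τ⁻¹ = y ∧ τ * y * τ⁻¹ = z := by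
  obtain ⟨g, hg⟩ := isConj_iff.1 hy
  have hyz : y * z = z * y := (zy h).eq
  have hyne : y ≠ z := by
    intro he
    have h3 : F z i j k l x₁ x₂ y s 288 = F z i j k l x₁ x₂ y s 16 := by rw [F_288, F_16, he]
    have := F_inj h (by norm_num) (by norm_num) h3
    omega
  have e0 : g⁻¹ * z * g⁻¹⁻¹ ≠ z := by
    intro he
    apply hyne
    rw [← hg]
    calc g * z * g⁻¹ = g * (g⁻¹ * z * g⁻¹⁻¹) * g⁻¹ := by rw [he]
      _ = z := by group
  have e1 : (g⁻¹ * z * g⁻¹⁻¹) * z = z * (g⁻¹ * z * g⁻¹⁻¹) := by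
    rw [← hg] at hyz
    calc (g⁻¹ * z * g⁻¹⁻¹) * z = g⁻¹ * (z * (g * z * g⁻¹)) * g := by group
      _ = g⁻¹ * ((g * z * g⁻¹) * z) * g := by rw [hyz]
      _ = _ := by group
  obtain ⟨r, hr, c, hc, hc2⟩ := exists_rep h ht hw e1 e0
  set b := g * c⁻¹ with hb
  have hbz : b * z * b⁻¹ = y := by
    have : c⁻¹ * z * c = z := by rw [mul_assoc, ← hc]; group
    calc b * z * b⁻¹ = g * (c⁻¹ * z * c) * g⁻¹ := by rw [hb]; group
      _ = y := by rw [this, hg]
  have hbr : b * F z i j k l x₁ x₂ y s r * b⁻¹ = z := by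
    rw [← hc2, hb]; group
  by_cases hr288 : r = 288
  · subst hr288
    rw [F_288] at hbr
    exact ⟨b, hbz, hbr⟩
  exfalso
  have hr' : r ∈ ([576, 592, 864, 880] : List ℕ) := by
    simp only [List.mem_cons, List.not_mem_nil, or_false] at hr ⊢
    (clear * - hr288 hr; tauto)
  have hr1 : r < 1152 := by
    have : ∀ r ∈ ([576, 592, 864, 880] : List ℕ), r < 1152 := by decide
    exact this r hr'
  obtain ⟨⟨p, q⟩, -, hp, hq, hpr, hqr, hpq⟩ := dec_pair r hr'
  apply hpq
  change p < 1152 at hp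
  change q < 1152 at hq
  have key : ∀ m < 1152, mm 0 m r = mm 0 r m →
      (b * F z i j k l x₁ x₂ y s m * b⁻¹) * z = z * (b * F z i j k l x₁ x₂ y s m * b⁻¹) ∧
      (b * F z i j k l x₁ x₂ y s m * b⁻¹) * y = y * (b * F z i j k l x₁ x₂ y s m * b⁻¹) := by
    intro m hm hmr
    have h1 := (comm_iff h ht hm hr1).2 hmr
    have h2 := F_comm h m
    generalize F z i j k l x₁ x₂ y s m = M at h1 h2 ⊢
    constructor
    · calc (b * M * b⁻¹) * z = (b * M * b⁻¹) * (b * F z i j k l x₁ x₂ y s r * b⁻¹) := by rw [hbr]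
        _ = b * (M * F z i j k l x₁ x₂ y s r) * b⁻¹ := by group
        _ = b * (F z i j k l x₁ x₂ y s r * M) * b⁻¹ := by rw [h1]
        _ = (b * F z i j k l x₁ x₂ y s r * b⁻¹) * (b * M * b⁻¹) := by group
        _ = _ := by rw [hbr]
    · calc (b * M * b⁻¹) * y = (b * M * b⁻¹) * (b * z * b⁻¹) := by rw [hbz]
        _ = b * (M * z) * b⁻¹ := by group
        _ = b * (z * M) * b⁻¹ := by rw [h2]
        _ = (b * z * b⁻¹) * (b * M * b⁻¹) := by group
        _ = _ := by rw [hbz]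
  obtain ⟨p1, p2⟩ := key p hp hpr
  obtain ⟨q1, q2⟩ := key q hq hqr
  have h3 := E_comm h ht p1 p2 q1 q2
  change mm 0 p q = mm 0 q p
  rw [← comm_iff h ht hp hq]
  generalize F z i j k l x₁ x₂ y s p = P at h3 ⊢
  generalize F z i j k l x₁ x₂ y s q = R at h3 ⊢
  calc P * R = b⁻¹ * ((b * P * b⁻¹) * (b * R * b⁻¹)) * b := by group
    _ = b⁻¹ * ((b * R * b⁻¹) * (b * P * b⁻¹)) * b := by rw [h3]
    _ = _ := by group

omit hw in
theorem E_z : z * y = y * z ∧ (i * j * k * l) * z = z * (i * j * k * l) ∧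
    (i * j * k * l) * y = y * (i * j * k * l) ∧ s * z = z * s ∧ s * y = y * s := by
  refine ⟨(zy h).eq.symm, ?_, ?_, (zs h).eq, ?_⟩
  · have := F_comm h 15; rwa [F_15] at this
  · have := (comm_iff h ht (m := 15) (n := 288) (by norm_num) (by norm_num)).2 (by decide +kernel)
    rwa [F_15, F_288] at this
  · have := (comm_iff h ht (m := 576) (n := 288) (by norm_num) (by norm_num)).2 (by decide +kernel)
    rwa [F_576, F_288] at this

/-- The image of `d = i j k l` under `τ`. -/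
theorem tau_d (hy : IsConj z y) {τ : G} (h1 : τ * z * τ⁻¹ = y) (h2 : τ * y * τ⁻¹ = z) :
    ∃ m ∈ listE, F z i j k l x₁ x₂ y s m = τ * (i * j * k * l) * τ⁻¹ ∧
      (m ≠ 0 ∧ m ≠ 15 ∧ m ≠ 16 ∧ m ≠ 31 ∧ rp m ≠ 288) ∧
      ¬ IsConj z (F z i j k l x₁ x₂ y s m) ∧ ¬ IsConj z (F z i j k l x₁ x₂ y s (mm 0 m 288)) ∧
      IsConj z (F z i j k l x₁ x₂ y s (mm 0 m 16)) ∧
      IsConj z (F z i j k l x₁ x₂ y s (mm 0 (mm 0 m 288) 16)) := by
  obtain ⟨c1, c2, c3, c4, c5⟩ := E_z h ht
  set d := i * j * k * l with hd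
  have hz : (τ * d * τ⁻¹) * z = z * (τ * d * τ⁻¹) := by
    calc (τ * d * τ⁻¹) * z = (τ * d * τ⁻¹) * (τ * y * τ⁻¹) := by rw [h2]
      _ = τ * (d * y) * τ⁻¹ := by group
      _ = τ * (y * d) * τ⁻¹ := by rw [c3]
      _ = (τ * y * τ⁻¹) * (τ * d * τ⁻¹) := by group
      _ = _ := by rw [h2]
  have hyc : (τ * d * τ⁻¹) * y = y * (τ * d * τ⁻¹) := by
    calc (τ * d * τ⁻¹) * y = (τ * d * τ⁻¹) * (τ * z * τ⁻¹) := by rw [h1]
      _ = τ * (d * z) * τ⁻¹ := by group
      _ = τ * (z * d) * τ⁻¹ := by rw [c2]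
      _ = (τ * z * τ⁻¹) * (τ * d * τ⁻¹) := by group
      _ = _ := by rw [h1]
  obtain ⟨m, hm, hmd⟩ := exists_code_E h ht hz hyc
  have hm1 := listE_lt m hm
  -- `d`, `d z` are not conjugate to `z`, `d y`, `d y z` are
  have f15 : F z i j k l x₁ x₂ y s 15 = d := F_15
  have hQd : ¬ IsConj z d := by
    intro hc
    have h3 := eq_of_conj hw ((mem_Q_iff h (m := 15) (by norm_num)).2 (by norm_num)) (f15 ▸ hc)
    have h4 := F_inj h (m := 15) (n := 16) (by norm_num) (by norm_num) (by rw [h3, F_16])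
    omega
  have hQdz : ¬ IsConj z (d * z) := by
    intro hc
    have e : F z i j k l x₁ x₂ y s 31 = d * z := by
      rw [show (31 : ℕ) = mm 0 15 16 by decide +kernel, F_mul h ht (by norm_num) (by norm_num), F_15, F_16]
    have h3 := eq_of_conj hw ((mem_Q_iff h (m := 31) (by norm_num)).2 (by norm_num)) (e ▸ hc)
    have h4 := F_inj h (m := 31) (n := 16) (by norm_num) (by norm_num) (by rw [h3, F_16])
    omega
  have hyQ : ∀ w ∈ listE, w ≠ 0 → rp w = 288 → IsConj z (F z i j k l x₁ x₂ y s w) := by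
    intro w hw1 hw0 hw2
    have hw3 := listE_lt w hw1
    have hww : mm 0 w w = 0 := by
      have : ∀ w ∈ listE, mm 0 w w = 0 := by decide +kernel
      exact this w hw1
    have h3 := (isConj_rp h ht hw3 hww hw0).1
    rw [hw2, F_288] at h3
    exact hy.trans h3.symm
  have l288 : 288 ∈ listE := by decide
  have l16 : 16 ∈ listE := by decide
  have l15 : 15 ∈ listE := by decide
  have hdy : IsConj z (d * y) := by
    have := hyQ _ (listE_mul 15 l15 288 l288) (by decide +kernel) dec_dyz.1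
    rwa [F_mul h ht (by norm_num) (by norm_num), F_15, F_288] at this
  have hdyz : IsConj z (d * y * z) := by
    have := hyQ _ (listE_mul _ (listE_mul 15 l15 288 l288) 16 l16) (by decide +kernel) dec_dyz.2.1
    rwa [F_mul h ht (listE_lt _ (listE_mul 15 l15 288 l288)) (by norm_num),
      F_mul h ht (by norm_num) (by norm_num), F_15, F_288, F_16] at this
  have g1 : ¬ IsConj z (F z i j k l x₁ x₂ y s m) := by
    rw [hmd]
    exact fun hc => hQd (hc.trans (isConj_iff.2 ⟨τ, rfl⟩ : IsConj d (τ * d * τ⁻¹)).symm)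
  have hFy : F z i j k l x₁ x₂ y s (mm 0 m 288) = τ * (d * z) * τ⁻¹ := by
    rw [F_mul h ht hm1 (by norm_num), hmd, F_288]
    calc τ * d * τ⁻¹ * y = τ * d * τ⁻¹ * (τ * z * τ⁻¹) := by rw [h1]
      _ = _ := by group
  have g2 : ¬ IsConj z (F z i j k l x₁ x₂ y s (mm 0 m 288)) := by
    rw [hFy]
    exact fun hc => hQdz (hc.trans (isConj_iff.2 ⟨τ, rfl⟩ : IsConj (d * z) (τ * (d * z) * τ⁻¹)).symm)
  have g3 : IsConj z (F z i j k l x₁ x₂ y s (mm 0 m 16)) := by
    have e : F z i j k l x₁ x₂ y s (mm 0 m 16) = τ * (d * y) * τ⁻¹ := by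
      rw [F_mul h ht hm1 (by norm_num), hmd, F_16]
      calc τ * d * τ⁻¹ * z = τ * d * τ⁻¹ * (τ * y * τ⁻¹) := by rw [h2]
        _ = _ := by group
    rw [e]
    exact hdy.trans (isConj_iff.2 ⟨τ, rfl⟩)
  have g4 : IsConj z (F z i j k l x₁ x₂ y s (mm 0 (mm 0 m 288) 16)) := by
    have e : F z i j k l x₁ x₂ y s (mm 0 (mm 0 m 288) 16) = τ * (d * y * z) * τ⁻¹ := by
      rw [F_mul h ht (mm_lt hm1 (by norm_num)) (by norm_num), hFy, F_16]
      calc τ * (d * z) * τ⁻¹ * z = τ * (d * z) * τ⁻¹ * (τ * y * τ⁻¹) := by rw [h2]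
        _ = τ * (d * (z * y)) * τ⁻¹ := by group
        _ = τ * (d * (y * z)) * τ⁻¹ := by rw [c1]
        _ = _ := by group
    rw [e]
    exact hdyz.trans (isConj_iff.2 ⟨τ, rfl⟩)
  refine ⟨m, hm, hmd, ⟨?_, ?_, ?_, ?_, ?_⟩, g1, g2, g3, g4⟩
  · rintro rfl
    apply g2
    have h3 : mm 0 0 288 = 288 := by decide +kernel
    rw [h3, F_288]; exact hy
  · rintro rfl
    have h3 := dec_yQ 15 l15 (Or.inl rfl)
    exact g2 (hyQ _ (listE_mul 15 l15 288 l288) h3.1 h3.2)
  · rintro rfl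
    apply g1
    rw [F_16]
  · rintro rfl
    have h3 := dec_yQ 31 hm (Or.inr rfl)
    exact g2 (hyQ _ (listE_mul 31 hm 288 l288) h3.1 h3.2)
  · intro h3
    have h0 : m ≠ 0 := by rintro rfl; revert h3; decide +kernel
    exact g1 (hyQ m hm h0 h3)

/-- The types of `s, z s, y s, z y s`. -/
theorem types (hy : IsConj z y) : ∃ a ∈ ([576, 592] : List ℕ), ∃ b ∈ ([864, 880] : List ℕ),
    ¬ IsConj z (F z i j k l x₁ x₂ y s a) ∧ ¬ IsConj z (F z i j k l x₁ x₂ y s b) ∧
    IsConj z (F z i j k l x₁ x₂ y s (a ^^^ 16)) ∧ IsConj z (F z i j k l x₁ x₂ y s (b ^^^ 16)) := by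
  obtain ⟨τ, h1, h2⟩ := exists_tau h ht hw hy
  obtain ⟨m, hm, -, hne, g1, g2, g3, g4⟩ := tau_d h ht hw hy h1 h2
  have hm1 := listE_lt m hm
  have l288 : 288 ∈ listE := by decide
  have l16 : 16 ∈ listE := by decide
  have hmm : ∀ w ∈ listE, mm 0 w w = 0 := by decide +kernel
  obtain ⟨n1, n2, n3⟩ := listE_ne m hm hne
  have i1 := listE_mul m hm 288 l288
  have i2 := listE_mul m hm 16 l16
  have i3 := listE_mul _ i1 16 l16
  have e1 := (isConj_rp h ht hm1 (hmm m hm) hne.1).1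
  have e2 := (isConj_rp h ht (listE_lt _ i1) (hmm _ i1) n1).1
  have e3 := (isConj_rp h ht (listE_lt _ i2) (hmm _ i2) n2).1
  have e4 := (isConj_rp h ht (listE_lt _ i3) (hmm _ i3) n3).1
  have a1 : ¬ IsConj z (F z i j k l x₁ x₂ y s (rp m)) := fun hc => g1 (hc.trans e1.symm)
  have a2 : ¬ IsConj z (F z i j k l x₁ x₂ y s (rp (mm 0 m 288))) := fun hc => g2 (hc.trans e2.symm)
  have a3 := g3.trans e3
  have a4 := g4.trans e4
  obtain ⟨a, ha, b, hb, h3, h4⟩ := dec_types m hm hne
  refine ⟨a, ha, b, hb, ?_⟩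
  rcases h3 with ⟨h3, h5⟩ | ⟨h3, h5⟩ <;> rcases h4 with ⟨h4, h6⟩ | ⟨h4, h6⟩ <;>
    rw [h3] at a1 <;> rw [h5] at a2 <;> rw [h4] at a3 <;> rw [h6] at a4
  · exact ⟨a1, a2, a3, a4⟩
  · exact ⟨a1, a2, a4, a3⟩
  · exact ⟨a2, a1, a3, a4⟩
  · exact ⟨a2, a1, a4, a3⟩

/-- The structure `Fus` if the signs of `y` and `s` are right. -/
theorem exists_theta (hy : IsConj z y) (hs : ¬ IsConj z s) (hys : ¬ IsConj z (y * s)) :
    ∃ θ, Fus Q z i j k l x₁ x₂ y s θ := by
  have hzz := h.large.z_sq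
  have hyy : y * y = 1 := by simpa only [_root_.Nat.zero_mod, _root_.pow_zero] using ht.yy
  have hss : s * s = 1 := by simpa only [_root_.Nat.zero_div, _root_.Nat.zero_mod, _root_.pow_zero] using ht.ss
  obtain ⟨c1, c2, c3, c4, c5⟩ := E_z h ht
  obtain ⟨τ, h1, h2⟩ := exists_tau h ht hw hy
  obtain ⟨m, hm, hmd, hne, g1, g2, g3, g4⟩ := tau_d h ht hw hy h1 h2
  obtain ⟨a, ha, b, hb, t1, t2, t3, t4⟩ := types h ht hw hy
  have hm1 := listE_lt m hm
  have hmm : ∀ w ∈ listE, mm 0 w w = 0 := by decide +kernel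
  have l288 : 288 ∈ listE := by decide
  obtain ⟨n1, -, -⟩ := listE_ne m hm hne
  have i1 := listE_mul m hm 288 l288
  -- `z s ~ z`, `z y s ~ z`
  have u1 : IsConj z (F z i j k l x₁ x₂ y s 592) := by
    simp only [List.mem_cons, List.not_mem_nil, or_false] at ha
    rcases ha with rfl | rfl
    · exact t3
    · exfalso; apply hs
      have : (592 ^^^ 16 : ℕ) = 576 := by decide
      rwa [this, F_576] at t3
  have u2 : IsConj z (F z i j k l x₁ x₂ y s 880) := by
    simp only [List.mem_cons, List.not_mem_nil, or_false] at hb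
    rcases hb with rfl | rfl
    · exact t4
    · exfalso; apply hys
      have : (880 ^^^ 16 : ℕ) = 864 := by decide
      rwa [this, F_864] at t4
  have hm' : m = 576 ∨ m = 864 := by
    have e1 := (isConj_rp h ht hm1 (hmm m hm) hne.1).1
    have e2 := (isConj_rp h ht (listE_lt _ i1) (hmm _ i1) n1).1
    rcases dec_pick m hm hne with h3 | h3 | h3 | h3 | h3 | h3
    · rw [h3] at e1; exact absurd (u1.trans e1.symm) g1
    · rw [h3] at e1; exact absurd (u2.trans e1.symm) g1
    · rw [h3] at e2; exact absurd (u1.trans e2.symm) g2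
    · rw [h3] at e2; exact absurd (u2.trans e2.symm) g2
    · exact Or.inl h3
    · exact Or.inr h3
  -- `n = k l`
  have n0 : (k * l) * z * (k * l)⁻¹ = z := by
    have := F_comm h 12; rw [F_12] at this; rw [this]; group
  have n1 : (k * l) * y * (k * l)⁻¹ = y * z := by
    have := (conj_eq_iff h ht (c := 12) (m := 288) (n := 304) (by norm_num) (by norm_num) (by norm_num)).2
      (by decide +kernel)
    rw [show (304 : ℕ) = mm 0 288 16 by decide +kernel, F_mul h ht (by norm_num) (by norm_num), F_12, F_288,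
      F_16] at this
    exact this
  have n2 : (k * l) * (i * j * k * l) * (k * l)⁻¹ = i * j * k * l := by
    have := (conj_eq_iff h ht (c := 12) (m := 15) (n := 15) (by norm_num) (by norm_num) (by norm_num)).2
      (by decide +kernel)
    rw [F_12, F_15] at this
    exact this
  have n3 : (k * l) * s * (k * l)⁻¹ = s * (i * j * k * l) * z := by
    have := (conj_eq_iff h ht (c := 12) (m := 576) (n := 607) (by norm_num) (by norm_num) (by norm_num)).2
      (by decide +kernel)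
    rw [show (607 : ℕ) = mm 0 (mm 0 576 15) 16 by decide +kernel, F_mul h ht (by decide +kernel) (by norm_num),
      F_mul h ht (by norm_num) (by norm_num), F_12, F_576, F_15, F_16] at this
    exact this
  have hsd : s * (i * j * k * l) = i * j * k * l * s := by
    have := (comm_iff h ht (m := 576) (n := 15) (by norm_num) (by norm_num)).2 (by decide +kernel)
    rwa [F_576, F_15] at this
  have hdd : (i * j * k * l) * (i * j * k * l) = 1 := by
    have := (sq_iff h ht (m := 15) (by norm_num)).2 (by decide +kernel)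
    rwa [F_15] at this
  have hQd : ¬ IsConj z (i * j * k * l) := by
    intro hc
    have f15 : F z i j k l x₁ x₂ y s 15 = i * j * k * l := F_15
    have h3 := eq_of_conj hw ((mem_Q_iff h (m := 15) (by norm_num)).2 (by norm_num)) (f15 ▸ hc)
    have h4 := F_inj h (m := 15) (n := 16) (by norm_num) (by norm_num) (by rw [h3, F_16])
    omega
  set d := i * j * k * l with hd
  set n := k * l with hn
  -- `τ² ∈ E`
  have τ2 : τ * (τ * d * τ⁻¹) * τ⁻¹ = d := by
    have e1 : (τ * τ) * z = z * (τ * τ) := by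
      calc (τ * τ) * z = τ * (τ * z * τ⁻¹) * τ⁻¹ * (τ * τ) := by group
        _ = _ := by rw [h1, h2]
    have e2 : (τ * τ) * y = y * (τ * τ) := by
      calc (τ * τ) * y = τ * (τ * y * τ⁻¹) * τ⁻¹ * (τ * τ) := by group
        _ = _ := by rw [h2, h1]
    have e3 := E_comm h ht e1 e2 c2 c3
    calc τ * (τ * d * τ⁻¹) * τ⁻¹ = ((τ * τ) * d) * (τ * τ)⁻¹ := by group
      _ = d := by rw [e3]; group
  -- `θ₀ = τ n`
  have key : ∀ a b : G, (τ * n) * a * (τ * n)⁻¹ = τ * (n * a * n⁻¹) * τ⁻¹ := fun a b => by group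
  have kk : ∀ a b : G, τ * (a * b) * τ⁻¹ = (τ * a * τ⁻¹) * (τ * b * τ⁻¹) := fun a b => by group
  obtain ⟨θ₀, hθ⟩ : ∃ θ₀, θ₀ = τ * n := ⟨_, rfl⟩
  have θz : θ₀ * z * θ₀⁻¹ = y := by rw [hθ, key z z, n0, h1]
  have θy : θ₀ * y * θ₀⁻¹ = z * y := by rw [hθ, key y z, n1, kk, h2, h1]
  have θd : θ₀ * d * θ₀⁻¹ = τ * d * τ⁻¹ := by rw [hθ, key d z, n2]
  have θs : θ₀ * s * θ₀⁻¹ = (τ * s * τ⁻¹) * (τ * d * τ⁻¹) * y := by rw [hθ, key s z, n3, kk, kk, h1]
  have km : ∀ a b : G, θ₀ * (a * b) * θ₀⁻¹ = (θ₀ * a * θ₀⁻¹) * (θ₀ * b * θ₀⁻¹) := fun a b => by group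
  have k3 : ∀ a : G, θ₀ ^ 3 * a = (θ₀ * (θ₀ * (θ₀ * a * θ₀⁻¹) * θ₀⁻¹) * θ₀⁻¹) * θ₀ ^ 3 := fun a => by
    simp only [pow_succ, pow_zero, one_mul]; group
  have θ3z : θ₀ ^ 3 * z = z * θ₀ ^ 3 := by
    rw [k3 z, θz, θy, km, θz, θy]
    congr 1
    calc y * (z * y) = z * (y * y) := by rw [← mul_assoc, ← c1, mul_assoc]
      _ = z := by rw [hyy, mul_one]
  have θ3y : θ₀ ^ 3 * y = y * θ₀ ^ 3 := by
    rw [k3 y, θy, km z y, θz, θy, km y (z * y), km z y, θz, θy]
    congr 1
    calc z * y * (y * (z * y)) = z * (y * y) * (z * y) := by group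
      _ = (z * z) * y := by rw [hyy]; group
      _ = y := by rw [hzz, one_mul]
  have θ3sq : θ₀ ^ 3 * θ₀ ^ 3 = 1 := E_sq h ht θ3z θ3y
  have θ3d : θ₀ ^ 3 * d = d * θ₀ ^ 3 := E_comm h ht θ3z θ3y c2 c3
  have θ3s : θ₀ ^ 3 * s = s * θ₀ ^ 3 := E_comm h ht θ3z θ3y c4 c5
  -- the case `τ d τ⁻¹ = s` is impossible
  have hm2 : τ * d * τ⁻¹ = y * s := by
    rcases hm' with rfl | rfl
    · exfalso
      rw [F_576] at hmd
      have e1 : τ * s * τ⁻¹ = d := by rw [hmd]; exact τ2
      rw [← hmd] at θd θs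
      rw [e1] at θs
      have h3 : θ₀ ^ 3 * d = (d * z) * θ₀ ^ 3 := by
        rw [k3 d, θd, θs, km, km, θd, θs, θy]
        congr 1
        calc s * (d * s * y) * (z * y) = (s * d) * s * y * (z * y) := by group
          _ = d * (s * s) * (y * (z * y)) := by rw [hsd]; group
          _ = d * (y * (y * z)) := by rw [hss, c1, mul_one]
          _ = d * z := by rw [← mul_assoc y, hyy, one_mul]
      rw [θ3d] at h3
      have h4 := mul_right_cancel h3
      exact h.large.z_ne (mul_eq_left.1 h4.symm)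
    · rw [F_864] at hmd; exact hmd.symm
  have e1 : τ * s * τ⁻¹ = z * d := by
    have e2 := τ2
    rw [hm2, kk, h2] at e2
    calc τ * s * τ⁻¹ = (z * z) * (τ * s * τ⁻¹) := by rw [hzz, one_mul]
      _ = z * (z * (τ * s * τ⁻¹)) := by group
      _ = z * d := by rw [e2]
  have θd' : θ₀ * d * θ₀⁻¹ = s * y := by rw [θd, hm2, c5]
  have θs' : θ₀ * s * θ₀⁻¹ = d * s * z := by
    rw [θs, e1, hm2]
    calc z * d * (y * s) * y = z * d * (y * (s * y)) := by group
      _ = (z * d) * ((y * y) * s) := by rw [c5]; group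
      _ = (z * d) * s := by rw [hyy, one_mul]
      _ = d * (z * s) := by rw [← c2]; group
      _ = d * s * z := by rw [← c4]; group
  refine ⟨θ₀ ^ 4, ?_⟩
  have fin : ∀ a : G, θ₀ ^ 3 * a = a * θ₀ ^ 3 → θ₀ ^ 4 * a * (θ₀ ^ 4)⁻¹ = θ₀ * a * θ₀⁻¹ := by
    intro a ha
    have e4 : θ₀ ^ 4 = θ₀ * θ₀ ^ 3 := by rw [← pow_succ']
    rw [e4]
    calc θ₀ * θ₀ ^ 3 * a * (θ₀ * θ₀ ^ 3)⁻¹ = θ₀ * (θ₀ ^ 3 * a) * (θ₀ ^ 3)⁻¹ * θ₀⁻¹ := by group
      _ = θ₀ * a * θ₀⁻¹ := by rw [ha]; group
  refine { h with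
    y_sq := hyy
    s_sq := hss
    s_y := c5
    θ3 := ?_
    θz := ?_
    θy := ?_
    θd := ?_
    θs := ?_
    nc := hQd }
  · have e4 : (θ₀ ^ 4) ^ 3 = (θ₀ ^ 3 * θ₀ ^ 3) * (θ₀ ^ 3 * θ₀ ^ 3) := by
      simp only [← pow_mul, ← pow_add]
    rw [e4, θ3sq, one_mul]
  · rw [fin z θ3z, θz]
  · rw [fin y θ3y, θy]
  · rw [← hd, fin d θ3d, θd']
  · rw [← hd, fin s θ3s, θs']

end

/-- **[B]**: case I of case `9aa`: the structure `Fus`. -/
theorem exists_fus [IsSimpleGroup G] (h : Case9aa Q z i j k l x₁ x₂ y s) (hG : ∀ H : Subgroup G, H.index ≠ 2)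
    (hw : ∀ g, g * z * g⁻¹ ∈ Q → g * z * g⁻¹ = z) :
    ∃ y' s' θ, (y' = y ∨ y' = y * z) ∧ (s' = s ∨ s' = s * z) ∧ Fus Q z i j k l x₁ x₂ y' s' θ := by
  obtain ⟨t, ht8, ht⟩ := exists_tw h
  have ht0 := twist_zero h hG hw ht8 ht
  subst ht0
  have hy := conj_y h ht hG hw
  obtain ⟨a, ha, b, hb, t1, t2, t3, t4⟩ := types h ht hw hy
  have hzz := h.large.z_sq
  have hyy : y * y = 1 := by simpa only [_root_.Nat.zero_mod, _root_.pow_zero] using ht.yy
  have hss : s * s = 1 := by simpa only [_root_.Nat.zero_div, _root_.Nat.zero_mod, _root_.pow_zero] using ht.ss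
  obtain ⟨c1, c2, c3, c4, c5⟩ := E_z h ht
  have hyz2 : y * z * (y * z) = 1 := by
    calc y * z * (y * z) = y * (z * y) * z := by group
      _ = (y * y) * (z * z) := by rw [c1]; group
      _ = 1 := by rw [hyy, hzz, one_mul]
  have hsz2 : s * z * (s * z) = 1 := by
    calc s * z * (s * z) = s * (z * s) * z := by group
      _ = (s * s) * (z * z) := by rw [← c4]; group
      _ = 1 := by rw [hss, hzz, one_mul]
  have hyzc : IsConj z (y * z) := by
    have := (isConj_rp h ht (m := mm 0 288 16) (by decide +kernel) (by decide +kernel) (by decide +kernel)).1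
    rw [dec_dyz.2.2, F_288, F_mul h ht (by norm_num) (by norm_num), F_288, F_16] at this
    exact hy.trans this.symm
  simp only [List.mem_cons, List.not_mem_nil, or_false] at ha hb
  rcases ha with rfl | rfl <;> rcases hb with rfl | rfl
  · rw [F_576] at t1
    rw [F_864] at t2
    obtain ⟨θ, hθ⟩ := exists_theta h ht hw hy t1 t2
    exact ⟨y, s, θ, Or.inl rfl, Or.inl rfl, hθ⟩
  · rw [F_576] at t1
    rw [F_880] at t2
    have e : y * z * s = z * (y * s) := by rw [← c1, mul_assoc]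
    obtain ⟨θ, hθ⟩ := exists_theta (sign_y h) (tw_zero hyz2 hss (by
      rw [← c1]
      calc s * (z * y) = (s * z) * y := by group
        _ = z * (s * y) := by rw [c4]; group
        _ = z * y * s := by rw [c5]; group)) hw hyzc t1 (by rw [e]; exact t2)
    exact ⟨y * z, s, θ, Or.inr rfl, Or.inl rfl, hθ⟩
  · rw [F_592, ← c4] at t1
    rw [F_864] at t2
    have e : y * z * (s * z) = y * s := by
      calc y * z * (s * z) = y * (z * s) * z := by group
        _ = (y * s) * (z * z) := by rw [← c4]; group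
        _ = y * s := by rw [hzz, mul_one]
    obtain ⟨θ, hθ⟩ := exists_theta (sign_s (sign_y h)) (tw_zero hyz2 hsz2 (by
      calc s * z * (y * z) = s * (z * y) * z := by group
        _ = s * y * (z * z) := by rw [c1]; group
        _ = y * s * (z * z) := by rw [c5]
        _ = y * (s * z) * z := by group
        _ = y * (z * s) * z := by rw [c4]
        _ = y * z * (s * z) := by group)) hw hyzc t1 (by rw [e]; exact t2)
    exact ⟨y * z, s * z, θ, Or.inr rfl, Or.inr rfl, hθ⟩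
  · rw [F_592, ← c4] at t1
    rw [F_880] at t2
    have e : y * (s * z) = z * (y * s) := by
      calc y * (s * z) = y * (z * s) := by rw [c4]
        _ = (y * z) * s := by group
        _ = z * (y * s) := by rw [← c1]; group
    obtain ⟨θ, hθ⟩ := exists_theta (sign_s h) (tw_zero hyy hsz2 (by
      calc s * z * y = s * (z * y) := by group
        _ = (s * y) * z := by rw [c1]; group
        _ = y * (s * z) := by rw [c5]; group)) hw hy t1 (by rw [e]; exact t2)
    exact ⟨y, s * z, θ, Or.inl rfl, Or.inr rfl, hθ⟩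

/-- a simple group has no subgroup of index two -/
theorem index_ne_two [IsSimpleGroup G] (h : Case9aa Q z i j k l x₁ x₂ y s) (H : Subgroup G) : H.index ≠ 2 := by
  intro h2
  have hn := Subgroup.normal_of_index_eq_two h2
  rcases hn.eq_bot_or_eq_top with h1 | h1
  · subst h1
    rw [Subgroup.index_bot] at h2
    have h3 : Nat.card Q ∣ Nat.card G := Subgroup.card_subgroup_dvd_card Q
    rw [h2, h.card] at h3
    norm_num at h3
  · subst h1
    rw [Subgroup.index_top] at h2
    norm_num at h2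

/-- **[B]** for simple groups. -/
theorem exists_fus' [IsSimpleGroup G] (h : Case9aa Q z i j k l x₁ x₂ y s)
    (hw : ∀ g, g * z * g⁻¹ ∈ Q → g * z * g⁻¹ = z) :
    ∃ y' s' θ, (y' = y ∨ y' = y * z) ∧ (s' = s ∨ s' = s * z) ∧ Fus Q z i j k l x₁ x₂ y' s' θ :=
  exists_fus h (index_ne_two h) hw

end

end Cfsg.Agent.LargeExtra.W2.LFour.Fusion
end

-- part: LargeExtra/W2/LFour/PresOf
section
/-!
# S1759, `L₄(3)`: `Case9aa` with `z` weakly closed in `Q` gives the presentation (helper465)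
-/

set_option autoImplicit false

namespace Cfsg.Agent.LargeExtra.W2.LFour.PresOf

open Cfsg.Agent.LargeExtra.W2.LFour.PresDef

variable {G : Type*} [Group G] {Q : Subgroup G} {z i j k l x₁ x₂ y s θ w w' : G}

theorem pres_of_elem2 [Finite G] (h : Elem2 Q z i j k l x₁ x₂ y s θ w w') :
    Pres Q z i j k l x₁ x₂ y s θ w w' :=
  { h with
    cox := Cox.cox h
    cox' := Cox.cox' h
    five := (PEnd.five_four h).1
    four := (PEnd.five_four h).2 }

/-- The presentation in case I. -/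
theorem exists_pres [Finite G] [IsSimpleGroup G] (h : Case9aa Q z i j k l x₁ x₂ y s)
    (hw : ∀ g : G, g * z * g⁻¹ ∈ Q → g * z * g⁻¹ = z) :
    ∃ y' s' θ w w', Pres Q z i j k l x₁ x₂ y' s' θ w w' := by
  obtain ⟨y', s', θ, -, -, hF⟩ := Fusion.exists_fus' h hw
  obtain ⟨w, w', hE⟩ := Bridge.exists_elem2 hF
  exact ⟨y', s', θ, w, w', pres_of_elem2 hE⟩

end Cfsg.Agent.LargeExtra.W2.LFour.PresOf
end

-- part: LargeExtra/W2/LFour/MainOf
section
/-!
# S1759, `L₄(3)`: assembly modulo closing and identification (helper465)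
-/

set_option autoImplicit false

universe u

namespace Cfsg.Agent.LargeExtra.W2.LFour.MainOf

open Cfsg.Agent.LargeExtra.W2.LFour.PresDef

/-- `Case9aa`, `z` weakly closed in `Q`: `G ≃ PSL₄(3)`, from the closing and the identification. -/
theorem recognize_of {G : Type u} [Group G] [Finite G] [IsSimpleGroup G]
    (closing : ∀ (Q : Subgroup G) (z i j k l x₁ x₂ y s θ w w' : G), Elem2 Q z i j k l x₁ x₂ y s θ w w' →
      Subgroup.closure ({i, j, k, l, x₁, x₂, y, s, w, w'} : Set G) = ⊤)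
    (ident : ∀ (Q : Subgroup G) (z i j k l x₁ x₂ y s θ w w' : G), Pres Q z i j k l x₁ x₂ y s θ w w' →
      Nonempty (↥(Subgroup.closure ({i, j, k, l, x₁, x₂, y, s, w, w'} : Set G)) ≃*
        Matrix.ProjectiveSpecialLinearGroup (Fin 4) (ZMod 3)))
    (Q : Subgroup G) (z i j k l x₁ x₂ y s : G) (h : Case9aa Q z i j k l x₁ x₂ y s)
    (hw : ∀ g : G, g * z * g⁻¹ ∈ Q → g * z * g⁻¹ = z) :
    ∃ (F : Type) (_ : Field F) (_ : Fintype F), Fintype.card F = 3 ∧
      Nonempty (G ≃* Matrix.ProjectiveSpecialLinearGroup (Fin 4) F) := by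
  have h3 : Fact (Nat.Prime 3) := ⟨Nat.prime_three⟩
  obtain ⟨y', s', θ, w, w', hP⟩ := PresOf.exists_pres h hw
  obtain ⟨e⟩ := ident _ _ _ _ _ _ _ _ _ _ _ _ _ hP
  refine ⟨ZMod 3, inferInstance, inferInstance, ZMod.card 3, ⟨?_⟩⟩
  have htop := closing _ _ _ _ _ _ _ _ _ _ _ _ _ hP.toElem2
  exact ((Subgroup.topEquiv (G := G)).symm.trans (MulEquiv.subgroupCongr htop.symm)).trans e

end Cfsg.Agent.LargeExtra.W2.LFour.MainOf
end

-- part: LargeExtra/W2/LFour/Closing
section
/-!
# S1759, `L₄(3)`: `C_G(z), w, w'` generate `G` (helper221)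
-/

set_option autoImplicit false

namespace Cfsg.Agent.LargeExtra.W2.LFour.Closing

open Subgroup Cfsg.Agent.LargeExtra.W2.LFour.PresDef Cfsg.Agent.LargeExtra.W2.LFour.CVInst
  Cfsg.Agent.SmallExtra438.FrameA Cfsg.Agent.SmallExtra438.ClassA

variable {G : Type*} [Group G] {Q : Subgroup G} {z i j k l x₁ x₂ y s θ w w' : G}

/-- `v` is conjugate to `z` or `d` under `K` -/
def Ok (K : Subgroup G) (z d v : G) : Prop := ∃ g ∈ K, g * v * g⁻¹ = z ∨ g * v * g⁻¹ = d

theorem Ok.of_conj {K : Subgroup G} {z d v u c : G} (hc : c ∈ K) (he : c * v * c⁻¹ = u) (h : Ok K z d u) :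
    Ok K z d v := by
  obtain ⟨g, hg, h1⟩ := h
  refine ⟨g * c, mul_mem hg hc, ?_⟩
  have e : g * c * v * (g * c)⁻¹ = g * u * g⁻¹ := by rw [← he]; group
  rw [e]
  exact h1

theorem Ok.of_conj' {K : Subgroup G} {z d v u c : G} (hc : c ∈ K) (he : c * u * c⁻¹ = v) (h : Ok K z d u) :
    Ok K z d v :=
  Ok.of_conj (c := c⁻¹) (inv_mem hc) (by rw [← he]; group) h

/-- **[Z]** `⟨C_G(z), w, w'⟩ = G`. -/
theorem closure_eq_top [Finite G] [IsSimpleGroup G] (h : Elem2 Q z i j k l x₁ x₂ y s θ w w') :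
    _root_.Subgroup.closure ({i, j, k, l, x₁, x₂, y, s, w, w'} : Set G) = ⊤ := by
  obtain ⟨f, M⟩ := mod_of h
  obtain ⟨K, hK⟩ : ∃ K, K = _root_.Subgroup.closure ({i, j, k, l, x₁, x₂, y, s, w, w'} : Set G) := ⟨_, rfl⟩
  have hi : i ∈ K := by rw [hK]; exact _root_.Subgroup.subset_closure (by simp only [_root_.Set.mem_insert_iff, _root_.Set.mem_singleton_iff, _root_.true_or])
  have hj : j ∈ K := by rw [hK]; exact _root_.Subgroup.subset_closure (by simp only [_root_.Set.mem_insert_iff, _root_.Set.mem_singleton_iff, _root_.true_or, _root_.or_true])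
  have hk : k ∈ K := by rw [hK]; exact _root_.Subgroup.subset_closure (by simp only [_root_.Set.mem_insert_iff, _root_.Set.mem_singleton_iff, _root_.true_or, _root_.or_true])
  have hl : l ∈ K := by rw [hK]; exact _root_.Subgroup.subset_closure (by simp only [_root_.Set.mem_insert_iff, _root_.Set.mem_singleton_iff, _root_.true_or, _root_.or_true])
  have hx₁ : x₁ ∈ K := by rw [hK]; exact _root_.Subgroup.subset_closure (by simp only [_root_.Set.mem_insert_iff, _root_.Set.mem_singleton_iff, _root_.true_or, _root_.or_true])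
  have hx₂ : x₂ ∈ K := by rw [hK]; exact _root_.Subgroup.subset_closure (by simp only [_root_.Set.mem_insert_iff, _root_.Set.mem_singleton_iff, _root_.true_or, _root_.or_true])
  have hy : y ∈ K := by rw [hK]; exact _root_.Subgroup.subset_closure (by simp only [_root_.Set.mem_insert_iff, _root_.Set.mem_singleton_iff, _root_.true_or, _root_.or_true])
  have hs : s ∈ K := by rw [hK]; exact _root_.Subgroup.subset_closure (by simp only [_root_.Set.mem_insert_iff, _root_.Set.mem_singleton_iff, _root_.true_or, _root_.or_true])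
  have hw : w ∈ K := by rw [hK]; exact _root_.Subgroup.subset_closure (by simp only [_root_.Set.mem_insert_iff, _root_.Set.mem_singleton_iff, _root_.true_or, _root_.or_true])
  have hw' : w' ∈ K := by rw [hK]; exact _root_.Subgroup.subset_closure (by simp only [_root_.Set.mem_insert_iff, _root_.Set.mem_singleton_iff, _root_.or_true])
  rw [← hK]
  have hCz : ∀ g, g * z = z * g → g ∈ K := by
    intro g hg
    have h1 : g ∈ centralizer ({z} : Set G) := mem_centralizer_singleton_iff.2 hg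
    rw [h.cent] at h1
    refine (closure_le K).2 ?_ h1
    rintro g (rfl | rfl | rfl | rfl | rfl | rfl | rfl | rfl) <;> assumption
  have hCd : ∀ g, g * (i * j * k * l) = i * j * k * l * g → g ∈ K := by
    intro g hg
    have h1 := PEnd.gen h (mem_centralizer_singleton_iff.2 hg)
    refine (closure_le K).2 ?_ h1
    rintro g (rfl | rfl | rfl | rfl | rfl | rfl | rfl)
    · exact mul_mem hi hj
    · exact mul_mem hk hl
    · exact mul_mem hi hk
    · exact hy
    · exact hs
    · exact hw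
    · exact mul_mem (mul_mem hi hw') (inv_mem hi)
  have hzz := h.large.z_sq
  have hz1 := h.large.z_ne
  have hdd : i * j * k * l * (i * j * k * l) = 1 := by code M
  have hd1 : i * j * k * l ≠ 1 := by
    intro e
    have h1 : F z i j k l x₁ x₂ y s 15 = F z i j k l x₁ x₂ y s 0 := by rw [F_15, F_0, e]
    have := F_inj h.toCase9aa (by norm_num) (by norm_num) h1
    omega
  have hdz1 : i * j * k * l * z ≠ 1 := by
    intro e
    have h1 : F z i j k l x₁ x₂ y s 15 = F z i j k l x₁ x₂ y s 16 := by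
      rw [F_15, F_16]
      have e2 : i * j * k * l = i * j * k * l * z * z := by rw [mul_assoc (i * j * k * l), hzz, mul_one]
      rw [e2, e, one_mul]
    have := F_inj h.toCase9aa (by norm_num) (by norm_num) h1
    omega
  have hdz : i * j * k * l ≠ z := by
    intro e
    have h1 : F z i j k l x₁ x₂ y s 15 = F z i j k l x₁ x₂ y s 16 := by rw [F_15, F_16, e]
    have := F_inj h.toCase9aa (by norm_num) (by norm_num) h1
    omega
  have hdzz : i * j * k * l * z ≠ z := fun e => hd1 (mul_eq_right.1 e)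
  have hzQ : z ∈ Q := by
    have := (mem_Q_iff h.toCase9aa (m := 16) (by norm_num)).2 (by norm_num)
    rwa [F_16] at this
  have hdQ : i * j * k * l ∈ Q := by
    have := (mem_Q_iff h.toCase9aa (m := 15) (by norm_num)).2 (by norm_num)
    rwa [F_15] at this
  have ht : Tw 0 z y s := tw_zero h.y_sq h.s_sq h.s_y
  have okz : Ok K z (i * j * k * l) z := ⟨1, one_mem _, Or.inl (by group)⟩
  have okd : Ok K z (i * j * k * l) (i * j * k * l) := ⟨1, one_mem _, Or.inr (by group)⟩
  have okik : Ok K z (i * j * k * l) (i * k) := by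
    obtain ⟨c, hc, hc2⟩ := exists_conj_ik h.toCase9aa hdQ hdd hd1 hdz
    exact Ok.of_conj' (hCz c hc) hc2 okd
  have okdz : Ok K z (i * j * k * l) (i * j * k * l * z) := by
    obtain ⟨c, hc, hc2⟩ := exists_conj_ik h.toCase9aa (mul_mem hdQ hzQ) (by code M) hdz1 hdzz
    exact Ok.of_conj (hCz c hc) hc2 okik
  have oks : Ok K z (i * j * k * l) s := Ok.of_conj hw h.w_s okdz
  have oksy : Ok K z (i * j * k * l) (s * y) := Ok.of_conj hw' h.w'_sy okd
  have e1 : w * z * w⁻¹ = z * s := by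
    calc w * z * w⁻¹ = w * (i * j * k * l * (i * j * k * l * z)) * w⁻¹ := by
          rw [← mul_assoc (i * j * k * l), hdd, one_mul]
      _ = (w * (i * j * k * l)) * (i * j * k * l * z) * w⁻¹ := by group
      _ = i * j * k * l * (w * (i * j * k * l * z) * w⁻¹) := by rw [h.w_d]; group
      _ = i * j * k * l * (i * j * k * l * s * z) := by rw [h.w_dz]
      _ = z * s := by code M
  have e2 : w' * z * w'⁻¹ = z * (y * s) := by
    calc w' * z * w'⁻¹ = w' * (i * j * k * l * (i * j * k * l * z)) * w'⁻¹ := by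
          rw [← mul_assoc (i * j * k * l), hdd, one_mul]
      _ = (w' * (i * j * k * l) * w'⁻¹) * (w' * (i * j * k * l * z)) * w'⁻¹ := by group
      _ = (i * j * k * l * s * y) * (i * j * k * l * z) := by rw [h.w'_d, h.w'_dz]; group
      _ = z * (y * s) := by code M
  have oksz : Ok K z (i * j * k * l) (z * s) := Ok.of_conj' hw e1 okz
  have okzys : Ok K z (i * j * k * l) (z * (y * s)) := Ok.of_conj' hw' e2 okz
  have e3 : w * (z * (y * s)) * w⁻¹ = y * z := by
    calc w * (z * (y * s)) * w⁻¹ = (w * z * w⁻¹) * (w * (s * y)) * w⁻¹ := by rw [h.s_y]; group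
      _ = z * s * (s * y) := by rw [e1, h.w_sy]; group
      _ = y * z := by code M
  have okyz : Ok K z (i * j * k * l) (y * z) := Ok.of_conj' hw e3 okzys
  have oky : Ok K z (i * j * k * l) y :=
    Ok.of_conj (c := i * j) (mul_mem hi hj) (by code M) okyz
  refine Cfsg.Agent.HN.CloseTop.eq_top K (t := z) (w := i * j * k * l)
    (orderOf_eq_prime (by rw [pow_two, hzz]) hz1) (orderOf_eq_prime (by rw [pow_two, hdd]) hd1)
    hCz hCd h.nc ?_
  intro v hv hvz
  have hvv : v * v = 1 := by rw [← pow_two, ← hv, pow_orderOf_eq_one]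
  have hv1 : v ≠ 1 := by
    rintro rfl
    rw [orderOf_one] at hv
    exact absurd hv (by norm_num)
  obtain ⟨r, hr, c, hc, hcr⟩ := class0 h.toCase9aa ht hvz hvv hv1
  refine Ok.of_conj (hCz c hc) hcr ?_
  simp only [List.mem_cons, List.not_mem_nil, or_false] at hr
  rcases hr with rfl | rfl | rfl | rfl | rfl | rfl | rfl
  · rw [F_16]; exact okz
  · rw [F_5]; exact okik
  · rw [F_288]; exact oky
  · rw [F_576]; exact oks
  · rw [Fusion.F_592]; exact oksz
  · rw [Fusion.F_864, ← h.s_y]; exact oksy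
  · rw [Fusion.F_880]; exact okzys

end Cfsg.Agent.LargeExtra.W2.LFour.Closing
end

-- part: LargeExtra/W2/LFour/Main
section
/-!
# S1759, `L₄(3)`: the recognition theorem (helper465, helper995, helper221, helper156, helper842, helper125,
helper373, helper438)
-/

set_option autoImplicit false

universe u

namespace Cfsg.Agent.LargeExtra.W2.LFour.Main

/-- `Case9aa`, `z` weakly closed in `Q`: `G ≃ PSL₄(3)`. -/
theorem recognize {G : Type u} [Group G] [Finite G] [IsSimpleGroup G]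
    (Q : Subgroup G) (z i j k l x₁ x₂ y s : G) (h : Case9aa Q z i j k l x₁ x₂ y s)
    (hw : ∀ g : G, g * z * g⁻¹ ∈ Q → g * z * g⁻¹ = z) :
    ∃ (F : Type) (_ : Field F) (_ : Fintype F), Fintype.card F = 3 ∧
      Nonempty (G ≃* Matrix.ProjectiveSpecialLinearGroup (Fin 4) F) :=
  MainOf.recognize_of (fun _ _ _ _ _ _ _ _ _ _ _ _ _ h => Closing.closure_eq_top h)
    (fun _ _ _ _ _ _ _ _ _ _ _ _ _ h => EnumFinal.of_pres h) Q z i j k l x₁ x₂ y s h hw

end Cfsg.Agent.LargeExtra.W2.LFour.Main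
end

private theorem dce_0ed51d33a470 : _root_.True := by
  try have : _root_.True := by simp only [_root_.Cfsg.Agent.LargeExtra.W2.LFour.Cox.cond.eq_1]
  try have : _root_.True := by simp only [_root_.Cfsg.Agent.LargeExtra.W2.LFour.Cox.chk.eq_1]
  try have : _root_.True := by simp only [_root_.Cfsg.Agent.LargeExtra.W2.LFour.Cox.concl.eq_1]
  exact _root_.True.intro
end
end
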